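import Cfsg.Agent.Lib.OddCyc.Basic

/-!
# Two-elements centralising a four-group or a quaternion group inside a 2-group with a cyclic subgroup of index two
-/

set_option autoImplicit false
set_option linter.unusedSectionVars false

namespace CfsgLib.OddCyc

open Subgroup

variable {S : Type*} [Group S] [Finite S] {A : Subgroup S}

theorem eq_of_mem_cyclic (hA : IsCyclic A) {a b : S} (ha : a ∈ A) (hb : b ∈ A) (hao : orderOf a = 2)
    (hbo : orderOf b = 2) : a = b := by
  classical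
  haveI := Fintype.ofFinite A
  have h2 : 2 ∣ Fintype.card A := by
    rw [← Nat.card_eq_fintype_card]
    exact hao ▸ Subgroup.orderOf_dvd_natCard A ha
  have h1 := IsCyclic.card_orderOf_eq_totient (α := A) h2
  rw [Nat.totient_two] at h1
  exact congrArg Subtype.val (Finset.card_le_one.1 h1.le (⟨a, ha⟩ : A)
    (Finset.mem_filter.2 ⟨Finset.mem_univ _, by rw [Subgroup.orderOf_mk, hao]⟩) ⟨b, hb⟩
    (Finset.mem_filter.2 ⟨Finset.mem_univ _, by rw [Subgroup.orderOf_mk, hbo]⟩))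

theorem orderOf_mul_two {a b : S} (ha : orderOf a = 2) (hb : orderOf b = 2) (hc : Commute a b) (hne : a ≠ b) :
    orderOf (a * b) = 2 := by
  refine orderOf_eq_prime ?_ fun h => hne ?_
  · rw [hc.mul_pow, ← ha, pow_orderOf_eq_one, ha, ← hb, pow_orderOf_eq_one, one_mul]
  · rw [mul_eq_one_iff_eq_inv] at h
    rw [h, inv_eq_of_mul_eq_one_right (by rw [← sq, ← hb, pow_orderOf_eq_one])]

/-- three commuting involutions generate a group of order at most four -/
theorem eq_of_three_invol (hA : IsCyclic A) (hi : A.index = 2) {a b c : S} (ha : orderOf a = 2)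
    (hb : orderOf b = 2) (hc : orderOf c = 2) (hab : Commute a b) (hac : Commute a c) (hbc : Commute b c)
    (hne : a ≠ b) : c = a ∨ c = b ∨ c = a * b := by
  by_contra! h
  obtain ⟨hca, hcb, hcab⟩ := h
  have hmul : ∀ {u v : S}, u * v ∈ A ↔ (u ∈ A ↔ v ∈ A) := Subgroup.mul_mem_iff_of_index_two hi
  by_cases h1 : a ∈ A <;> by_cases h2 : b ∈ A <;> by_cases h3 : c ∈ A
  · exact hne (eq_of_mem_cyclic hA h1 h2 ha hb)
  · exact hne (eq_of_mem_cyclic hA h1 h2 ha hb)
  · exact hca (eq_of_mem_cyclic hA h3 h1 hc ha)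
  · have h4 := eq_of_mem_cyclic hA (hmul.2 (iff_of_false h2 h3)) h1 (orderOf_mul_two hb hc hbc (Ne.symm hcb)) ha
    refine hcab ?_
    rw [hab.eq, ← h4, ← mul_assoc, ← sq, ← hb, pow_orderOf_eq_one, one_mul]
  · exact hcb (eq_of_mem_cyclic hA h3 h2 hc hb)
  · have h4 := eq_of_mem_cyclic hA (hmul.2 (iff_of_false h1 h3)) h2 (orderOf_mul_two ha hc hac (Ne.symm hca)) hb
    refine hcab ?_
    rw [← h4, ← mul_assoc, ← sq, ← ha, pow_orderOf_eq_one, one_mul]
  · have h4 := eq_of_mem_cyclic hA (hmul.2 (iff_of_false h1 h2)) h3 (orderOf_mul_two ha hb hab hne) hc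
    exact hcab h4.symm
  · have h4 := eq_of_mem_cyclic hA (hmul.2 (iff_of_false h1 h2)) (hmul.2 (iff_of_false h1 h3))
      (orderOf_mul_two ha hb hab hne) (orderOf_mul_two ha hc hac (Ne.symm hca))
    exact hcb (mul_left_cancel h4).symm

/-- a 2-element centralising two anticommuting elements of order four -/
theorem sq_eq_one_of_quat (hA : IsCyclic A) (hi : A.index = 2) {i j c : S} (hio : orderOf i = 4)
    (hjo : orderOf j = 4) (hij : j * i * j⁻¹ = i⁻¹) (hji : i * j * i⁻¹ = j⁻¹) (hci : Commute c i)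
    (hcj : Commute c j) {n : ℕ} (hc : c ^ 2 ^ n = 1) : c = 1 ∨ c = i ^ 2 := by
  classical
  -- an element `w` of order four in `A` inverted by `v`
  obtain ⟨w, v, hwA, hwo, hvw, hwsq, hcw, hcv⟩ : ∃ w v, w ∈ A ∧ orderOf w = 4 ∧ v * w * v⁻¹ = w⁻¹ ∧
      w ^ 2 = i ^ 2 ∧ Commute c w ∧ Commute c v := by
    by_cases h1 : i ∈ A
    · exact ⟨i, j, h1, hio, hij, rfl, hci, hcj⟩
    have e1 : i * j = j⁻¹ * i := by rw [← hji, inv_mul_cancel_right]
    have hi4 : i ^ 4 = 1 := hio ▸ pow_orderOf_eq_one i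
    have hj4 : j ^ 4 = 1 := hjo ▸ pow_orderOf_eq_one j
    -- both squares agree
    have hsq : j ^ 2 = i ^ 2 := by
      have h5 : i * j * i * j⁻¹ = 1 := by
        calc i * j * i * j⁻¹ = i * (j * i * j⁻¹) := by group
          _ = 1 := by rw [hij, mul_inv_cancel]
      have h6 : j⁻¹ * i * i * j⁻¹ = 1 := by rw [← e1]; exact h5
      calc j ^ 2 = j * (j⁻¹ * i * i * j⁻¹) * j := by rw [h6, mul_one, sq]
        _ = i ^ 2 := by rw [sq]; group
    by_cases h2 : j ∈ A
    · exact ⟨j, i, h2, hjo, hji, hsq, hcj, hci⟩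
    have hA' : i * j ∈ A := (Subgroup.mul_mem_iff_of_index_two hi).2 (iff_of_false h1 h2)
    have hsq' : (i * j) ^ 2 = i ^ 2 := by
      calc (i * j) ^ 2 = i * j * i * j⁻¹ * j ^ 2 := by rw [sq, sq]; group
        _ = i * (j * i * j⁻¹) * j ^ 2 := by group
        _ = i ^ 2 := by rw [hij, mul_inv_cancel, one_mul, hsq]
    refine ⟨i * j, i, hA', ?_, ?_, hsq', hci.mul_right hcj, hci⟩
    · refine (orderOf_eq_prime_pow (p := 2) (n := 1) ?_ ?_).trans (by norm_num)
      · rw [pow_one, hsq']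
        exact pow_ne_one_of_lt_orderOf two_ne_zero (by rw [hio]; norm_num)
      · rw [show (2 : ℕ) ^ (1 + 1) = 2 * 2 by norm_num, pow_mul, hsq', ← pow_mul, hi4]
    · refine eq_inv_of_mul_eq_one_left ?_
      calc i * (i * j) * i⁻¹ * (i * j) = i * i * j * j := by group
        _ = i ^ 2 * j ^ 2 := by rw [sq, sq, mul_assoc]
        _ = 1 := by rw [hsq, ← pow_add, hi4]
  rw [← hwsq]
  have hcA : c ∈ A := by
    by_contra h
    have hvA : v ∉ A := fun hv => by
      haveI := hA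
      have h1 : (⟨v, hv⟩ : A) * ⟨w, hwA⟩ = ⟨w, hwA⟩ * ⟨v, hv⟩ := IsCyclic.commGroup.mul_comm _ _
      have h2 : v * w * v⁻¹ = w := by rw [show v * w = w * v from congrArg Subtype.val h1, mul_inv_cancel_right]
      rw [hvw] at h2
      have h3 : w ^ 2 = 1 := by
        calc w ^ 2 = w⁻¹ * w := by rw [h2, sq]
          _ = 1 := inv_mul_cancel w
      exact pow_ne_one_of_lt_orderOf two_ne_zero (by rw [hwo]; norm_num) h3
    have h1 : c * v ∈ A := (Subgroup.mul_mem_iff_of_index_two hi).2 (iff_of_false h hvA)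
    haveI := hA
    have h2 : c * v * w = w * (c * v) := congrArg Subtype.val
      (IsCyclic.commGroup.mul_comm (⟨c * v, h1⟩ : A) ⟨w, hwA⟩)
    have h4 : w⁻¹ = w := by
      calc w⁻¹ = v * w * v⁻¹ := hvw.symm
        _ = c⁻¹ * (c * v * w) * v⁻¹ := by group
        _ = c⁻¹ * (w * c) := by rw [h2]; group
        _ = w := by rw [← hcw.eq, inv_mul_cancel_left]
    exact pow_ne_one_of_lt_orderOf (n := 2) two_ne_zero (by rw [hwo]; norm_num)
      (by rw [sq]; exact mul_eq_one_iff_eq_inv.2 h4.symm)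
  -- conjugation by `v` on the cyclic group
  haveI := Subgroup.normal_of_index_eq_two hi
  haveI := hA
  obtain ⟨r, hr⟩ := MonoidHom.map_cyclic ((MulAut.conjNormal v : MulAut A).toMonoidHom)
  have hr' : ∀ x ∈ A, v * x * v⁻¹ = x ^ r := fun x hx => by
    have := congrArg Subtype.val (hr ⟨x, hx⟩)
    simpa [MulAut.conjNormal_apply] using this
  have h1 : c ^ (r - 1) = 1 := by
    have h2 := hr' c hcA
    rw [hcv.symm.eq, mul_inv_cancel_right] at h2
    rw [_root_.zpow_sub_one, ← h2, mul_inv_cancel]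
  have h2 : w ^ (r + 1) = 1 := by
    rw [_root_.zpow_add_one, ← hr' w hwA, hvw, inv_mul_cancel]
  have h3 : (4 : ℤ) ∣ r + 1 := by
    rw [← orderOf_dvd_iff_zpow_eq_one, hwo] at h2
    exact_mod_cast h2
  rcases eq_or_ne c 1 with h | h
  · exact Or.inl h
  refine Or.inr (eq_of_mem_cyclic hA hcA (pow_mem hwA 2) ?_ ?_)
  · obtain ⟨i', -, hi'⟩ := (Nat.dvd_prime_pow Nat.prime_two).1 (orderOf_dvd_of_pow_eq_one hc)
    rw [← orderOf_dvd_iff_zpow_eq_one, hi'] at h1
    push_cast at h1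
    rcases Nat.lt_or_ge i' 2 with hlt | hge
    · interval_cases i'
      · exact absurd (orderOf_eq_one_iff.1 (by simpa using hi')) h
      · simpa using hi'
    · have h5 : (4 : ℤ) ∣ r - 1 := dvd_trans (by
        rw [show (4 : ℤ) = 2 ^ 2 by norm_num]; exact pow_dvd_pow 2 hge) h1
      omega
  · rw [orderOf_pow' _ two_ne_zero, hwo]
    norm_num

end CfsgLib.OddCyc
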