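import Cfsg.Agent.Lib.OddCyc.Basic
import Cfsg.Agent.Lib.AutPSL.Main
import Cfsg.Agent.Lib.CIT.PslModel
import Cfsg.Agent.Lib.Char.SubBlock.Small2
import Cfsg.Agent.Lib.Classical.SL2Sylow
import Cfsg.Prelude.Def_SporadicB

/-!
# The field of a two-dimensional linear group with cyclic Sylow subgroups of odd order
-/

set_option autoImplicit false
set_option linter.unusedSectionVars false
set_option linter.style.haveILetI false

namespace CfsgLib.OddCyc

open Subgroup Matrix CfsgLib.AutPSL
open scoped MatrixGroups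

variable {F : Type*} [Field F] [Fintype F]

/-- the root homomorphism -/
noncomputable def rootHom (F : Type*) [Field F] : Multiplicative F →* SL(2, F) :=
  { toFun := fun t => xr (zero_ne_one (α := Fin 2)) (Multiplicative.toAdd t)
    map_one' := xr_zero _
    map_mul' := fun s t => by rw [toAdd_mul, xr_mul] }

theorem rootHom_injective : Function.Injective (proj.comp (rootHom F)) := fun s t h =>
  Multiplicative.toAdd.injective (proj_xr_inj (zero_ne_one (α := Fin 2)) h)

theorem card_prime_of_inj (hodd : Odd (Fintype.card F)) {G : Type*} [Group G] [Finite G] (hG : OddCyclic G)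
    (f : Multiplicative F →* G) (hf : Function.Injective f) : (Fintype.card F).Prime := by
  classical
  obtain ⟨p, hchar⟩ := CharP.exists F
  haveI := hchar
  haveI hp : Fact p.Prime := ⟨CharP.char_is_prime F p⟩
  obtain ⟨n, -, hn⟩ := FiniteField.card F p
  have hp2 : p ≠ 2 := by
    rintro rfl
    rw [hn] at hodd
    exact Nat.not_odd_iff_even.2 (even_iff_two_dvd.2 (dvd_pow_self 2 n.ne_zero)) hodd
  have hcard : Nat.card (Multiplicative F) = p ^ (n : ℕ) := by
    rw [Nat.card_congr (Multiplicative.toAdd (α := F)), Nat.card_eq_fintype_card, hn]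
  have hcyc := hG p hp.out hp2 f.range (IsPGroup.of_card (n := n) (by
    rw [← Nat.card_congr (MonoidHom.ofInjective hf).toEquiv, hcard]))
  haveI : IsCyclic (Multiplicative F) := (MonoidHom.ofInjective hf).isCyclic.2 hcyc
  obtain ⟨g, hg⟩ := IsCyclic.exists_ofOrder_eq_natCard (α := Multiplicative F)
  have h1 : orderOf g ∣ p := orderOf_dvd_of_pow_eq_one (by
    refine Multiplicative.toAdd.injective ?_
    rw [toAdd_pow, toAdd_one, nsmul_eq_mul, CharP.cast_eq_zero, zero_mul])
  rw [hg, hcard] at h1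
  have hn1 : (n : ℕ) = 1 := by
    have h2 := (Nat.pow_dvd_pow_iff_le_right hp.out.one_lt).1 (h1.trans (pow_one p).symm.dvd)
    have := n.pos
    omega
  rw [hn, hn1, pow_one]
  exact hp.out

theorem card_prime_psl (hodd : Odd (Fintype.card F)) {G : Type*} [Group G] [Finite G] (hG : OddCyclic G)
    (e : G ≃* Matrix.ProjectiveSpecialLinearGroup (Fin 2) F) : (Fintype.card F).Prime :=
  card_prime_of_inj hodd hG (e.symm.toMonoidHom.comp (proj.comp (rootHom F)))
    (e.symm.injective.comp rootHom_injective)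

theorem card_prime_sl (hodd : Odd (Fintype.card F)) {G : Type*} [Group G] [Finite G] (hG : OddCyclic G)
    (e : G ≃* SL(2, F)) : (Fintype.card F).Prime :=
  card_prime_of_inj hodd hG (e.symm.toMonoidHom.comp (rootHom F))
    (e.symm.injective.comp fun s t h => rootHom_injective (congrArg proj h))

theorem alt_seven_threes : ∃ x y : alternatingGroup (Fin 7), x ^ 3 = 1 ∧ y ^ 3 = 1 ∧ x ≠ 1 ∧ x * y = y * x ∧
    y ≠ 1 ∧ y ≠ x ∧ y ≠ x * x :=
  ⟨⟨Equiv.swap 0 1 * Equiv.swap 1 2, Equiv.Perm.mem_alternatingGroup.2 (by simp [Equiv.Perm.sign_swap'])⟩,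
    ⟨Equiv.swap 3 4 * Equiv.swap 4 5, Equiv.Perm.mem_alternatingGroup.2 (by simp [Equiv.Perm.sign_swap'])⟩,
    by decide +kernel⟩

/-- the alternating group of degree seven has a non-cyclic Sylow 3-subgroup -/
theorem not_oddCyclic_alt_seven {G : Type*} [Group G] [Finite G] (hG : OddCyclic G)
    (e : G ≃* alternatingGroup (Fin 7)) : False := by
  obtain ⟨x, y, hx, hy, hx1, hc, hy1, hyx, hyx2⟩ := alt_seven_threes
  have hA : OddCyclic (alternatingGroup (Fin 7)) := hG.of_surjective e.toMonoidHom e.surjective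
  haveI : Fact (Nat.Prime 3) := ⟨Nat.prime_three⟩
  have hxo : orderOf x = 3 := orderOf_eq_prime hx hx1
  obtain ⟨i, hi⟩ := mem_zpowers_iff.1 (hA.mem_zpowers_of_commute Nat.prime_three (by norm_num) hxo hy hc)
  rw [← zpow_mod_orderOf, hxo] at hi
  have h0 : 0 ≤ i % 3 := Int.emod_nonneg _ (by norm_num)
  have h3 : i % 3 < 3 := Int.emod_lt_of_pos _ (by norm_num)
  rcases (show i % 3 = 0 ∨ i % 3 = 1 ∨ i % 3 = 2 by omega) with h | h | h <;> simp only [Nat.cast_ofNat, h] at hi
  · exact hy1 (by simpa using hi.symm)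
  · exact hyx (by simpa using hi.symm)
  · exact hyx2 (by rw [← hi, show (2 : ℤ) = ((2 : ℕ) : ℤ) from rfl, zpow_natCast, sq])

theorem not_oddCyclic_cover_alt_seven {G : Type*} [Group G] [Finite G] (hG : OddCyclic G)
    (h : Cfsg.IsNonsplitDoubleCover G ↥(alternatingGroup (Fin 7))) : False := by
  obtain ⟨-, ⟨e⟩, -⟩ := h
  exact not_oddCyclic_alt_seven (hG.quotient _) e

/-- a field of prime order is a prime field -/
theorem exists_zmod_equiv {F : Type} [Field F] [Fintype F] (hp : (Fintype.card F).Prime) :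
    ∃ (p : ℕ) (_ : Fact p.Prime), p = Fintype.card F ∧ Nonempty (F ≃+* ZMod p) :=
  ⟨Fintype.card F, ⟨hp⟩, rfl, by
    haveI : Fact (Fintype.card F).Prime := ⟨hp⟩
    exact ⟨(ZMod.ringEquivOfPrime F hp rfl).symm⟩⟩

end CfsgLib.OddCyc
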