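import Cfsg.Agent.Lib.OddCyc.Shape
import Cfsg.Agent.Lib.OddCyc.Recog
import Cfsg.Agent.Lib.OddCyc.Pair
import Cfsg.Agent.Lib.GW.Final
import Cfsg.Agent.Lib.GW.DoubleCover
import Cfsg.Agent.Lib.Char.FeitBlichfeldt
import Cfsg.Agent.Lib.FT.NoMinSimple
import Cfsg.Agent.Lib.OneComposite.Nonsolvable
import Cfsg.Agent.Lib.GW.XFacts
import Cfsg.Agent.Lib.Lie.CentralPair
import Cfsg.Agent.Lib.Invol.InvolCentralizer

/-!
# Nonsolvable groups with cyclic Sylow subgroups of odd order and almost cyclic Sylow 2-subgroups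

The structure (S4069), given that semidihedral Sylow 2-subgroups do not occur without a subgroup of index two.
-/

set_option autoImplicit false
set_option linter.unusedSectionVars false
set_option linter.style.haveILetI false

namespace CfsgLib.OddCyc

open Subgroup Matrix
open scoped MatrixGroups

universe u

/-- no semidihedral Sylow 2-subgroups -/
def NoSemidihedral : Prop :=
  ∀ (H : Type u) [Group H] [Finite H], OddCyclic H → (∀ M : Subgroup H, M.index ≠ 2) → ∀ S : Sylow 2 H,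
    ¬ Cfsg.IsQuasiDihedral ↥(S : Subgroup H)

theorem index_ne_two_of_perfect {X : Type*} [Group X] [Group.IsPerfect X] (M : Subgroup X) : M.index ≠ 2 := by
  intro h
  haveI := Subgroup.normal_of_index_eq_two h
  haveI : IsCyclic (X ⧸ M) := isCyclic_of_prime_card (p := 2) (by rw [← Subgroup.index_eq_card, h])
  have hle : commutator X ≤ (QuotientGroup.mk' M).ker := Subgroup.commutator_le.2 fun a _ b _ =>
    MonoidHom.mem_ker.2 (by
      rw [map_commutatorElement, commutatorElement_eq_one_iff_mul_comm]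
      exact IsCyclic.commGroup.mul_comm _ _)
  rw [Group.IsPerfect.commutator_eq_top, top_le_iff, QuotientGroup.ker_mk'] at hle
  rw [hle, Subgroup.index_top] at h
  omega

theorem pRankLE_one_of_quaternion {Q : Type*} [Group Q] {n : ℕ} [NeZero n] (e : Q ≃* QuaternionGroup n) :
    Cfsg.PRankLE 2 1 Q := by
  intro A _ hA
  rw [pow_one]
  haveI : Finite Q := Finite.of_equiv _ e.symm.toEquiv
  have hsub : ∀ a ∈ A, a = 1 ∨ e a = QuaternionGroup.a (n : ZMod (2 * n)) := by
    intro a ha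
    have h2 : e a ^ 2 = 1 := by rw [← map_pow, hA a ha, map_one]
    obtain ⟨i, hi⟩ | ⟨i, hi⟩ : (∃ i, e a = .a i) ∨ ∃ i, e a = .xa i := by
      rcases e a with i | i
      · exact Or.inl ⟨i, rfl⟩
      · exact Or.inr ⟨i, rfl⟩
    · rw [hi, sq, QuaternionGroup.a_mul_a, QuaternionGroup.one_def, QuaternionGroup.a.injEq] at h2
      obtain ⟨j, hj⟩ : ((2 * n : ℕ) : ℤ) ∣ 2 * (i.val : ℤ) := by
        rw [← ZMod.intCast_zmod_eq_zero_iff_dvd]
        push_cast
        rw [ZMod.natCast_zmod_val, two_mul i, h2]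
      have hlt : (i.val : ℤ) < 2 * n := by exact_mod_cast i.val_lt
      have hn : (0 : ℤ) < n := by exact_mod_cast NeZero.pos n
      push_cast at hj
      have hj' : (i.val : ℤ) = n * j := by linarith
      have hj0 : 0 ≤ j := by nlinarith
      have hj2 : j < 2 := by nlinarith
      rcases (show j = 0 ∨ j = 1 by omega) with rfl | rfl
      · left
        have h0 : i = 0 := (ZMod.val_eq_zero i).1 (by exact_mod_cast (show (i.val : ℤ) = 0 by rw [hj', mul_zero]))
        exact e.injective (by rw [hi, h0, map_one, QuaternionGroup.one_def])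
      · right
        rw [hi]
        congr 1
        rw [← ZMod.natCast_zmod_val i]
        congr 1
        exact_mod_cast (show (i.val : ℤ) = n by rw [hj', mul_one])
    · have h4 := QuaternionGroup.orderOf_xa (n := n) i
      have h5 := orderOf_dvd_of_pow_eq_one h2
      rw [hi, h4] at h5
      norm_num at h5
  have hcard : Nat.card A ≤ Nat.card (({1, e.symm (QuaternionGroup.a (n : ZMod (2 * n)))} : Set Q)) :=
    Nat.card_mono (Set.toFinite _) fun a ha => by
      rcases hsub a ha with h | h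
      · exact Or.inl h
      · exact Or.inr (e.injective (by simpa using h))
  refine hcard.trans ?_
  rw [Nat.card_coe_set_eq]
  refine (Set.ncard_insert_le _ _).trans ?_
  rw [Set.ncard_singleton]

variable {G : Type u} [Group G] [Finite G]

/-- what the linear group needs -/
def Core (L : Subgroup G) : Prop :=
  ∃ (F : Type) (_ : Field F) (_ : Fintype F), Odd (Fintype.card F) ∧ 5 ≤ Fintype.card F ∧
    (Fintype.card F).Prime ∧
    ((Nonempty (↥L ≃* Matrix.ProjectiveSpecialLinearGroup (Fin 2) F) ∧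
        ∃ a b : G, a ∈ L ∧ b ∈ L ∧ orderOf a = 2 ∧ orderOf b = 2 ∧ a ≠ b ∧ Commute a b) ∨
      (Nonempty (↥L ≃* SL(2, F)) ∧
        ∃ i j : G, i ∈ L ∧ j ∈ L ∧ orderOf i = 4 ∧ orderOf j = 4 ∧ j * i * j⁻¹ = i⁻¹ ∧ i * j * i⁻¹ = j⁻¹ ∧
          ∀ n : G, n ∈ (zpowers i ⊔ zpowers j : Subgroup G) → ∃ k : ℕ, n ^ 2 ^ k = 1))

theorem exists_core (hmain : NoSemidihedral.{u}) (hG : OddCyclic G)
    (h2 : ∀ S : Sylow 2 G, ∃ C : Subgroup ↥(S : Subgroup G), IsCyclic C ∧ C.index ∣ 2)
    (L : Subgroup G) (hL : L ≠ ⊥) (hperf : commutator L = ⊤) : Core L := by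
  classical
  haveI : Fact (Nat.Prime 2) := ⟨Nat.prime_two⟩
  haveI : Group.IsPerfect L := ⟨hperf⟩
  haveI : Nontrivial L := (Subgroup.nontrivial_iff_ne_bot L).2 hL
  have hLc : OddCyclic L := hG.subgroup L
  have hns : ¬ Group.IsSolvable L := fun h => by
    haveI := h
    exact (Group.IsSolvable.commutator_lt_top_of_nontrivial L).ne hperf
  have heven : Even (Nat.card L) := by
    rw [← Nat.not_odd_iff_even]
    exact fun h => hns (CfsgLib.FT.isSolvable_of_odd L h)
  obtain ⟨T⟩ : Nonempty (Sylow 2 L) := inferInstance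
  obtain ⟨S, hS⟩ := (T.2.map L.subtype).exists_le_sylow
  obtain ⟨A, hA, hAi⟩ := h2 S
  -- the trace on the Sylow subgroup of `L`
  let f : ↥(T : Subgroup L) →* ↥(S : Subgroup G) :=
    { toFun := fun x => ⟨((x : L) : G), hS ⟨x, x.2, rfl⟩⟩
      map_one' := rfl
      map_mul' := fun _ _ => rfl }
  have hf : Function.Injective f := fun x y h => Subtype.ext (Subtype.ext (congrArg
    (fun w : ↥(S : Subgroup G) => (w : G)) h))
  have hC : IsCyclic (A.comap f) := by
    haveI := hA
    exact isCyclic_of_injective (f.subgroupComap A) fun x y h =>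
      Subtype.ext (hf (congrArg Subtype.val h))
  have hCi : (A.comap f).index ∣ 2 := by
    rw [Subgroup.index_comap]
    rcases (Nat.dvd_prime Nat.prime_two).1 hAi with h | h
    · rw [Subgroup.index_eq_one] at h
      rw [h, Subgroup.relIndex_top_left]
      norm_num
    · haveI := Subgroup.normal_of_index_eq_two h
      exact (Subgroup.relIndex_dvd_index_of_normal A _).trans h.dvd
  have hidx : ∀ M : Subgroup L, M.index ≠ 2 := index_ne_two_of_perfect
  have h2L : 2 ∣ Nat.card ↥(T : Subgroup L) := by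
    obtain ⟨u, hu⟩ := exists_prime_orderOf_dvd_card' 2 heven.two_dvd
    obtain ⟨T', hT'⟩ := (IsPGroup.of_card (n := 1) (by rw [Nat.card_zpowers, hu, pow_one]) :
      IsPGroup 2 (zpowers u)).exists_le_sylow
    rw [Nat.card_congr (Sylow.equiv T T').toEquiv]
    exact hu.symm.dvd.trans (Subgroup.orderOf_dvd_natCard _ (hT' (mem_zpowers u)))
  -- the odd core is trivial
  have hO : Cfsg.oddCore L = ⊥ := by
    by_contra hne
    have hodd : Odd (Nat.card (Cfsg.oddCore L)) := GW.odd_oddCore L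
    obtain ⟨r, hr, hrd⟩ := Nat.exists_prime_and_dvd (n := Nat.card (Cfsg.oddCore L))
      fun h => hne (Subgroup.card_eq_one.1 h)
    haveI := Fact.mk hr
    obtain ⟨x, hx⟩ := exists_prime_orderOf_dvd_card' r hrd
    obtain ⟨P, hP⟩ := (IsPGroup.of_card (n := 1) (by rw [Nat.card_zpowers, Subgroup.orderOf_coe, hx, pow_one]) :
      IsPGroup r (zpowers (x : L))).exists_le_sylow
    have hr2 : r ≠ 2 := fun h => Nat.not_even_iff_odd.2 hodd (even_iff_two_dvd.2 (h ▸ hrd))
    haveI := hLc r hr hr2 P P.2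
    have h0 := CfsgLib.Char.FeitBlichfeldt.inf_center_eq_bot P (fun a ha b hb => congrArg Subtype.val
      (IsCyclic.commGroup.mul_comm (⟨a, ha⟩ : (P : Subgroup L)) ⟨b, hb⟩)) hperf
    have h1 : (x : L) ∈ (⊥ : Subgroup L) := by
      rw [← h0]
      exact ⟨hP (mem_zpowers _), Subgroup.mem_center_iff.2 fun w =>
        (commute_of_perfect hLc _ hodd w x.2).eq⟩
    rw [Subgroup.mem_bot] at h1
    rw [← Subgroup.orderOf_coe, h1, orderOf_one] at hx
    exact hr.one_lt.ne hx
  let e0 : L ⧸ Cfsg.oddCore L ≃* L := (QuotientGroup.quotientMulEquivOfEq hO).trans QuotientGroup.quotientBot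
  have hcard5 : ∀ (F : Type) [Field F] [Fintype F], Odd (Fintype.card F) → 3 < Fintype.card F →
      5 ≤ Fintype.card F := fun F _ _ ho h3 => by
    rw [Nat.odd_iff] at ho
    omega
  rcases two_shape hidx T (A.comap f) hC hCi with h | ⟨n, hn, ⟨e⟩⟩ | ⟨n, ⟨e⟩⟩ | h
  · exfalso
    obtain ⟨M, hM⟩ : ∃ M : Subgroup L, M.index = 2 := by
      haveI := h
      obtain ⟨R, K, hK, hRK⟩ := CfsgLib.Invol.hasNormalPComplement_two_of_isCyclic T h
      obtain ⟨k, hk⟩ := R.2.exists_card_eq
      have hk0 : k ≠ 0 := fun h0 => by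
        rw [h0, pow_zero] at hk
        rw [← Nat.card_congr (Sylow.equiv R T).toEquiv, hk] at h2L
        norm_num at h2L
      obtain ⟨k', rfl⟩ := Nat.exists_eq_succ_of_ne_zero hk0
      exact CfsgLib.Invol.exists_index_two_of_two_pow_index K (k := k') (by rw [hRK.symm.index_eq_card, hk])
    exact hidx M hM
  · rcases CfsgLib.GW.gw_perfect L (CfsgLib.GW.dihTwo_of_sylow T hn e) with ⟨F, iF, jF, ho, h3, ⟨eF⟩⟩ | ⟨⟨eA⟩⟩
    swap
    · exact (not_oddCyclic_alt_seven hLc (e0.symm.trans eA)).elim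
    let eL := e0.symm.trans eF
    refine ⟨F, iF, jF, ho, hcard5 F ho h3, card_prime_psl ho hLc eL, Or.inl ⟨⟨eL⟩, ?_⟩⟩
    -- a four group
    have hex : ∀ m : ℕ, 2 ≤ m → 2 ∣ m → ∃ a b : DihedralGroup m,
        orderOf a = 2 ∧ orderOf b = 2 ∧ a ≠ b ∧ Commute a b := by
      rintro m hm ⟨j, rfl⟩
      haveI : NeZero (2 * j) := ⟨by omega⟩
      refine ⟨.sr 0, .r (j : ZMod (2 * j)), DihedralGroup.orderOf_sr 0, ?_, fun h => by simp at h, ?_⟩
      · rw [DihedralGroup.orderOf_r, ZMod.val_natCast_of_lt (by omega), Nat.gcd_eq_right (dvd_mul_left j 2),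
          Nat.mul_div_cancel _ (by omega)]
      · show DihedralGroup.sr 0 * DihedralGroup.r _ = DihedralGroup.r _ * DihedralGroup.sr 0
        rw [DihedralGroup.sr_mul_r, DihedralGroup.r_mul_sr, zero_add, zero_sub]
        congr 1
        rw [eq_neg_iff_add_eq_zero, ← two_mul]
        exact_mod_cast ZMod.natCast_self (2 * j)
    obtain ⟨k, hk⟩ := T.2.exists_card_eq
    rw [Nat.card_congr e.toEquiv, DihedralGroup.nat_card] at hk
    obtain ⟨a, b, ha, hb, hab, hc⟩ := hex n hn (by
      rcases Nat.lt_or_ge k 2 with h | h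
      · interval_cases k <;> omega
      · refine ⟨2 ^ (k - 2), ?_⟩
        rw [← pow_succ', show k - 2 + 1 = k - 1 by omega]
        refine Nat.eq_of_mul_eq_mul_left two_pos (hk.trans ?_)
        rw [← pow_succ', show k - 1 + 1 = k by omega])
    refine ⟨((e.symm a : L) : G), ((e.symm b : L) : G), (e.symm a : L).2, (e.symm b : L).2, ?_, ?_, ?_, ?_⟩
    · rw [Subgroup.orderOf_coe, Subgroup.orderOf_coe, MulEquiv.orderOf_eq, ha]
    · rw [Subgroup.orderOf_coe, Subgroup.orderOf_coe, MulEquiv.orderOf_eq, hb]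
    · exact fun h => hab (e.symm.injective (Subtype.ext (Subtype.ext h)))
    · exact ((hc.map e.symm.toMonoidHom).map (T : Subgroup L).subtype).map L.subtype
  · have hn0 : n ≠ 0 := by
      rintro rfl
      haveI : IsCyclic ↥(T : Subgroup L) := e.isCyclic.2 (by
        rw [pow_zero]; exact QuaternionGroup.quaternionGroup_one_isCyclic)
      obtain ⟨R, K, hK, hRK⟩ := CfsgLib.Invol.hasNormalPComplement_two_of_isCyclic T inferInstance
      obtain ⟨k, hk⟩ := R.2.exists_card_eq
      obtain ⟨k', rfl⟩ := Nat.exists_eq_succ_of_ne_zero (n := k) fun h0 => by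
        rw [h0, pow_zero] at hk
        rw [← Nat.card_congr (Sylow.equiv R T).toEquiv, hk] at h2L
        norm_num at h2L
      obtain ⟨M, hM⟩ := CfsgLib.Invol.exists_index_two_of_two_pow_index K (k := k')
        (by rw [hRK.symm.index_eq_card, hk])
      exact hidx M hM
    haveI : NeZero (2 ^ n) := ⟨pow_ne_zero _ two_ne_zero⟩
    have hr1 : Cfsg.PRankLE 2 1 L := by
      intro B hB hBe
      have hBp : IsPGroup 2 B := fun b => ⟨1, Subtype.ext (by simpa using hBe b b.2)⟩
      obtain ⟨T', hT'⟩ := hBp.exists_le_sylow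
      have h := pRankLE_one_of_quaternion ((Sylow.equiv T' T).trans e) (B.subgroupOf (T' : Subgroup L))
        (isMulCommutative_iff.2 fun x y => Subtype.ext (Subtype.ext (congrArg (fun w : B => (w : L))
          (mul_comm' (⟨x.1, x.2⟩ : B) ⟨y.1, y.2⟩))))
        fun x hx => Subtype.ext (by simpa using hBe x hx)
      rwa [Nat.card_congr (Subgroup.subgroupOfEquivOfLe hT').toEquiv] at h
    rcases CfsgLib.GW.perfect_rank_one hr1 heven (CfsgLib.GW.gwBelow _) with
      ⟨F, iF, jF, ho, h3, ⟨eF⟩⟩ | h7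
    swap
    · exact (not_oddCyclic_cover_alt_seven (hLc.quotient _) h7).elim
    let eL := e0.symm.trans eF
    refine ⟨F, iF, jF, ho, hcard5 F ho h3, card_prime_sl ho hLc eL, Or.inr ⟨⟨eL⟩, ?_⟩⟩
    set N := 2 ^ n with hN
    let ψ : QuaternionGroup N →* G := L.subtype.comp ((T : Subgroup L).subtype.comp e.symm.toMonoidHom)
    have hψ : Function.Injective ψ :=
      L.subtype_injective.comp ((T : Subgroup L).subtype_injective.comp e.symm.injective)
    obtain ⟨q, hq⟩ : 2 ∣ N := dvd_pow_self 2 hn0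
    have hq0 : 0 < q := by
      rcases Nat.eq_zero_or_pos q with rfl | h
      · exact absurd hq (by simpa using pow_ne_zero n two_ne_zero)
      · exact h
    have hN2 : ((N : ℕ) : ZMod (2 * N)) + (N : ℕ) = 0 := by
      rw [← two_mul]; exact_mod_cast ZMod.natCast_self (2 * N)
    have hqq : ((q : ℕ) : ZMod (2 * N)) + (q : ℕ) = (N : ℕ) := by
      rw [← two_mul]; exact_mod_cast congrArg (fun v : ℕ => (v : ZMod (2 * N))) hq.symm
    refine ⟨ψ (.a (q : ZMod (2 * N))), ψ (.xa 0), (Subtype.prop _ : _ ∈ L), (Subtype.prop _ : _ ∈ L), ?_, ?_,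
      ?_, ?_, ?_⟩
    · rw [orderOf_injective ψ hψ, QuaternionGroup.orderOf_a, ZMod.val_natCast_of_lt (by omega),
        Nat.gcd_eq_right ⟨4, by omega⟩, show 2 * N = 4 * q by omega, Nat.mul_div_cancel _ hq0]
    · rw [orderOf_injective ψ hψ, QuaternionGroup.orderOf_xa]
    · rw [← map_mul, ← map_inv, ← map_mul, ← map_inv, QuaternionGroup.xa_mul_a]
      congr 1
      show QuaternionGroup.xa (0 + (q : ZMod (2 * N))) * QuaternionGroup.xa (((N : ℕ) : ZMod (2 * N)) + 0) =
        QuaternionGroup.a (-(q : ZMod (2 * N)))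
      rw [QuaternionGroup.xa_mul_xa]
      congr 1
      linear_combination hN2
    · rw [← map_mul, ← map_inv, ← map_mul, ← map_inv, QuaternionGroup.a_mul_xa]
      congr 1
      show QuaternionGroup.xa ((0 : ZMod (2 * N)) - (q : ZMod (2 * N))) * QuaternionGroup.a (-(q : ZMod (2 * N))) =
        QuaternionGroup.xa (((N : ℕ) : ZMod (2 * N)) + 0)
      rw [QuaternionGroup.xa_mul_a]
      congr 1
      linear_combination -hqq - hN2
    · intro x hx
      have hle : zpowers (ψ (.a (q : ZMod (2 * N)))) ⊔ zpowers (ψ (.xa 0)) ≤ ψ.range :=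
        sup_le (zpowers_le.2 ⟨_, rfl⟩) (zpowers_le.2 ⟨_, rfl⟩)
      obtain ⟨w, rfl⟩ := hle hx
      obtain ⟨k, hk⟩ := T.2 (e.symm w)
      exact ⟨k, by rw [← map_pow, ← e.apply_symm_apply w, ← map_pow, hk, map_one, map_one]⟩
  · exact (hmain L hLc hidx T h).elim

/-- two commuting two-groups lie in a Sylow subgroup -/
theorem exists_sylow_pair {c : G} {U : Subgroup G} (hc : IsPGroup 2 (zpowers c)) (hU : IsPGroup 2 U)
    (hcomm : ∀ x ∈ U, Commute c x) : ∃ S : Sylow 2 G, c ∈ (S : Subgroup G) ∧ U ≤ (S : Subgroup G) := by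
  haveI : Fact (Nat.Prime 2) := ⟨Nat.prime_two⟩
  have hn : U ≤ normalizer (zpowers c : Set G) := fun x hx =>
    Subgroup.centralizer_le_normalizer _ (Subgroup.mem_centralizer_iff.2 fun y hy => by
      obtain ⟨i, rfl⟩ := mem_zpowers_iff.1 hy
      exact ((hcomm x hx).zpow_left i).eq)
  obtain ⟨S, hS⟩ := (hc.to_sup_of_normal_left' hU hn).exists_le_sylow
  exact ⟨S, hS (le_sup_left (a := zpowers c) (mem_zpowers c)), le_trans le_sup_right hS⟩

/-- the centraliser of the linear group -/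
theorem two_elements (h2 : ∀ S : Sylow 2 G, ∃ C : Subgroup ↥(S : Subgroup G), IsCyclic C ∧ C.index ∣ 2)
    (L : Subgroup G) (hL : Core L) {c : G} (hc : c ∈ centralizer (L : Set G)) {k : ℕ} (hk : c ^ 2 ^ k = 1) :
    c ∈ L := by
  classical
  haveI : Fact (Nat.Prime 2) := ⟨Nat.prime_two⟩
  have hcomm : ∀ x ∈ L, Commute c x := fun x hx => (Subgroup.mem_centralizer_iff.1 hc x hx).symm
  have hzc : IsPGroup 2 (zpowers c) := by
    obtain ⟨i, -, hi⟩ := (Nat.dvd_prime_pow Nat.prime_two).1 (orderOf_dvd_of_pow_eq_one hk)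
    exact IsPGroup.of_card (n := i) (by rw [Nat.card_zpowers, hi])
  have hone : ∀ {S : Sylow 2 G} {A : Subgroup ↥(S : Subgroup G)}, IsCyclic A → A.index = 1 →
      ∀ {x y : ↥(S : Subgroup G)}, orderOf x = 2 → orderOf y = 2 → x = y := by
    intro S A hA h1 x y hx hy
    rw [Subgroup.index_eq_one] at h1
    subst h1
    exact eq_of_mem_cyclic hA (mem_top x) (mem_top y) hx hy
  obtain ⟨F, iF, jF, ho, -, -, ⟨⟨eL⟩, a, b, haL, hbL, ha, hb, hab, hcab⟩ |
    ⟨-, i, j, hiL, hjL, hi, hj, hij, hji, hpg⟩⟩ := hL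
  · by_contra hcL
    have hc1 : c ≠ 1 := fun h => hcL (h ▸ one_mem L)
    obtain ⟨d, hd, hdc⟩ : ∃ d, orderOf d = 2 ∧ d ∈ zpowers c := by
      obtain ⟨i, -, hi⟩ := (Nat.dvd_prime_pow Nat.prime_two).1 (orderOf_dvd_of_pow_eq_one hk)
      have hi0 : i ≠ 0 := fun h => hc1 (orderOf_eq_one_iff.1 (by rw [hi, h, pow_zero]))
      refine ⟨c ^ 2 ^ (i - 1), ?_, pow_mem (mem_zpowers c) _⟩
      rw [orderOf_pow' _ (pow_ne_zero _ two_ne_zero), hi, Nat.gcd_eq_right (pow_dvd_pow 2 (by omega)),
        Nat.pow_div (by omega) two_pos, show i - (i - 1) = 1 by omega, pow_one]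
    have hdcomm : ∀ x ∈ L, Commute d x := fun x hx => by
      obtain ⟨e, rfl⟩ := mem_zpowers_iff.1 hdc
      exact (hcomm x hx).zpow_left e
    have hdL : d ∉ L := fun hdL => by
      have hmem : eL ⟨d, hdL⟩ ∈ Subgroup.center (Matrix.ProjectiveSpecialLinearGroup (Fin 2) F) :=
        Subgroup.mem_center_iff.2 fun w => by
          obtain ⟨y, rfl⟩ := eL.surjective w
          rw [← map_mul, ← map_mul]
          exact congrArg eL (Subtype.ext (hdcomm y y.2).eq.symm)
      rw [CfsgLib.CentralPair.center_psl_eq_bot ho, Subgroup.mem_bot, MulEquiv.map_eq_one_iff] at hmem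
      have hd1 : d = 1 := congrArg Subtype.val hmem
      rw [hd1, orderOf_one] at hd
      norm_num at hd
    have hp2 : ∀ x : G, orderOf x = 2 → IsPGroup 2 (zpowers x) := fun x hx =>
      IsPGroup.of_card (n := 1) (by rw [Nat.card_zpowers, hx, pow_one])
    have hU : IsPGroup 2 (zpowers a ⊔ zpowers b : Subgroup G) :=
      (hp2 a ha).to_sup_of_normal_left' (hp2 b hb) (zpowers_le.2 (Subgroup.centralizer_le_normalizer _
        (Subgroup.mem_centralizer_iff.2 fun y hy => by
          obtain ⟨e, rfl⟩ := mem_zpowers_iff.1 hy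
          exact (hcab.zpow_left e).eq)))
    have hUL : (zpowers a ⊔ zpowers b : Subgroup G) ≤ L := sup_le (zpowers_le.2 haL) (zpowers_le.2 hbL)
    obtain ⟨S, hdS, hUS⟩ := exists_sylow_pair (hp2 d hd) hU fun x hx => hdcomm x (hUL hx)
    have haS := hUS (le_sup_left (a := zpowers a) (mem_zpowers a))
    have hbS := hUS (le_sup_right (a := zpowers a) (mem_zpowers b))
    obtain ⟨A, hA, hAi⟩ := h2 S
    rcases (Nat.dvd_prime Nat.prime_two).1 hAi with h | h
    · exact hab (congrArg Subtype.val (hone hA h (x := ⟨a, haS⟩) (y := ⟨b, hbS⟩)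
        (by rw [Subgroup.orderOf_mk, ha]) (by rw [Subgroup.orderOf_mk, hb])))
    · rcases eq_of_three_invol hA h (a := ⟨a, haS⟩) (b := ⟨b, hbS⟩) (c := ⟨d, hdS⟩)
        (by rw [Subgroup.orderOf_mk, ha]) (by rw [Subgroup.orderOf_mk, hb]) (by rw [Subgroup.orderOf_mk, hd])
        (Subtype.ext hcab.eq) (Subtype.ext (hdcomm a haL).eq.symm) (Subtype.ext (hdcomm b hbL).eq.symm)
        (fun e => hab (congrArg Subtype.val e)) with e | e | e
      · exact hdL (by rw [show d = a from congrArg Subtype.val e]; exact haL)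
      · exact hdL (by rw [show d = b from congrArg Subtype.val e]; exact hbL)
      · exact hdL (by rw [show d = a * b from congrArg Subtype.val e]; exact mul_mem haL hbL)
  · have hUL : (zpowers i ⊔ zpowers j : Subgroup G) ≤ L := sup_le (zpowers_le.2 hiL) (zpowers_le.2 hjL)
    have hU : IsPGroup 2 (zpowers i ⊔ zpowers j : Subgroup G) := fun x => by
      obtain ⟨m, hm⟩ := hpg x x.2
      exact ⟨m, Subtype.ext hm⟩
    obtain ⟨S, hcS, hUS⟩ := exists_sylow_pair hzc hU fun x hx => hcomm x (hUL hx)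
    have hiS := hUS (le_sup_left (a := zpowers i) (mem_zpowers i))
    have hjS := hUS (le_sup_right (a := zpowers i) (mem_zpowers j))
    obtain ⟨A, hA, hAi⟩ := h2 S
    rcases (Nat.dvd_prime Nat.prime_two).1 hAi with h | h
    · exfalso
      rw [Subgroup.index_eq_one] at h
      subst h
      haveI := hA
      have h1 : (⟨⟨j, hjS⟩, trivial⟩ : (⊤ : Subgroup ↥(S : Subgroup G))) * ⟨⟨i, hiS⟩, trivial⟩ =
        ⟨⟨i, hiS⟩, trivial⟩ * ⟨⟨j, hjS⟩, trivial⟩ := IsCyclic.commGroup.mul_comm _ _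
      have h3 : j * i = i * j := congrArg (fun x : (⊤ : Subgroup ↥(S : Subgroup G)) => ((x : ↥(S : Subgroup G)) : G)) h1
      rw [h3, mul_inv_cancel_right] at hij
      exact pow_ne_one_of_lt_orderOf (n := 2) two_ne_zero (by rw [hi]; norm_num)
        (by rw [sq]; exact mul_eq_one_iff_eq_inv.2 hij)
    · rcases sq_eq_one_of_quat hA h (i := ⟨i, hiS⟩) (j := ⟨j, hjS⟩) (c := ⟨c, hcS⟩)
        (by rw [Subgroup.orderOf_mk, hi]) (by rw [Subgroup.orderOf_mk, hj]) (Subtype.ext hij) (Subtype.ext hji)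
        (Subtype.ext (hcomm i hiL).eq) (Subtype.ext (hcomm j hjL).eq) (n := k) (Subtype.ext hk) with e | e
      · rw [show c = 1 from congrArg Subtype.val e]; exact one_mem L
      · rw [show c = i ^ 2 from congrArg Subtype.val e]; exact pow_mem hiL 2

/-- `L` modulo its centre -/
theorem exists_psl_quotient (L : Subgroup G) (hL : Core L) :
    ∃ (F : Type) (_ : Field F) (_ : Fintype F), Odd (Fintype.card F) ∧ (Fintype.card F).Prime ∧
      Nonempty (↥L ⧸ Subgroup.center ↥L ≃* Matrix.ProjectiveSpecialLinearGroup (Fin 2) F) := by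
  obtain ⟨F, iF, jF, ho, -, hp, ⟨⟨e⟩, -⟩ | ⟨⟨e⟩, -⟩⟩ := hL <;> refine ⟨F, iF, jF, ho, hp, ⟨?_⟩⟩
  · have hZ : Subgroup.center ↥L = ⊥ := by
      refine (Subgroup.eq_bot_iff_forall _).2 fun x hx => ?_
      have hmem : e x ∈ Subgroup.center (Matrix.ProjectiveSpecialLinearGroup (Fin 2) F) :=
        Subgroup.mem_center_iff.2 fun w => by
          obtain ⟨y, rfl⟩ := e.surjective w
          rw [← map_mul, ← map_mul, Subgroup.mem_center_iff.1 hx y]
      rwa [CfsgLib.CentralPair.center_psl_eq_bot ho, Subgroup.mem_bot, MulEquiv.map_eq_one_iff] at hmem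
    exact ((QuotientGroup.quotientMulEquivOfEq hZ).trans QuotientGroup.quotientBot).trans e
  · refine QuotientGroup.congr _ _ e ?_
    ext x
    rw [Subgroup.mem_map]
    constructor
    · rintro ⟨y, hy, rfl⟩
      refine Subgroup.mem_center_iff.2 fun w => ?_
      obtain ⟨v, rfl⟩ := e.surjective w
      show e v * e y = e y * e v
      rw [← map_mul, ← map_mul, Subgroup.mem_center_iff.1 hy v]
    · intro hx
      obtain ⟨y, rfl⟩ := e.surjective x
      exact ⟨y, Subgroup.mem_center_iff.2 fun v => e.injective (by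
        rw [map_mul, map_mul, Subgroup.mem_center_iff.1 hx (e v)]), rfl⟩

/-- **the structure**, given the semidihedral lemma -/
theorem structure_of_main (hmain : NoSemidihedral.{u}) (hns : ¬ Group.IsSolvable G) (hG : OddCyclic G)
    (h2 : ∀ S : Sylow 2 G, ∃ C : Subgroup ↥(S : Subgroup G), IsCyclic C ∧ C.index ∣ 2) :
    ∃ G₀ : Subgroup G, G₀.Normal ∧ G₀.index ∣ 2 ∧
      ∃ X L : Subgroup ↥G₀, X.Normal ∧ L.Normal ∧ X ⊓ L = ⊥ ∧ X ⊔ L = ⊤ ∧
        (Nat.card X).Coprime (Nat.card L) ∧ Odd (Nat.card X) ∧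
        (∃ (C : Subgroup ↥X) (_ : C.Normal), IsCyclic C ∧ IsCyclic (↥X ⧸ C)) ∧
        ∃ (p : ℕ) (_ : Fact p.Prime), 5 ≤ p ∧
          (Nonempty (↥L ≃* Matrix.ProjectiveSpecialLinearGroup (Fin 2) (ZMod p)) ∨
           Nonempty (↥L ≃* Matrix.SpecialLinearGroup (Fin 2) (ZMod p))) := by
  classical
  haveI : Fact (Nat.Prime 2) := ⟨Nat.prime_two⟩
  obtain ⟨L, hLn, hL, hperf⟩ := CfsgLib.OneComposite.exists_perfect_normal hns
  haveI := hLn
  haveI : Group.IsPerfect L := ⟨hperf⟩
  have hcore := exists_core hmain hG h2 L hL hperf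
  set C := centralizer (L : Set G) with hC
  haveI : C.Normal := Subgroup.normal_centralizer
  have hCL : ∀ c ∈ C, ∀ x ∈ L, Commute c x := fun c hc x hx => (Subgroup.mem_centralizer_iff.1 hc x hx).symm
  have h2el : ∀ c ∈ C, (∃ k : ℕ, c ^ 2 ^ k = 1) → c ∈ L := fun c hc ⟨k, hk⟩ => two_elements h2 L hcore hc hk
  -- the normal 2-complement of the centraliser
  obtain ⟨T⟩ : Nonempty (Sylow 2 C) := inferInstance
  obtain ⟨K, hK, hKT⟩ : ∃ K : Subgroup C, K.Normal ∧ K.IsComplement' (T : Subgroup C) := by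
    have hcent : ∀ t ∈ (T : Subgroup C), t ∈ Subgroup.center C := fun t ht =>
      Subgroup.mem_center_iff.2 fun w => Subtype.ext (by
        obtain ⟨m, hm⟩ := T.2 ⟨t, ht⟩
        have htL := h2el t t.2 ⟨m, by
          have := congrArg (fun v : ↥(T : Subgroup C) => ((v : C) : G)) hm
          simpa using this⟩
        exact (hCL w w.2 t htL).eq)
    obtain ⟨P, K, hK, hKP⟩ := CfsgLib.Fusion.hasNormalPComplement_of_normalizer_le_centralizer T fun x _ =>
      Subgroup.mem_centralizer_iff.2 fun t ht => (Subgroup.mem_center_iff.1 (hcent t ht) x).symm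
    haveI := hK
    exact ⟨K, hK, Subgroup.isComplement'_of_coprime (by
        rw [Nat.card_congr (Sylow.equiv T P).toEquiv]; exact hKP.card_mul_card) (by
        obtain ⟨m, hm⟩ := T.2.exists_card_eq
        rw [hm]
        refine Nat.Coprime.pow_right m ((Nat.coprime_comm).1 (Nat.prime_two.coprime_iff_not_dvd.2 fun hd => ?_))
        exact P.not_dvd_index (hKP.index_eq_card.symm ▸ hd))⟩
  haveI := hK
  have hKodd : Odd (Nat.card K) := by
    rw [← Nat.not_even_iff_odd, even_iff_two_dvd]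
    exact fun hd => T.not_dvd_index (hKT.index_eq_card.symm ▸ hd)
  set R := (Cfsg.oddCore C).map C.subtype with hR
  have hRn : R.Normal := by
    haveI := CfsgLib.Coprime.pPrimeCore_characteristic (G := C) 2
    infer_instance
  have hRodd : Odd (Nat.card R) := by
    rw [hR, Subgroup.card_map_of_injective C.subtype_injective]
    exact GW.odd_oddCore C
  have hRC : R ≤ C := Subgroup.map_subtype_le _
  have hKR : K.map C.subtype ≤ R := Subgroup.map_mono (GW.le_oddCore hKodd)
  have hCle : C ≤ R ⊔ L := by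
    intro c hc
    obtain ⟨⟨k, t⟩, hkt⟩ := hKT.2 ⟨c, hc⟩
    have hc' : c = (k : C).1 * (t : C).1 := (congrArg Subtype.val hkt).symm
    rw [hc']
    obtain ⟨m, hm⟩ := T.2 t
    exact mul_mem (Subgroup.mem_sup_left (hKR ⟨k, k.2, rfl⟩)) (Subgroup.mem_sup_right (h2el _ (t : C).2 ⟨m, by
      have := congrArg (fun v : ↥(T : Subgroup C) => ((v : C) : G)) hm
      simpa using this⟩))
  -- coprimality
  have hcop : (Nat.card R).Coprime (Nat.card L) := by
    refine Nat.coprime_of_dvd fun r hr hrR hrL => ?_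
    haveI := Fact.mk hr
    have hr2 : r ≠ 2 := fun h => Nat.not_even_iff_odd.2 hRodd (even_iff_two_dvd.2 (h ▸ hrR))
    obtain ⟨x, hx⟩ := exists_prime_orderOf_dvd_card' r hrR
    obtain ⟨y, hy⟩ := exists_prime_orderOf_dvd_card' r hrL
    have hxy : (y : G) ∈ zpowers (x : G) := hG.mem_zpowers_of_commute hr hr2 (by rw [Subgroup.orderOf_coe, hx])
      (by rw [← hy, ← Subgroup.orderOf_coe, pow_orderOf_eq_one]) (hCL x (hRC x.2) y y.2)
    -- a central element of odd order of a perfect group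
    obtain ⟨P, hP⟩ := (IsPGroup.of_card (n := 1) (by rw [Nat.card_zpowers, hy, pow_one]) :
      IsPGroup r (zpowers y)).exists_le_sylow
    haveI := (hG.subgroup L) r hr hr2 P P.2
    have h0 := CfsgLib.Char.FeitBlichfeldt.inf_center_eq_bot P (fun a ha b hb => congrArg Subtype.val
      (IsCyclic.commGroup.mul_comm (⟨a, ha⟩ : (P : Subgroup L)) ⟨b, hb⟩)) hperf
    have h1 : y ∈ (⊥ : Subgroup L) := by
      rw [← h0]
      refine ⟨hP (mem_zpowers _), Subgroup.mem_center_iff.2 fun w => Subtype.ext ?_⟩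
      exact ((hCL y ((zpowers_le.2 (hRC x.2)) hxy) w w.2).eq).symm
    rw [Subgroup.mem_bot] at h1
    rw [h1, orderOf_one] at hy
    exact hr.one_lt.ne hy
  -- the index
  set G₀ := R ⊔ L with hG₀
  haveI := hRn
  have hidx : G₀.index ∣ 2 := by
    obtain ⟨F, iF, jF, ho, hp, ⟨eF⟩⟩ := exists_psl_quotient L hcore
    have h2F : (2 : F) ≠ 0 := CfsgLib.Perm.Dickson.two_ne_zero_of_odd (by rwa [Nat.card_eq_fintype_card])
    set π := QuotientGroup.mk' C
    haveI : (L.map π).Normal := hLn.map _ (QuotientGroup.mk'_surjective C)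
    let e1 : ↥(L.map π) ≃* Matrix.ProjectiveSpecialLinearGroup (Fin 2) F :=
      (((QuotientGroup.quotientMulEquivOfEq (show (π.subgroupMap L).ker = Subgroup.center ↥L by
        ext x
        rw [MonoidHom.mem_ker, Subgroup.mem_center_iff, Subtype.ext_iff]
        show QuotientGroup.mk' C (x : G) = 1 ↔ _
        rw [QuotientGroup.mk'_apply, QuotientGroup.eq_one_iff]
        exact ⟨fun h w => Subtype.ext (hCL x h w w.2).eq.symm, fun h => Subgroup.mem_centralizer_iff.2
          fun w hw => congrArg Subtype.val (h ⟨w, hw⟩)⟩)).symm.trans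
        (QuotientGroup.quotientKerEquivOfSurjective _ (π.subgroupMap_surjective L))).symm).trans eF
    have hCM : Subgroup.centralizer ((L.map π : Subgroup (G ⧸ C)) : Set (G ⧸ C)) = ⊥ := by
      refine (Subgroup.eq_bot_iff_forall _).2 fun x hx => ?_
      obtain ⟨g, rfl⟩ := QuotientGroup.mk'_surjective C x
      rw [QuotientGroup.mk'_apply, QuotientGroup.eq_one_iff]
      -- commutators with `g` define a homomorphism into the centre
      have hmem : ∀ l : L, (⟨(l : G)⁻¹ * (g * l * g⁻¹),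
          mul_mem (inv_mem l.2) (hLn.conj_mem _ l.2 g)⟩ : L) ∈ Subgroup.center ↥L := fun l => by
        have h1 := Subgroup.mem_centralizer_iff.1 hx (π l) (Subgroup.mem_map_of_mem π l.2)
        have h3 : (l : G)⁻¹ * (g * l * g⁻¹) ∈ C := by
          rw [← QuotientGroup.eq_one_iff, ← QuotientGroup.mk'_apply]
          show π _ = 1
          rw [map_mul, map_mul, map_mul, map_inv, map_inv,
            show π g * π (l : G) = π (l : G) * π g from h1.symm, mul_inv_cancel_right, inv_mul_cancel]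
        exact Subgroup.mem_center_iff.2 fun w => Subtype.ext (hCL _ h3 w w.2).eq.symm
      let f : L →* Subgroup.center ↥L :=
        { toFun := fun l => ⟨_, hmem l⟩
          map_one' := Subtype.ext (Subtype.ext (by simp))
          map_mul' := fun a b => Subtype.ext (Subtype.ext (by
            show ((a : G) * b)⁻¹ * (g * ((a : G) * b) * g⁻¹) = (a : G)⁻¹ * (g * a * g⁻¹) * ((b : G)⁻¹ * (g * b * g⁻¹))
            have hca := congrArg Subtype.val (Subgroup.mem_center_iff.1 (hmem a) b⁻¹)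
            calc ((a : G) * b)⁻¹ * (g * ((a : G) * b) * g⁻¹)
                = (b : G)⁻¹ * ((a : G)⁻¹ * (g * a * g⁻¹)) * (g * b * g⁻¹) := by group
              _ = (a : G)⁻¹ * (g * a * g⁻¹) * (b : G)⁻¹ * (g * b * g⁻¹) := by
                  rw [show (b : G)⁻¹ * ((a : G)⁻¹ * (g * a * g⁻¹)) = (a : G)⁻¹ * (g * a * g⁻¹) * (b : G)⁻¹ from hca]
              _ = _ := by group)) }
      have hf : commutator ↥L ≤ f.ker := Subgroup.commutator_le.2 fun a _ b _ => MonoidHom.mem_ker.2 (by
        rw [map_commutatorElement, commutatorElement_eq_one_iff_mul_comm]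
        exact Subtype.ext (Subgroup.mem_center_iff.1 (f b).2 _))
      rw [hperf] at hf
      refine Subgroup.mem_centralizer_iff.2 fun l hl => ?_
      have h4 : l⁻¹ * (g * l * g⁻¹) = 1 :=
        congrArg (fun v : Subgroup.center ↥L => ((v : ↥L) : G)) (MonoidHom.mem_ker.1 (hf (Subgroup.mem_top ⟨l, hl⟩)))
      calc l * g = g * l * g⁻¹ * g := by rw [← inv_mul_eq_one.1 h4]
        _ = g * l := by group
    have hd1 : (CfsgLib.GW.diagPart (L.map π) e1).index = 1 := by
      haveI := ringAut_subsingleton hp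
      exact Nat.dvd_one.1 (by
        have := CfsgLib.GW.index_diagPart_dvd (L.map π) e1
        rwa [Nat.card_unique] at this)
    have hM : (L.map π).index ∣ 2 := by
      rcases CfsgLib.GW.index_cases (L.map π) e1 hCM h2F with h | h <;> rw [h, hd1] <;> norm_num
    have hG₀C : G₀ = C ⊔ L := le_antisymm (sup_le_sup_right hRC L) (sup_le hCle le_sup_right)
    rwa [hG₀C, show C ⊔ L = (L.map π).comap π by
      rw [Subgroup.comap_map_eq, QuotientGroup.ker_mk', sup_comm],
      Subgroup.index_comap_of_surjective _ (QuotientGroup.mk'_surjective C)]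
  refine ⟨G₀, inferInstance, hidx, R.subgroupOf G₀, L.subgroupOf G₀, inferInstance, inferInstance, ?_, ?_, ?_,
    ?_, ?_, ?_⟩
  · show (R ⊓ L).subgroupOf G₀ = ⊥
    rw [Subgroup.inf_eq_bot_of_coprime hcop, Subgroup.bot_subgroupOf]
  · rw [← Subgroup.subgroupOf_sup le_sup_left le_sup_right, Subgroup.subgroupOf_self]
  · rwa [Nat.card_congr (Subgroup.subgroupOfEquivOfLe (le_sup_left : R ≤ G₀)).toEquiv,
      Nat.card_congr (Subgroup.subgroupOfEquivOfLe (le_sup_right : L ≤ G₀)).toEquiv]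
  · rwa [Nat.card_congr (Subgroup.subgroupOfEquivOfLe (le_sup_left : R ≤ G₀)).toEquiv]
  · haveI : IsZGroup ↥(R.subgroupOf G₀) := by
      refine (hG.subgroup G₀).isZGroup ?_
      rwa [Nat.card_congr (Subgroup.subgroupOfEquivOfLe (le_sup_left : R ≤ G₀)).toEquiv]
    exact ⟨commutator _, inferInstance, IsZGroup.isCyclic_commutator _, inferInstanceAs (IsCyclic (Abelianization _))⟩
  · obtain ⟨F, iF, jF, ho, h5, hp, hcases⟩ := hcore
    obtain ⟨p, hpf, hpF, ⟨σ⟩⟩ := exists_zmod_equiv (F := F) hp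
    haveI := hpf
    let eS : ↥(L.subgroupOf G₀) ≃* ↥L := Subgroup.subgroupOfEquivOfLe le_sup_right
    refine ⟨p, hpf, hpF ▸ h5, ?_⟩
    rcases hcases with ⟨⟨e⟩, -⟩ | ⟨⟨e⟩, -⟩
    · obtain ⟨e'⟩ := CfsgLib.CIT.psl_congr σ
      exact Or.inl ⟨(eS.trans e).trans e'⟩
    · exact Or.inr ⟨(eS.trans e).trans (CfsgLib.SubBlock.slCongr σ)⟩

end CfsgLib.OddCyc
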