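import Cfsg.Agent.Lib.GW.CyclicSylow
import Cfsg.Agent.Lib.GW.Setting
import Mathlib.GroupTheory.SpecificGroups.ZGroup
import Mathlib.Algebra.Field.ZMod
import Mathlib.FieldTheory.Finite.Basic

/-!
# Groups whose Sylow subgroups of odd order are cyclic
-/

set_option autoImplicit false
set_option linter.unusedSectionVars false
set_option linter.style.haveILetI false

namespace CfsgLib.OddCyc

open Subgroup
open scoped commutatorElement

/-- fields of prime order have no automorphisms -/
theorem ringAut_subsingleton {F : Type*} [Field F] [Fintype F] (hp : (Fintype.card F).Prime) : Subsingleton (RingAut F) := by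
  haveI : Fact (Fintype.card F).Prime := ⟨hp⟩
  refine ⟨fun σ τ => RingEquiv.ext fun x => ?_⟩
  let e := ZMod.ringEquivOfPrime F hp rfl
  obtain ⟨y, rfl⟩ := e.surjective x
  exact congrFun (congrArg DFunLike.coe
    (RingHom.ext_zmod (σ.toRingHom.comp e.toRingHom) (τ.toRingHom.comp e.toRingHom))) y

/-- every subgroup of odd prime power order is cyclic -/
def OddCyclic (G : Type*) [Group G] : Prop :=
  ∀ p : ℕ, p.Prime → p ≠ 2 → ∀ Q : Subgroup G, IsPGroup p Q → IsCyclic Q

theorem pow_mem_iff_of_index_two {K : Type*} [Group K] {M : Subgroup K} (h : M.index = 2) {c : K} (hc : c ∉ M)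
    (n : ℕ) : c ^ n ∈ M ↔ Even n := by
  induction n with
  | zero => simp
  | succ n ih => rw [pow_succ, Subgroup.mul_mem_iff_of_index_two h, ih, iff_false_right hc, Nat.even_add_one]

variable {G : Type*} [Group G] [Finite G]

theorem OddCyclic.of_sylow (h : ∀ p : ℕ, p.Prime → p ≠ 2 → ∀ P : Sylow p G, IsCyclic P) : OddCyclic G := by
  intro p hp h2 Q hQ
  haveI := Fact.mk hp
  obtain ⟨P, hP⟩ := hQ.exists_le_sylow
  haveI := h p hp h2 P
  exact isCyclic_of_injective _ (Subgroup.inclusion_injective hP)

theorem OddCyclic.of_injective {H : Type*} [Group H] [Finite H] (hG : OddCyclic G) (f : H →* G)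
    (hf : Function.Injective f) : OddCyclic H := by
  intro p hp h2 Q hQ
  have := hG p hp h2 (Q.map f) (hQ.map f)
  exact (Q.equivMapOfInjective f hf).isCyclic.2 this

theorem OddCyclic.subgroup (hG : OddCyclic G) (H : Subgroup G) : OddCyclic H :=
  hG.of_injective H.subtype H.subtype_injective

theorem OddCyclic.of_surjective {H : Type*} [Group H] [Finite H] (hG : OddCyclic G) (f : G →* H)
    (hf : Function.Surjective f) : OddCyclic H := by
  refine .of_sylow fun p hp h2 P => ?_
  haveI := Fact.mk hp
  obtain ⟨Q, rfl⟩ := Sylow.mapSurjective_surjective hf p P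
  haveI := hG p hp h2 Q Q.2
  rw [Sylow.coe_mapSurjective]
  exact isCyclic_of_surjective (f.subgroupMap _) (f.subgroupMap_surjective _)

theorem OddCyclic.quotient (hG : OddCyclic G) (N : Subgroup G) [N.Normal] : OddCyclic (G ⧸ N) :=
  hG.of_surjective _ (QuotientGroup.mk'_surjective N)

/-- subgroups of odd order are Z-groups -/
theorem OddCyclic.isZGroup (hG : OddCyclic G) {K : Subgroup G} (hK : Odd (Nat.card K)) : IsZGroup K := by
  refine ⟨fun p hp P => ?_⟩
  haveI := Fact.mk hp
  rcases eq_or_ne p 2 with rfl | h2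
  · obtain ⟨j, hj⟩ := P.2.exists_card_eq
    have hd : 2 ^ j ∣ Nat.card K := hj ▸ Subgroup.card_subgroup_dvd_card _
    obtain rfl : j = 0 := by
      by_contra h
      exact Nat.not_even_iff_odd.2 hK (even_iff_two_dvd.2 ((dvd_pow_self 2 h).trans hd))
    exact @isCyclic_of_subsingleton _ _ (Nat.card_eq_one_iff_unique.1 (by rw [hj, pow_zero])).1
  · exact hG.subgroup K p hp h2 P P.2

/-- commuting elements of the same odd prime order generate the same subgroup -/
theorem OddCyclic.mem_zpowers_of_commute (hG : OddCyclic G) {p : ℕ} (hp : p.Prime) (h2 : p ≠ 2) {x y : G}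
    (hx : orderOf x = p) (hy : y ^ p = 1) (hc : Commute x y) : y ∈ zpowers x := by
  classical
  haveI := Fact.mk hp
  have hnorm : zpowers y ≤ normalizer (zpowers x : Set G) := by
    refine le_trans ?_ (Subgroup.centralizer_le_normalizer _)
    refine zpowers_le.2 (Subgroup.mem_centralizer_iff.2 fun z hz => ?_)
    obtain ⟨i, rfl⟩ := mem_zpowers_iff.1 hz
    exact (hc.zpow_left i).eq
  have hpx : IsPGroup p (zpowers x) := IsPGroup.of_card (n := 1) (by rw [Nat.card_zpowers, hx, pow_one])
  have hpy : IsPGroup p (zpowers y) := by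
    obtain ⟨i, -, hi⟩ := (Nat.dvd_prime_pow hp).1 ((orderOf_dvd_of_pow_eq_one hy).trans (pow_one p).symm.dvd)
    exact IsPGroup.of_card (n := i) (by rw [Nat.card_zpowers, hi])
  haveI := hG p hp h2 (zpowers x ⊔ zpowers y) (hpx.to_sup_of_normal_left' hpy hnorm)
  set A := zpowers x ⊔ zpowers y with hA
  let x' : A := ⟨x, le_sup_left (a := zpowers x) (Subgroup.mem_zpowers x)⟩
  let y' : A := ⟨y, le_sup_right (a := zpowers x) (Subgroup.mem_zpowers y)⟩
  haveI : Fintype A := Fintype.ofFinite A
  have hset : (Finset.univ.filter fun a : A => a ^ p = 1).card ≤ p :=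
    IsCyclic.card_pow_eq_one_le hp.pos
  have hsub : (Finset.range p).image (fun i : ℕ => x' ^ i) ⊆ Finset.univ.filter fun a : A => a ^ p = 1 := by
    intro a ha
    obtain ⟨i, -, rfl⟩ := Finset.mem_image.1 ha
    refine Finset.mem_filter.2 ⟨Finset.mem_univ _, Subtype.ext ?_⟩
    push_cast
    rw [← pow_mul, mul_comm, pow_mul, ← hx, pow_orderOf_eq_one, one_pow]
  have hcard : ((Finset.range p).image fun i : ℕ => x' ^ i).card = p := by
    rw [Finset.card_image_of_injOn, Finset.card_range]
    intro i hi j hj h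
    have hxo : orderOf x' = p := by rw [← Subgroup.orderOf_coe, hx]
    exact pow_injOn_Iio_orderOf (by simpa [hxo] using hi) (by simpa [hxo] using hj) h
  have heq := Finset.eq_of_subset_of_card_le hsub (by rw [hcard]; exact hset)
  have hy' : y' ∈ Finset.univ.filter fun a : A => a ^ p = 1 :=
    Finset.mem_filter.2 ⟨Finset.mem_univ _, Subtype.ext (by push_cast; exact hy)⟩
  rw [← heq] at hy'
  obtain ⟨i, -, hi⟩ := Finset.mem_image.1 hy'
  exact mem_zpowers_iff.2 ⟨i, by rw [zpow_natCast]; simpa [x', y'] using congrArg Subtype.val hi⟩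

/-- the derived group centralises a normal cyclic subgroup -/
theorem commute_cyclic {H : Type*} [Group H] (K : Subgroup H) [K.Normal] [IsCyclic K] {u : H}
    (hu : u ∈ commutator H) {k : H} (hk : k ∈ K) : Commute u k := by
  have hle : commutator H ≤ (MulAut.conjNormal (H := K)).ker := by
    refine Subgroup.commutator_le.2 fun a _ b _ => MonoidHom.mem_ker.2 ?_
    rw [map_commutatorElement, commutatorElement_eq_one_iff_mul_comm]
    exact GW.aut_comm_of_cyclic _ _
  have h := congrArg (fun σ : MulAut K => ((σ ⟨k, hk⟩ : K) : H)) (MonoidHom.mem_ker.1 (hle hu))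
  exact (show u * k = k * u by simpa [MulAut.conjNormal_apply, mul_inv_eq_iff_eq_mul] using h)

/-- the derived group acts on a normal subgroup of odd order as a stabiliser of a series -/
theorem exists_shift (hG : OddCyclic G) (K : Subgroup G) [K.Normal] (hK : Odd (Nat.card K)) {u k : G}
    (hu : u ∈ commutator G) (hk : k ∈ K) :
    ∃ d ∈ K, u * k * u⁻¹ = k * d ∧ ∀ v ∈ commutator G, Commute v d := by
  haveI := hG.isZGroup hK
  haveI := Fintype.ofFinite K
  haveI : IsCyclic (commutator K) := IsZGroup.isCyclic_commutator _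
  set D := (commutator K).map K.subtype with hD
  haveI : IsCyclic D := ((commutator K).equivMapOfInjective _ K.subtype_injective).isCyclic.1 inferInstance
  haveI : D.Normal := by
    rw [hD, _root_.commutator_def, Subgroup.map_commutator, ← MonoidHom.range_eq_map, K.range_subtype]
    infer_instance
  set π := QuotientGroup.mk' D
  haveI : (K.map π).Normal := Subgroup.Normal.map inferInstance _ (QuotientGroup.mk'_surjective D)
  haveI : IsCyclic (K.map π) := by
    haveI : IsCyclic (K ⧸ commutator K) := inferInstanceAs (IsCyclic (Abelianization K))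
    let f : K →* K.map π := π.subgroupMap K
    have hker : commutator K ≤ f.ker := fun x hx => MonoidHom.mem_ker.2 (Subtype.ext
      ((QuotientGroup.eq_one_iff _).2 (Subgroup.mem_map_of_mem K.subtype hx)))
    refine isCyclic_of_surjective (QuotientGroup.lift (commutator K) f hker) fun y => ?_
    obtain ⟨x, rfl⟩ := π.subgroupMap_surjective K y
    exact ⟨(x : K), rfl⟩
  have h1 : Commute (π u) (π k) := commute_cyclic (K.map π)
    (by
      have := Subgroup.mem_map_of_mem π hu
      rwa [_root_.commutator_def, Subgroup.map_commutator, ← MonoidHom.range_eq_map,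
        MonoidHom.range_eq_top.2 (QuotientGroup.mk'_surjective D)] at this)
    (Subgroup.mem_map_of_mem π hk)
  have h2 : k⁻¹ * (u * k * u⁻¹) ∈ D := by
    rw [← QuotientGroup.eq_one_iff]
    show π (k⁻¹ * (u * k * u⁻¹)) = 1
    simp only [map_mul, map_inv]
    rw [h1.eq]
    group
  exact ⟨_, Subgroup.map_subtype_le _ h2, by group, fun v hv => commute_cyclic D hv h2⟩

/-- two-elements of the derived group centralise normal subgroups of odd order -/
theorem commute_two_element (hG : OddCyclic G) (K : Subgroup G) [K.Normal] (hK : Odd (Nat.card K)) {u k : G}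
    (hu : u ∈ commutator G) {j : ℕ} (hj : u ^ 2 ^ j = 1) (hk : k ∈ K) : Commute u k := by
  obtain ⟨d, hd, hd1, hd2⟩ := exists_shift hG K hK hu hk
  have key : ∀ n : ℕ, u ^ n * k * (u ^ n)⁻¹ = k * d ^ n := by
    intro n
    induction n with
    | zero => simp
    | succ n ih =>
      rw [pow_succ', show u * u ^ n * k * (u * u ^ n)⁻¹ = u * (u ^ n * k * (u ^ n)⁻¹) * u⁻¹ by group, ih,
        pow_succ', ← mul_assoc k d]
      calc u * (k * d ^ n) * u⁻¹ = (u * k * u⁻¹) * (u * d ^ n * u⁻¹) := by group
        _ = k * d * d ^ n := by rw [hd1, ((hd2 u hu).pow_right n).eq, mul_inv_cancel_right]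
  have h := key (2 ^ j)
  rw [hj, one_mul, inv_one, mul_one] at h
  have hd0 : d = 1 := by
    have h1 : d ^ 2 ^ j = 1 := mul_left_cancel (h.symm.trans (mul_one k).symm)
    refine orderOf_eq_one_iff.1 (Nat.eq_one_of_dvd_coprimes ?_ (orderOf_dvd_of_pow_eq_one h1)
      (Subgroup.orderOf_dvd_natCard K hd))
    exact Nat.Coprime.pow_left _ (Nat.coprime_two_left.2 hK)
  rw [hd0, mul_one, mul_inv_eq_iff_eq_mul] at hd1
  exact hd1

/-- a perfect group centralises its normal subgroups of odd order -/
theorem commute_of_perfect [Group.IsPerfect G] (hG : OddCyclic G) (K : Subgroup G) [K.Normal]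
    (hK : Odd (Nat.card K)) (u : G) {k : G} (hk : k ∈ K) : Commute u k := by
  have htop : ∀ v : G, v ∈ commutator G := fun v => by rw [Group.IsPerfect.commutator_eq_top]; trivial
  -- the shift is a homomorphism to the centre
  have hc : ∀ v : G, k⁻¹ * (v * k * v⁻¹) ∈ Subgroup.center G := fun v => by
    obtain ⟨d, -, hd1, hd2⟩ := exists_shift hG K hK (htop v) hk
    rw [hd1, inv_mul_cancel_left]
    exact Subgroup.mem_center_iff.2 fun w => (hd2 w (htop w)).eq
  let f : G →* Subgroup.center G :=
    { toFun := fun v => ⟨k⁻¹ * (v * k * v⁻¹), hc v⟩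
      map_one' := Subtype.ext (by simp)
      map_mul' := fun a b => Subtype.ext (by
        show k⁻¹ * (a * b * k * (a * b)⁻¹) = k⁻¹ * (a * k * a⁻¹) * (k⁻¹ * (b * k * b⁻¹))
        have h := Subgroup.mem_center_iff.1 (hc b) a
        calc k⁻¹ * (a * b * k * (a * b)⁻¹) = k⁻¹ * (a * k * (k⁻¹ * (b * k * b⁻¹)) * a⁻¹) := by group
          _ = k⁻¹ * (a * k * a⁻¹) * (a * (k⁻¹ * (b * k * b⁻¹)) * a⁻¹) := by group
          _ = _ := by rw [h, mul_inv_cancel_right]) }
  have hf : commutator G ≤ f.ker := Subgroup.commutator_le.2 fun a _ b _ => MonoidHom.mem_ker.2 (by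
    rw [map_commutatorElement, commutatorElement_eq_one_iff_mul_comm]
    exact Subtype.ext (Subgroup.mem_center_iff.1 (f b).2 _))
  have h := congrArg Subtype.val (MonoidHom.mem_ker.1 (hf (htop u)))
  have h' : u * k * u⁻¹ = k := inv_mul_eq_one.1 (h : k⁻¹ * (u * k * u⁻¹) = 1) |>.symm
  exact mul_inv_eq_iff_eq_mul.1 h'

end CfsgLib.OddCyc
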