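import Cfsg.Agent.Lib.OddCyc.BigSub
import Mathlib.GroupTheory.FixedPointFree

/-!
# The trivial intersection pair of the outer torus and its numerics
-/

set_option autoImplicit false
set_option linter.unusedSectionVars false
set_option linter.style.haveILetI false

namespace CfsgLib.OddCyc

open Subgroup Cfsg CfsgLib.Perm.Dickson CfsgLib.GW
open scoped commutatorElement

universe u

namespace Setup

variable {G : Type u} [Group G] [Finite G] {F : Type} [Field F] [Fintype F] (A : Setup G F)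

namespace Tor

variable {A} (R : A.Tor) (hq : 5 ≤ Fintype.card F) {p : ℕ} [Fact p.Prime] (Qu : R.Quot p)

theorem inter_four {i : ℤ} (h : R.c ^ i ∈ A.four) : R.c ^ i = 1 := by
  refine orderOf_eq_one_iff.1 (Nat.eq_one_of_dvd_coprimes (Nat.coprime_two_left.2 ?_)
    (orderOf_dvd_of_pow_eq_one (by rw [sq]; exact A.four_sq h)) dvd_rfl)
  exact (R.ord_c ▸ A.D.odd_m).of_dvd_nat (orderOf_dvd_of_mem_zpowers (zpow_mem (mem_zpowers R.c) i))

include hq Qu in
/-- `X` centralises the torus -/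
theorem c_central {x : G} (hx : x ∈ R.X) : Commute x R.c := by
  haveI : Fact (Nat.Prime 2) := ⟨Nat.prime_two⟩
  obtain ⟨S, hS⟩ := R.exists_sylow hq
  have hK := R.oddCore_eq hq Qu
  haveI hKn : (zpowers R.c').Normal := hK ▸ inferInstance
  set C0 := Subgroup.centralizer (zpowers R.c' : Set R.X)
  haveI : C0.Normal := Subgroup.normal_centralizer
  have hC0 : ∀ v : R.X, v ∈ C0 ↔ Commute (v : G) R.c := fun v => by
    rw [Subgroup.mem_centralizer_iff]
    constructor
    · exact fun h => (congrArg Subtype.val (h R.c' (mem_zpowers _))).symm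
    · intro h y hy
      obtain ⟨i, rfl⟩ := mem_zpowers_iff.1 hy
      exact ((show Commute R.c' v from Subtype.ext h.eq.symm).zpow_left i).eq
  have hle : (S : Subgroup R.X) ≤ C0 := fun v hv => by
    rw [hS, Subgroup.mem_subgroupOf] at hv
    exact (hC0 v).2 (R.commute_four hv).symm
  have h := Sylow.normalizer_sup_eq_top (S.subtype hle)
  have hmap : (S.subtype hle : Subgroup C0).map C0.subtype = (S : Subgroup R.X) := by
    rw [Sylow.coe_subtype, Subgroup.subgroupOf_map_subtype, inf_eq_left.2 hle]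
  have hmem : (⟨x, hx⟩ : R.X) ∈ normalizer ((S : Subgroup R.X) : Set R.X) ⊔ C0 := by
    rw [← hmap, h]
    trivial
  rw [Subgroup.mem_sup_of_normal_right] at hmem
  obtain ⟨n, hn, v, hv, hnv⟩ := hmem
  have h4 : ∀ a ∈ A.four, (n : G) * a * (n : G)⁻¹ ∈ A.four := fun a ha => by
    have h5 := (Subgroup.mem_normalizer_iff.1 hn (⟨a, R.four_le ha⟩ : R.X)).1 (hS ▸ ha :
      (⟨a, R.four_le ha⟩ : R.X) ∈ (S : Subgroup R.X))
    rw [hS, Subgroup.mem_subgroupOf] at h5
    exact h5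
  have hnc : Commute (n : G) R.c := by
    rcases R.conj_c_cases hq h4 with h5 | h5
    · exact mul_inv_eq_iff_eq_mul.1 h5
    · refine absurd ?_ (R.cr_ne_inv hq)
      have h6 : (n : G) * R.cr * (n : G)⁻¹ = R.cr⁻¹ := by rw [cr, ← conj_pow, h5, inv_pow]
      rw [← h6, (R.mem_X.1 n.2).eq, mul_inv_cancel_right]
  have := hnc.mul_left ((hC0 v).1 hv)
  rwa [show (n : G) * (v : G) = x from congrArg Subtype.val hnv] at this

include hq Qu in
/-- elements of the normaliser outside `X` invert the torus -/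
theorem out_inv {n : G} (hn : n ∈ R.N) (hnX : n ∉ R.X) : n * R.c * n⁻¹ = R.c⁻¹ := by
  have hx := R.c_central hq Qu (R.two hq hn hnX)
  calc n * R.c * n⁻¹ = (n * R.w⁻¹) * (R.w * R.c * R.w⁻¹) * (n * R.w⁻¹)⁻¹ := by group
    _ = R.c⁻¹ := by rw [R.wc, hx.inv_right.eq, mul_inv_cancel_right]

include hq Qu in
theorem N_conj {n : G} (hn : n ∈ R.N) : n * R.c * n⁻¹ = R.c ∨ n * R.c * n⁻¹ = R.c⁻¹ := by
  by_cases h : n ∈ R.X
  · exact Or.inl (by rw [(R.c_central hq Qu h).eq, mul_inv_cancel_right])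
  · exact Or.inr (R.out_inv hq Qu hn h)

include hq Qu in
theorem card_oddCore : Nat.card (Cfsg.oddCore R.X) = A.D.m := by
  rw [R.oddCore_eq hq Qu, Nat.card_zpowers, ← Subgroup.orderOf_coe]
  exact R.ord_c

include hq in
/-- the centraliser of `z` in `X` -/
theorem card_cent_z : Nat.card {x : R.X // Commute (x : G) A.z} = A.o * A.D.m * 4 := by
  classical
  rw [← A.card_core, ← R.ord_c, ← Nat.card_zpowers, ← A.card_four, ← Nat.card_prod, ← Nat.card_prod]
  refine (Nat.card_eq_of_bijective (fun a : (A.core × zpowers R.c) × A.four =>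
    (⟨⟨(a.1.1 : G) * ((a.1.2 : G) * (a.2 : G)), mul_mem (R.core_le a.1.1.2)
      (mul_mem (zpowers_le.2 R.c_mem a.1.2.2) (R.four_le a.2.2))⟩,
      (A.core_commute_z a.1.1.2).mul_left (((show Commute (a.1.2 : G) A.z from by
        obtain ⟨i, hi⟩ := mem_zpowers_iff.1 a.1.2.2
        rw [← hi]
        exact R.hcz.zpow_left i)).mul_left (A.four_commute a.2.2).1)⟩ :
      {x : R.X // Commute (x : G) A.z})) ⟨?_, ?_⟩).symm
  · rintro ⟨⟨⟨k, hk⟩, ⟨a, ha⟩⟩, ⟨v, hv⟩⟩ ⟨⟨⟨k', hk'⟩, ⟨b, hb⟩⟩, ⟨v', hv'⟩⟩ h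
    have h0 : k * (a * v) = k' * (b * v') := congrArg (fun x : {x : R.X // Commute (x : G) A.z} => ((x.1 : R.X) : G)) h
    obtain ⟨i, rfl⟩ := mem_powers_iff_mem_zpowers.2 ha
    obtain ⟨l, rfl⟩ := mem_powers_iff_mem_zpowers.2 hb
    have hcz : ∀ {i : ℕ} {v : G}, v ∈ A.four → Commute (R.c ^ i * v) A.z := fun hv =>
      (R.hcz.pow_left _).mul_left (A.four_commute hv).1
    have hct : ∀ {i : ℕ} {v : G}, v ∈ A.four → Commute (R.c ^ i * v) A.t₀ := fun hv =>
      (R.ct.pow_left _).mul_left (A.four_commute hv).2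
    have h1 : R.c ^ i * v = R.c ^ l * v' := by
      have hp : A.p ⟨R.c ^ i * v, A.commute_z.2 (hcz hv)⟩ = A.p ⟨R.c ^ l * v', A.commute_z.2 (hcz hv')⟩ := by
        obtain ⟨hk1, hk2⟩ := A.mem_core.1 hk
        obtain ⟨hk1', hk2'⟩ := A.mem_core.1 hk'
        have h2 := congrArg A.p (show (⟨k, hk1⟩ : ↥(centralizer {A.z})) * ⟨R.c ^ i * v, A.commute_z.2 (hcz hv)⟩ =
          ⟨k', hk1'⟩ * ⟨R.c ^ l * v', A.commute_z.2 (hcz hv')⟩ from Subtype.ext h0)
        rwa [map_mul, map_mul, hk2, hk2', one_mul, one_mul] at h2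
      exact congrArg Subtype.val (A.eq_of_p_eq A.ord_T A.T_ne hp (Subtype.ext (hct hv).eq.symm)
        (Subtype.ext (hct hv').eq.symm))
    have hkk : k = k' := by rwa [h1, mul_left_inj] at h0
    have hvv : v = v' := by rw [← R.pow_m_eq hv (i := i), h1, R.pow_m_eq hv']
    subst hkk hvv
    have hcc : R.c ^ i = R.c ^ l := mul_right_cancel h1
    exact Prod.ext (Prod.ext rfl (Subtype.ext hcc)) rfl
  · rintro ⟨⟨x, hx⟩, hxz⟩
    obtain ⟨k, hk, i, v, hv, rfl⟩ := R.cent_z hq hx hxz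
    exact ⟨((⟨k, hk⟩, ⟨R.c ^ i, pow_mem (mem_zpowers _) i⟩), ⟨v, hv⟩), rfl⟩

include hq Qu in
/-- the order of the centralisers of involutions of the quotient -/
theorem invCard_eq : invCard p = 4 * A.o := by
  classical
  set K := Cfsg.oddCore R.X with hKdef
  haveI : K.Normal := inferInstance
  set π := QuotientGroup.mk' K
  set z' : R.X := ⟨A.z, R.four_le A.z_mem⟩
  have hK := R.oddCore_eq hq Qu
  have hzo : orderOf z' = 2 := by rw [Subgroup.orderOf_mk, A.hz]
  have hπz : orderOf (π z') = 2 := by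
    refine orderOf_eq_prime (by rw [← map_pow, sq_of_order_two hzo, map_one]) fun h => ?_
    have := (GW.odd_oddCore R.X).of_dvd_nat (Subgroup.orderOf_dvd_natCard K ((QuotientGroup.eq_one_iff _).1 h))
    rw [hzo] at this
    exact Nat.not_odd_iff_even.2 even_two this
  have hpo : Odd (Fintype.card (ZMod p)) := by rw [← Nat.card_eq_fintype_card]; exact Qu.odd_p R
  have hcard := card_cent_psl hpo (Qu.ψ (π z')) (by rw [MulEquiv.orderOf_eq, hπz])
  rw [ZMod.card] at hcard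
  rw [← hcard]
  -- the two centralisers
  let f : Subgroup.centralizer ({z'} : Set R.X) →*
      Subgroup.centralizer ({Qu.ψ (π z')} : Set (Matrix.ProjectiveSpecialLinearGroup (Fin 2) (ZMod p))) :=
    ((Qu.ψ.toMonoidHom.comp π).comp (Subgroup.centralizer ({z'} : Set R.X)).subtype).codRestrict _ fun x =>
      Subgroup.mem_centralizer_singleton_iff.2 (by
        have := congrArg (Qu.ψ.toMonoidHom.comp π) (Subgroup.mem_centralizer_singleton_iff.1 x.2)
        simpa using this)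
  have hsurj : Function.Surjective f := by
    rintro ⟨y, hy⟩
    obtain ⟨x, rfl⟩ := (Qu.ψ.surjective.comp (QuotientGroup.mk'_surjective K)) y
    have h1 : π (x * z' * x⁻¹) = π z' := Qu.ψ.injective (by
      rw [map_mul, map_mul, map_inv, map_mul, map_mul, map_inv]
      exact mul_inv_eq_iff_eq_mul.2 (Subgroup.mem_centralizer_singleton_iff.1 hy))
    have h2 : z'⁻¹ * (x * z' * x⁻¹) ∈ K := by rw [← QuotientGroup.eq]; exact h1.symm
    rw [hKdef, hK, mem_zpowers_iff] at h2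
    obtain ⟨i, hi⟩ := h2
    have hi' : A.z * (R.c ^ i) = (x : G) * A.z * (x : G)⁻¹ := by
      have := congrArg Subtype.val (eq_inv_mul_iff_mul_eq.1 hi)
      simpa [Tor.c', z'] using this
    have hone : R.c ^ i = 1 := by
      refine R.inter_four ?_
      have h3 : A.z * R.c ^ i * (A.z * R.c ^ i) = 1 := by
        rw [hi', show (x : G) * A.z * (x : G)⁻¹ * ((x : G) * A.z * (x : G)⁻¹) = (x : G) * (A.z * A.z) * (x : G)⁻¹ by
          group, A.z_sq', mul_one, mul_inv_cancel]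
      rw [mul_assoc, ← mul_assoc (R.c ^ i), ((R.hcz.zpow_left i)).eq, mul_assoc, ← mul_assoc A.z, A.z_sq',
        one_mul] at h3
      exact (orderOf_eq_one_iff.1 (Nat.eq_one_of_dvd_coprimes (Nat.coprime_two_left.2
        ((R.ord_c ▸ A.D.odd_m).of_dvd_nat (orderOf_dvd_of_mem_zpowers (zpow_mem (mem_zpowers R.c) i))))
        (orderOf_dvd_of_pow_eq_one (by rw [sq]; exact h3)) dvd_rfl)) ▸ one_mem _
    rw [hone, mul_one] at hi'
    refine ⟨⟨x, Subgroup.mem_centralizer_singleton_iff.2 (Subtype.ext ?_)⟩, Subtype.ext rfl⟩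
    exact mul_inv_eq_iff_eq_mul.1 hi'.symm
  have hker : Nat.card f.ker = A.D.m := by
    rw [← R.card_oddCore hq Qu]
    refine Nat.card_congr (Equiv.ofBijective (fun v => (⟨(v.1 : R.X), (QuotientGroup.eq_one_iff _).1
      (Qu.ψ.injective (((congrArg Subtype.val (MonoidHom.mem_ker.1 v.2)).trans (map_one Qu.ψ).symm)))⟩ : K)) ⟨?_, ?_⟩)
    · intro a b h
      exact Subtype.ext (Subtype.ext (congrArg Subtype.val h :))
    · rintro ⟨v, hv⟩
      have hvz : Commute (v : G) A.z := by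
        have hv' : v ∈ zpowers R.c' := hK ▸ hv
        obtain ⟨i, rfl⟩ := mem_zpowers_iff.1 hv'
        rw [SubgroupClass.coe_zpow]
        exact R.hcz.zpow_left i
      refine ⟨⟨⟨v, Subgroup.mem_centralizer_singleton_iff.2 (Subtype.ext hvz.eq)⟩, MonoidHom.mem_ker.2 (Subtype.ext ?_)⟩, rfl⟩
      show Qu.ψ (π v) = 1
      rw [show π v = 1 from (QuotientGroup.eq_one_iff v).2 hv, map_one]
  have h := f.ker.card_mul_index
  rw [Subgroup.index_ker, MonoidHom.range_eq_top.2 hsurj, Subgroup.card_top, hker,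
    show Nat.card (Subgroup.centralizer ({z'} : Set R.X)) = A.o * A.D.m * 4 from
      (Nat.card_congr (Equiv.subtypeEquivRight fun x => by
        rw [Subgroup.mem_centralizer_singleton_iff]
        exact ⟨fun e => congrArg Subtype.val e, fun e => Subtype.ext e.eq⟩)).trans (R.card_cent_z hq)] at h
  refine Nat.eq_of_mul_eq_mul_left A.D.m_pos (h.trans ?_)
  ring

include hq Qu in
theorem card_quot : Nat.card (R.X ⧸ Cfsg.oddCore R.X) = 2 * A.o * p * outerCard p := by
  have ho := Qu.odd_p R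
  have h := CfsgLib.Perm.Dickson.card_psl (F := ZMod p)
  rw [gcd_odd ho, ← outer_inv_prod ho, Nat.card_zmod, R.invCard_eq hq Qu] at h
  rw [Nat.card_congr Qu.ψ.toEquiv, Nat.card_congr (pslEquiv (F := ZMod p)).toEquiv]
  refine Nat.eq_of_mul_eq_mul_left two_pos (h.trans ?_)
  ring

include hq Qu in
theorem card_X : Nat.card R.X = A.D.m * (2 * A.o * p * outerCard p) := by
  rw [(Cfsg.oddCore R.X).card_eq_card_quotient_mul_card_subgroup, R.card_quot hq Qu, R.card_oddCore hq Qu,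
    mul_comm]

include hq Qu in
/-- **the involutions of the normaliser outside `X`** -/
theorem card_out : Nat.card {y : G // y ∈ R.N ∧ orderOf y = 2 ∧ y ∉ R.X} = A.D.m * (2 * A.o * p) := by
  classical
  set c₁ : R.N := ⟨R.c, R.X_le_N R.c_mem⟩ with hc₁
  haveI hYn : (zpowers c₁).Normal := ⟨fun v hv n => by
    obtain ⟨i, rfl⟩ := mem_zpowers_iff.1 hv
    rw [← conj_zpow]
    refine zpow_mem ?_ i
    rcases R.N_conj hq Qu n.2 with h | h
    · rw [show n * c₁ * n⁻¹ = c₁ from Subtype.ext h]; exact mem_zpowers _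
    · rw [show n * c₁ * n⁻¹ = c₁⁻¹ from Subtype.ext h]; exact inv_mem (mem_zpowers _)⟩
  set π₁ := QuotientGroup.mk' (zpowers c₁)
  set Xn := R.X.subgroupOf R.N
  have hkerle : zpowers c₁ ≤ Xn := zpowers_le.2 R.c_mem
  have hπ1 : ∀ {v : R.N}, π₁ v = 1 → ∃ i : ℤ, (v : G) = R.c ^ i := fun {v} h => by
    obtain ⟨i, hi⟩ := mem_zpowers_iff.1 ((QuotientGroup.eq_one_iff v).1 h)
    exact ⟨i, by rw [← hi, SubgroupClass.coe_zpow]⟩
  have hXidx : Xn.index = 2 := by
    rw [Subgroup.index_eq_two_iff]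
    refine ⟨⟨R.w⁻¹, inv_mem R.w_mem_N⟩, fun b => ?_⟩
    by_cases hb : (b : G) ∈ R.X
    · exact Or.inr ⟨hb, fun h => R.w_not_mem hq (inv_mem_iff.1 ((Subgroup.mul_mem_cancel_left _ hb).1 h))⟩
    · exact Or.inl ⟨R.two hq b.2 hb, hb⟩
  haveI : Xn.Normal := Subgroup.normal_of_index_eq_two hXidx
  set M := Xn.map π₁ with hMdef
  haveI : M.Normal := Subgroup.Normal.map inferInstance _ (QuotientGroup.mk'_surjective _)
  have hMcomap : ∀ v : R.N, π₁ v ∈ M ↔ (v : G) ∈ R.X := fun v => by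
    rw [← Subgroup.mem_comap, hMdef, Subgroup.comap_map_eq, QuotientGroup.ker_mk', sup_eq_left.2 hkerle]
    rfl
  have hMidx : M.index = 2 := by
    rw [hMdef, Subgroup.index_map_eq _ (QuotientGroup.mk'_surjective _) (by rw [QuotientGroup.ker_mk']; exact hkerle),
      hXidx]
  -- the image of `X`
  let φ : R.X →* M := (π₁.comp (Subgroup.inclusion R.X_le_N)).codRestrict _ fun x => (hMcomap _).2 x.2
  have hφs : Function.Surjective φ := by
    rintro ⟨v, hv⟩
    obtain ⟨n, rfl⟩ := QuotientGroup.mk'_surjective _ v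
    exact ⟨⟨(n : G), (hMcomap n).1 hv⟩, Subtype.ext rfl⟩
  have hφk : φ.ker = Cfsg.oddCore R.X := by
    rw [R.oddCore_eq hq Qu]
    ext x
    rw [MonoidHom.mem_ker, Subtype.ext_iff]
    show π₁ (Subgroup.inclusion R.X_le_N x) = 1 ↔ _
    constructor
    · intro h
      obtain ⟨i, hi⟩ := hπ1 h
      exact mem_zpowers_iff.2 ⟨i, Subtype.ext (by rw [SubgroupClass.coe_zpow]; exact hi.symm)⟩
    · intro h
      obtain ⟨i, rfl⟩ := mem_zpowers_iff.1 h
      exact (QuotientGroup.eq_one_iff _).2 (mem_zpowers_iff.2 ⟨i, Subtype.ext (by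
        rw [SubgroupClass.coe_zpow, Subgroup.coe_inclusion, SubgroupClass.coe_zpow]; rfl)⟩)
  let e : M ≃* Matrix.ProjectiveSpecialLinearGroup (Fin 2) (ZMod p) :=
    (((QuotientGroup.quotientMulEquivOfEq hφk).symm.trans (QuotientGroup.quotientKerEquivOfSurjective φ hφs)).symm).trans Qu.ψ
  -- nothing centralises the image of `X`
  have hC : Subgroup.centralizer (M : Set (R.N ⧸ zpowers c₁)) = ⊥ := by
    refine (Subgroup.eq_bot_iff_forall _).2 fun v hv => ?_
    obtain ⟨n, rfl⟩ := QuotientGroup.mk'_surjective _ v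
    have hcomm : ∀ x, (hx : x ∈ R.X) → ∃ i : ℤ, (n : G) * x * (n : G)⁻¹ = x * R.c ^ i := by
      intro x hx
      have h1 := Subgroup.mem_centralizer_iff.1 hv _ ((hMcomap ⟨x, R.X_le_N hx⟩).2 hx)
      obtain ⟨i, hi⟩ := hπ1 (v := (⟨x, R.X_le_N hx⟩ : R.N)⁻¹ * (n * ⟨x, R.X_le_N hx⟩ * n⁻¹)) (by
        rw [map_mul, map_mul, map_mul, map_inv, map_inv, ← h1, mul_inv_cancel_right, inv_mul_cancel])
      refine ⟨i, ?_⟩
      rw [← hi]
      push_cast
      group
    have hfix : ∀ x ∈ A.four, (n : G) * x * (n : G)⁻¹ = x := by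
      intro x hx
      obtain ⟨i, hi⟩ := hcomm x (R.four_le hx)
      have h2 : x * R.c ^ i * (x * R.c ^ i) = 1 := by
        rw [← hi, show (n : G) * x * (n : G)⁻¹ * ((n : G) * x * (n : G)⁻¹) = (n : G) * (x * x) * (n : G)⁻¹ by group,
          A.four_sq hx, mul_one, mul_inv_cancel]
      rw [mul_assoc, ← mul_assoc (R.c ^ i), ((R.commute_four hx).zpow_left i).eq, mul_assoc, ← mul_assoc x,
        A.four_sq hx, one_mul] at h2
      have h3 : R.c ^ i = 1 := orderOf_eq_one_iff.1 (Nat.eq_one_of_dvd_coprimes (Nat.coprime_two_left.2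
        ((R.ord_c ▸ A.D.odd_m).of_dvd_nat (orderOf_dvd_of_mem_zpowers (zpow_mem (mem_zpowers R.c) i))))
        (orderOf_dvd_of_pow_eq_one (by rw [sq]; exact h2)) dvd_rfl)
      rw [hi, h3, mul_one]
    obtain ⟨j, w, hw, hn⟩ := R.list' (mul_inv_eq_iff_eq_mul.1 (hfix _ A.z_mem))
      (mul_inv_eq_iff_eq_mul.1 (hfix _ A.t_mem))
    obtain ⟨g, hg, hgc, h1, h2, h3⟩ := R.exists_cycle hq
    have hgw : g * w * g⁻¹ = w := by
      obtain ⟨i, hi⟩ := hcomm g hg
      have h4 : (n : G) * g * (n : G)⁻¹ = w * g * w⁻¹ := by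
        rw [hn, show R.c ^ j * w * g * (R.c ^ j * w)⁻¹ = R.c ^ j * (w * g * w⁻¹) * (R.c ^ j)⁻¹ by group]
        have : Commute (R.c ^ j) (w * g * w⁻¹) := (((R.commute_four hw).pow_left j).mul_right
          ((hgc.symm.pow_left j))).mul_right ((R.commute_four hw).pow_left j).inv_right
        rw [this.eq, mul_inv_cancel_right]
      rw [h4] at hi
      have h5 : g⁻¹ * w * g * w⁻¹ = R.c ^ i := by
        rw [show g⁻¹ * w * g * w⁻¹ = g⁻¹ * (w * g * w⁻¹) by group, hi, inv_mul_cancel_left]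
      have h6 : g⁻¹ * w * g ∈ A.four := by
        rcases hw with rfl | rfl | rfl | rfl
        · simp
        · rw [show g⁻¹ * A.z * g = A.t₀ by rw [← h2]; group]; exact A.t_mem
        · rw [show g⁻¹ * A.t₀ * g = A.t₀ * A.z by
            rw [show g⁻¹ * A.t₀ * g = g⁻¹ * (g * (A.t₀ * A.z) * g⁻¹) * g by rw [h3]]; group]; exact Or.inr (Or.inr (Or.inr rfl))
        · rw [show g⁻¹ * (A.t₀ * A.z) * g = A.z by rw [← h1]; group]; exact A.z_mem
      have h7 : R.c ^ i ∈ A.four := h5 ▸ mul_mem h6 (inv_mem hw)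
      rw [R.inter_four h7, mul_inv_eq_one] at h5
      calc g * w * g⁻¹ = g * (g⁻¹ * w * g) * g⁻¹ := by rw [h5]
        _ = w := by group
    have hw1 : w = 1 := by
      rcases hw with rfl | rfl | rfl | rfl
      · rfl
      · exact absurd (h1.symm.trans hgw) A.tz_ne.1
      · exact absurd (h2.symm.trans hgw) A.t_ne_z.symm
      · exact absurd (h3.symm.trans hgw) A.tz_ne.2.1.symm
    rw [QuotientGroup.mk'_apply, QuotientGroup.eq_one_iff]
    exact mem_zpowers_iff.2 ⟨j, Subtype.ext (by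
      rw [SubgroupClass.coe_zpow, zpow_natCast, hn, hw1, mul_one])⟩
  -- the quotient is the projective linear group
  have ho := Qu.odd_p R
  have h2F : (2 : ZMod p) ≠ 0 := CfsgLib.Perm.Dickson.two_ne_zero_of_odd ho
  have hd1 : (diagPart M e).index = 1 := by
    haveI := ringAut_subsingleton (F := ZMod p) (by rw [ZMod.card]; exact Fact.out)
    exact Nat.dvd_one.1 (by
      have := index_diagPart_dvd M e
      rwa [Nat.card_unique] at this)
  have hbij := toG_bijective M e hC h2F (by rw [hMidx, hd1])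
  have hD : ∀ v : R.N ⧸ zpowers c₁, v ∈ diagPart M e := fun v => by
    rw [Subgroup.index_eq_one.1 hd1]; trivial
  set T := {v : R.N ⧸ zpowers c₁ // orderOf v = 2 ∧ v ∉ M}
  have hT : Nat.card T = 2 * A.o * p := by
    have hn2 := ncard_outer (F := ZMod p) ho
    rw [← Nat.card_coe_set_eq, Nat.card_zmod, R.invCard_eq hq Qu] at hn2
    refine Nat.eq_of_mul_eq_mul_left two_pos (Eq.trans ?_ (hn2.trans (by ring)))
    congr 1
    refine Nat.card_congr (Equiv.ofBijective (fun v : T => ⟨toG M e ⟨v.1, hD _⟩, ?_, ?_⟩) ⟨?_, ?_⟩)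
    · rw [orderOf_injective _ (toG_injective M e hC), Subgroup.orderOf_mk, v.2.1]
    · rw [← mem_iff_toG M e hC h2F]
      exact v.2.2
    · intro a b h
      have h' : toG M e ⟨a.1, hD _⟩ = toG M e ⟨b.1, hD _⟩ := congrArg Subtype.val h
      exact Subtype.ext (congrArg Subtype.val (toG_injective M e hC h') :)
    · rintro ⟨g, hg1, hg2⟩
      obtain ⟨⟨x, hx⟩, rfl⟩ := hbij.2 g
      rw [orderOf_injective _ (toG_injective M e hC), Subgroup.orderOf_mk] at hg1
      rw [← mem_iff_toG M e hC h2F] at hg2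
      exact ⟨⟨x, hg1, hg2⟩, rfl⟩
  rw [← hT, ← R.ord_c, ← Nat.card_zpowers, ← Nat.card_prod]
  choose s hs using fun v : R.N ⧸ zpowers c₁ => QuotientGroup.mk'_surjective (zpowers c₁) v
  refine (Nat.card_eq_of_bijective (fun a : zpowers R.c × T =>
    (⟨(s a.2.1 : G) * a.1, ?_⟩ : {y : G // y ∈ R.N ∧ orderOf y = 2 ∧ y ∉ R.X})) ⟨?_, ?_⟩).symm
  · obtain ⟨⟨a, ha⟩, ⟨v, hv2, hvM⟩⟩ := a
    show (s v : G) * a ∈ R.N ∧ orderOf ((s v : G) * a) = 2 ∧ (s v : G) * a ∉ R.X
    obtain ⟨i, rfl⟩ := mem_zpowers_iff.1 ha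
    have hyX : (s v : G) * R.c ^ i ∉ R.X := fun h => hvM (by
      rw [← hs v]
      exact (hMcomap _).2 ((Subgroup.mul_mem_cancel_right _ (zpow_mem R.c_mem i)).1 h))
    have hyN : (s v : G) * R.c ^ i ∈ R.N := mul_mem (s v).2 (zpow_mem (R.X_le_N R.c_mem) i)
    refine ⟨hyN, ?_, hyX⟩
    set y := (s v : G) * R.c ^ i with hy
    obtain ⟨j, hj⟩ : ∃ j : ℤ, y * y = R.c ^ j := by
      refine hπ1 (v := ⟨y, hyN⟩ * ⟨y, hyN⟩) ?_
      have hyv : π₁ ⟨y, hyN⟩ = v := by
        rw [show (⟨y, hyN⟩ : R.N) = s v * c₁ ^ i from Subtype.ext (by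
          rw [Subgroup.coe_mul, SubgroupClass.coe_zpow]), map_mul, hs,
          show π₁ (c₁ ^ i) = 1 from (QuotientGroup.eq_one_iff _).2 (zpow_mem (mem_zpowers _) i), mul_one]
      rw [map_mul, hyv, mul_self_of_order_two hv2]
    have h1 : R.c ^ j = (R.c ^ j)⁻¹ := by
      calc R.c ^ j = y * R.c ^ j * y⁻¹ := by rw [← hj]; group
        _ = (R.c ^ j)⁻¹ := by rw [← conj_zpow, R.out_inv hq Qu hyN hyX, inv_zpow]
    have h2 : R.c ^ j = 1 := orderOf_eq_one_iff.1 (Nat.eq_one_of_dvd_coprimes (Nat.coprime_two_left.2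
      ((R.ord_c ▸ A.D.odd_m).of_dvd_nat (orderOf_dvd_of_mem_zpowers (zpow_mem (mem_zpowers R.c) j))))
      (orderOf_dvd_of_pow_eq_one (by rw [sq]; exact mul_eq_one_iff_eq_inv.2 h1)) dvd_rfl)
    exact orderOf_eq_prime (by rw [sq, hj, h2]) fun h => hyX (h ▸ one_mem _)
  · rintro ⟨⟨a, ha⟩, v⟩ ⟨⟨b, hb⟩, v'⟩ h
    have h0 : (s v.1 : G) * a = (s v'.1 : G) * b := congrArg Subtype.val h
    have hval : ∀ (v : R.N ⧸ zpowers c₁) (a : G), (ha : a ∈ zpowers R.c) →
        π₁ ⟨(s v : G) * a, mul_mem (s v).2 (zpowers_le.2 (R.X_le_N R.c_mem) ha)⟩ = v := by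
      intro v a ha
      obtain ⟨i, rfl⟩ := mem_zpowers_iff.1 ha
      rw [show (⟨(s v : G) * R.c ^ i, _⟩ : R.N) = s v * c₁ ^ i from Subtype.ext (by
        rw [Subgroup.coe_mul, SubgroupClass.coe_zpow]), map_mul, hs,
        show π₁ (c₁ ^ i) = 1 from (QuotientGroup.eq_one_iff _).2 (zpow_mem (mem_zpowers _) i), mul_one]
    have hvv : v = v' := Subtype.ext (by
      rw [← hval v.1 a ha, ← hval v'.1 b hb]
      exact congrArg π₁ (Subtype.ext h0))
    subst hvv
    exact Prod.ext (Subtype.ext (mul_left_cancel h0)) rfl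
  · rintro ⟨y, hyN, hy2, hyX⟩
    set v := π₁ ⟨y, hyN⟩ with hv
    have hvM : v ∉ M := fun h => hyX ((hMcomap _).1 h)
    have hv2 : orderOf v = 2 := orderOf_eq_prime (by
      rw [hv, ← map_pow, show (⟨y, hyN⟩ : R.N) ^ 2 = 1 from Subtype.ext (by push_cast; exact sq_of_order_two hy2),
        map_one]) fun h => hvM (h ▸ one_mem M)
    obtain ⟨i, hi⟩ := hπ1 (v := (s v)⁻¹ * ⟨y, hyN⟩) (by rw [map_mul, map_inv, hs, ← hv, inv_mul_cancel])
    refine ⟨(⟨R.c ^ i, zpow_mem (mem_zpowers _) i⟩, ⟨v, hv2, hvM⟩), Subtype.ext ?_⟩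
    show (s v : G) * R.c ^ i = y
    rw [← hi]
    push_cast
    group

theorem cr'_central (x : R.X) : Commute x (⟨R.cr, R.mem_X.2 (Commute.refl _)⟩ : R.X) :=
  Subtype.ext (R.mem_X.1 x.2).eq

include hq in
theorem mem_zpowers_cr {y : G} (hy : y ∈ R.X) (h : y ^ R.r = 1) : y ∈ zpowers R.cr :=
  A.hG.mem_zpowers_of_commute (R.r_prime hq) R.r_ne_two (R.ord_cr hq) h (R.mem_X.1 hy).symm

include hq in
/-- elements of order divisible by the prime have its subgroup among their powers -/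
theorem cr_mem_zpowers {x : G} (hx : x ∈ R.X) (hr : R.r ∣ orderOf x) : R.cr ∈ zpowers x := by
  have hne : orderOf x / R.r ≠ 0 :=
    (Nat.div_pos (Nat.le_of_dvd (orderOf_pos x) hr) (R.r_prime hq).pos).ne'
  set y := x ^ (orderOf x / R.r) with hy
  have hyo : orderOf y = R.r := by
    rw [hy, orderOf_pow' _ hne, Nat.gcd_eq_right (Nat.div_dvd_of_dvd hr), Nat.div_div_self hr (orderOf_pos x).ne']
  have h1 := R.mem_zpowers_cr hq (pow_mem hx _ : y ∈ R.X) (orderOf_dvd_iff_pow_eq_one.1 hyo.dvd)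
  have h2 : zpowers y = zpowers R.cr := Subgroup.eq_of_le_of_card_ge (zpowers_le.2 h1)
    (by rw [Nat.card_zpowers, Nat.card_zpowers, hyo, R.ord_cr hq])
  have h3 : zpowers y ≤ zpowers x := zpowers_le.2 (pow_mem (mem_zpowers x) _)
  exact h3 (h2 ▸ mem_zpowers R.cr)

end Tor

/-- what is needed from the outer torus -/
def BigData : Prop :=
  ∃ (r : ℕ) (Λ : Type u) (_ : CommGroup Λ) (_ : Finite Λ) (_ : IsCyclic Λ) (P : PairTI G Λ) (p O : ℕ),
    r.Prime ∧ ¬ r ∣ 2 * A.D.k * A.o ∧ 5 ≤ Nat.card Λ ∧ (∀ x, P.Sp x → r ∣ orderOf x) ∧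
    (∃ u : P.X, P.θ u ≠ 1 ∧ ∀ y ∈ P.N, y ∉ P.X → y * (u : G) * y⁻¹ = (u : G)⁻¹) ∧
    Nat.card P.X = A.D.m * (2 * A.o * p * O) ∧ P.nOut = A.D.m * (2 * A.o * p) ∧
    ((p = 3 ∧ O = 2) ∨ (5 ≤ p ∧ O ≤ p + 1 ∧ 5 ≤ A.D.m))

/-- **the pair of the outer torus** -/
theorem exists_bigData (hq : 5 ≤ Fintype.card F) : A.BigData := by
  classical
  obtain ⟨R⟩ := A.exists_tor
  obtain ⟨p, hpf, ⟨Qu⟩⟩ := R.exists_quot hq
  haveI := hpf
  haveI hr := Fact.mk (R.r_prime hq)
  obtain ⟨P⟩ : Nonempty (Sylow R.r R.X) := inferInstance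
  haveI hPc : IsCyclic (P : Subgroup R.X) := (A.hG.subgroup R.X) R.r (R.r_prime hq) R.r_ne_two P P.2
  letI : CommGroup (P : Subgroup R.X) := IsCyclic.commGroup
  have hPO : OddCyclic (P : Subgroup R.X) := (A.hG.subgroup R.X).subgroup _
  set cr' : R.X := ⟨R.cr, R.mem_X.2 (Commute.refl _)⟩ with hcr'
  have hcr'o : orderOf cr' = R.r := by rw [Subgroup.orderOf_mk, R.ord_cr hq]
  have hcrpow : cr' ^ R.r = 1 := orderOf_dvd_iff_pow_eq_one.1 hcr'o.dvd
  -- the subgroup of prime order lies in the Sylow subgroup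
  have hcrP : cr' ∈ (P : Subgroup R.X) := by
    haveI : (zpowers cr').Normal := ⟨fun v hv g => by
      obtain ⟨i, rfl⟩ := mem_zpowers_iff.1 hv
      rw [((R.cr'_central g).zpow_right i).eq, mul_inv_cancel_right]
      exact zpow_mem (mem_zpowers _) i⟩
    have hp1 : IsPGroup R.r (zpowers cr') := IsPGroup.of_card (n := 1) (by rw [Nat.card_zpowers, hcr'o, pow_one])
    rw [← P.is_maximal' (hp1.to_sup_of_normal_left P.2) le_sup_right]
    exact le_sup_left (a := zpowers cr') (mem_zpowers cr')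
  set θ : R.X →* (P : Subgroup R.X) := MonoidHom.transfer (MonoidHom.id (P : Subgroup R.X)) with hθ
  have hθcr : θ cr' ≠ 1 := by
    intro h
    rw [hθ, MonoidHom.transfer_eq_pow (MonoidHom.id (P : Subgroup R.X)) cr' (fun k g₀ _ => by
      rw [((R.cr'_central g₀⁻¹).pow_right k).eq, inv_mul_cancel_right])] at h
    have h1 : cr' ^ (P : Subgroup R.X).index = 1 := congrArg Subtype.val h
    exact P.not_dvd_index (hcr'o.symm.dvd.trans (orderOf_dvd_of_pow_eq_one h1))
  -- injective on the Sylow subgroup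
  have hθP : Function.Bijective (fun v : (P : Subgroup R.X) => θ v) := by
    refine Finite.injective_iff_bijective.1 ((injective_iff_map_eq_one (θ.comp (P : Subgroup R.X).subtype)).2
      fun v hv => ?_)
    by_contra hv1
    obtain ⟨j, -, hj⟩ := (Nat.dvd_prime_pow (R.r_prime hq)).1
      (P.2.exists_card_eq.choose_spec ▸ orderOf_dvd_natCard v)
    have hj0 : j ≠ 0 := fun h0 => hv1 (orderOf_eq_one_iff.1 (by rw [hj, h0, pow_zero]))
    have hdiv : R.r ∣ orderOf ((v : R.X) : G) := by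
      rw [Subgroup.orderOf_coe, Subgroup.orderOf_coe, hj]; exact dvd_pow_self _ hj0
    obtain ⟨i, hi⟩ := mem_zpowers_iff.1 (R.cr_mem_zpowers hq (v : R.X).2 hdiv)
    have : cr' = (v : R.X) ^ i := Subtype.ext (by rw [SubgroupClass.coe_zpow, hi])
    exact hθcr (by rw [this, map_zpow, show θ (v : R.X) = 1 from hv, one_zpow])
  have hθs : Function.Surjective θ := fun y => ⟨_, (hθP.2 y).choose_spec⟩
  -- the kernel
  have hker : ∀ x : R.X, θ x = 1 ↔ ¬ R.r ∣ orderOf x := by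
    have hcard : Nat.card θ.ker = (P : Subgroup R.X).index := by
      have h1 := θ.ker.card_mul_index
      rw [Subgroup.index_ker, MonoidHom.range_eq_top.2 hθs, Subgroup.card_top] at h1
      exact Nat.eq_of_mul_eq_mul_right (Nat.card_pos : 0 < Nat.card (P : Subgroup R.X))
        (h1.trans ((P : Subgroup R.X).card_mul_index.symm.trans (mul_comm _ _)))
    intro x
    constructor
    · intro h hd
      exact P.not_dvd_index (hcard ▸ hd.trans (Subgroup.orderOf_dvd_natCard _ (MonoidHom.mem_ker.2 h)))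
    · intro h
      obtain ⟨n, hn⟩ := P.2.exists_card_eq
      refine orderOf_eq_one_iff.1 (Nat.eq_one_of_dvd_coprimes ?_ (orderOf_map_dvd θ x)
        ((orderOf_dvd_natCard (θ x)).trans hn.dvd))
      exact Nat.Coprime.pow_right n (((R.r_prime hq).coprime_iff_not_dvd.2 h).symm)
  -- conjugation by `w`
  have hcrN : R.w * R.cr * R.w⁻¹ ∈ zpowers R.cr := R.conj_of_mem_N R.w_mem_N
  let cw : R.X →* R.X :=
    { toFun := fun x => ⟨R.w * x * R.w⁻¹, R.conj_mem_X hcrN x.2⟩
      map_one' := Subtype.ext (by simp)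
      map_mul' := fun a b => Subtype.ext (by simp [mul_assoc]) }
  have hcwk : θ.ker ≤ (θ.comp cw).ker := fun x hx => by
    rw [MonoidHom.mem_ker, MonoidHom.comp_apply, hker, ← Subgroup.orderOf_coe]
    rw [MonoidHom.mem_ker, hker, ← Subgroup.orderOf_coe] at hx
    show ¬ R.r ∣ orderOf (R.w * (x : G) * R.w⁻¹)
    rwa [← MulAut.conj_apply, MulEquiv.orderOf_eq]
  set σ := θ.liftOfSurjective hθs ⟨θ.comp cw, hcwk⟩ with hσdef
  have hσ : ∀ x, σ (θ x) = θ (cw x) := fun x =>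
    MonoidHom.liftOfRightInverse_comp_apply θ _ (Function.rightInverse_surjInv hθs) ⟨θ.comp cw, hcwk⟩ x
  have hw2 : R.w * R.w ∈ R.X := by
    refine R.mem_X.2 (mul_inv_eq_iff_eq_mul.1 ?_)
    rw [show R.w * R.w * R.cr * (R.w * R.w)⁻¹ = R.w * (R.w * R.cr * R.w⁻¹) * R.w⁻¹ by group, R.w_cr,
      show R.w * R.cr⁻¹ * R.w⁻¹ = (R.w * R.cr * R.w⁻¹)⁻¹ by group, R.w_cr, inv_inv]
  have hinvol : Function.Involutive σ := fun y => by
    obtain ⟨x, rfl⟩ := hθs y
    rw [hσ, hσ, show cw (cw x) = ⟨_, hw2⟩ * x * (⟨_, hw2⟩ : R.X)⁻¹ from Subtype.ext (by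
      show R.w * (R.w * (x : G) * R.w⁻¹) * R.w⁻¹ = R.w * R.w * (x : G) * (R.w * R.w)⁻¹
      group), map_mul, map_mul, map_inv, mul_right_comm, mul_inv_cancel, one_mul]
  have hfp : MonoidHom.FixedPointFree σ := by
    intro y hy
    by_contra hy1
    obtain ⟨n, hn⟩ := P.2.exists_card_eq
    obtain ⟨j, -, hj⟩ := (Nat.dvd_prime_pow (R.r_prime hq)).1 ((orderOf_dvd_natCard y).trans hn.dvd)
    obtain ⟨j', rfl⟩ := Nat.exists_eq_succ_of_ne_zero (n := j) fun h0 => hy1 (orderOf_eq_one_iff.1 (by rw [hj, h0, pow_zero]))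
    set y' := y ^ R.r ^ j' with hy'
    have hy'o : orderOf y' = R.r := by
      rw [hy', orderOf_pow' _ (pow_ne_zero _ (R.r_prime hq).ne_zero), hj, Nat.gcd_eq_right (pow_dvd_pow _ j'.le_succ),
        pow_succ, Nat.mul_div_cancel_left _ (pow_pos (R.r_prime hq).pos _)]
    obtain ⟨i, hi⟩ := mem_zpowers_iff.1 (hPO.mem_zpowers_of_commute (R.r_prime hq) R.r_ne_two hy'o
      (y := θ cr') (by rw [← map_pow, hcrpow, map_one]) (Commute.all _ _))
    have hfix : σ (θ cr') = θ cr' := by rw [← hi, map_zpow, hy', map_pow, hy]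
    rw [hσ, show cw cr' = cr'⁻¹ from Subtype.ext R.w_cr, map_inv] at hfix
    refine hθcr (orderOf_eq_one_iff.1 (Nat.eq_one_of_dvd_coprimes (Nat.coprime_two_left.2 ?_)
      (orderOf_dvd_of_pow_eq_one (by rw [sq]; exact mul_eq_one_iff_eq_inv.2 hfix.symm)) dvd_rfl))
    exact R.odd_r.of_dvd_nat ((orderOf_map_dvd θ cr').trans hcr'o.dvd)
  have hoddΛ : Odd (Nat.card (P : Subgroup R.X)) := by
    obtain ⟨n, hn⟩ := P.2.exists_card_eq
    rw [hn]
    exact R.odd_r.pow
  let T : PairTI G (P : Subgroup R.X) :=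
    { X := R.X, N := R.N, le := R.X_le_N, θ := θ, surj := hθs, odd := hoddΛ, t := R.w, t_mem := R.w_mem_N,
      t_not := R.w_not_mem hq, two := fun g hg hn => R.two hq hg hn,
      inv := fun x => ⟨R.conj_mem_X hcrN x.2, by
        show θ (cw x) = _
        rw [← hσ, hfp.coe_eq_inv_of_involutive hinvol]⟩,
      ti := fun g x y hx hy hgxy => by
        have h1 : R.r ∣ orderOf (x : G) := by
          by_contra h
          exact hx ((hker x).2 (by rwa [← Subgroup.orderOf_coe]))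
        obtain ⟨i, hi⟩ := mem_zpowers_iff.1 (R.cr_mem_zpowers hq x.2 h1)
        refine R.mem_N (R.mem_zpowers_cr hq ?_ ?_)
        · rw [← hi, ← conj_zpow, hgxy]
          exact zpow_mem y.2 i
        · rw [conj_pow, ← R.ord_cr hq, pow_orderOf_eq_one, mul_one, mul_inv_cancel] }
  have hm5 : p = 3 ∨ (5 ≤ p ∧ 5 ≤ A.D.m) ∨ Nat.card (P : Subgroup R.X) < 5 := by
    rcases Qu.shape with h | ⟨h5, hperf⟩
    · exact Or.inl h
    rcases lt_or_ge (Nat.card (P : Subgroup R.X)) 5 with h | h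
    · exact Or.inr (Or.inr h)
    refine Or.inr (Or.inl ⟨h5, h.trans (Nat.le_of_dvd A.D.m_pos ?_)⟩)
    rw [← R.card_oddCore hq Qu]
    refine Subgroup.card_dvd_of_surjective (θ.comp (Cfsg.oddCore R.X).subtype) fun y => ?_
    obtain ⟨x, rfl⟩ := hθs y
    set π := QuotientGroup.mk' (Cfsg.oddCore R.X)
    have hmem : π x ∈ (commutator R.X).map π := by
      rw [_root_.commutator_def, Subgroup.map_commutator, Subgroup.map_top_of_surjective _
        (QuotientGroup.mk'_surjective _), ← _root_.commutator_def, hperf]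
      trivial
    obtain ⟨u, hu, hux⟩ := hmem
    refine ⟨⟨u⁻¹ * x, (QuotientGroup.eq (a := u) (b := x)).1 hux⟩, ?_⟩
    show θ (u⁻¹ * x) = θ x
    rw [map_mul, map_inv, show θ u = 1 from MonoidHom.mem_ker.1 (Abelianization.commutator_subset_ker θ hu),
      inv_one, one_mul]
  -- the order of the abelian quotient
  have hΛ : 5 ≤ Nat.card (P : Subgroup R.X) := by
    obtain ⟨n, hn⟩ := P.2.exists_card_eq
    have hn0 : n ≠ 0 := fun h => by
      have := Subgroup.orderOf_dvd_natCard _ hcrP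
      rw [hn, h, pow_zero, hcr'o, Nat.dvd_one] at this
      exact (R.r_prime hq).ne_one this
    have hr2 := R.r_ne_two
    have hrge := (R.r_prime hq).two_le
    by_contra hlt
    push Not at hlt
    obtain ⟨rfl, hr3⟩ : n = 1 ∧ R.r = 3 := by
      have h1 : R.r ≤ Nat.card (P : Subgroup R.X) := hn ▸ Nat.le_self_pow hn0 _
      have h3 : R.r = 3 := by
        have := R.odd_r
        rw [Nat.odd_iff] at this
        omega
      refine ⟨?_, h3⟩
      rw [hn, h3] at hlt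
      by_contra hne
      have : 3 ^ 2 ≤ 3 ^ n := Nat.pow_le_pow_right (by norm_num) (by omega)
      omega
    obtain ⟨g, hg, -, h1, h2, h3'⟩ := R.exists_cycle hq
    set g' : R.X := ⟨g, hg⟩
    obtain ⟨a, b, hb, hab⟩ := Nat.exists_eq_pow_mul_and_not_dvd (orderOf_pos g').ne' R.r (R.r_prime hq).ne_one
    set y := g' ^ b with hy
    have hyp : y ^ R.r ^ a = 1 := by rw [hy, ← pow_mul, mul_comm, ← hab, pow_orderOf_eq_one]
    have htop : zpowers (θ cr') = ⊤ := by
      refine Subgroup.eq_top_of_card_eq _ ?_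
      rw [Nat.card_zpowers, hn, pow_one]
      exact orderOf_eq_prime (by rw [← map_pow, hcrpow, map_one]) hθcr
    obtain ⟨i, hi⟩ := mem_zpowers_iff.1 (htop ▸ mem_top (θ y) : θ y ∈ zpowers (θ cr'))
    have hycr : y = cr' ^ i := by
      rw [← mul_inv_eq_one]
      have hk : θ (y * (cr' ^ i)⁻¹) = 1 := by rw [map_mul, map_inv, map_zpow, hi, mul_inv_cancel]
      have hnd := (hker _).1 hk
      have hp : (y * (cr' ^ i)⁻¹) ^ R.r ^ (a + 1) = 1 := by
        rw [(((R.cr'_central y).zpow_right i).inv_right).mul_pow, pow_succ, pow_mul, hyp, one_pow, one_mul,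
          mul_comm, pow_mul, inv_pow, ← zpow_natCast (cr' ^ i), ← zpow_mul, mul_comm, zpow_mul, zpow_natCast,
          hcrpow, one_zpow, inv_one, one_pow]
      exact orderOf_eq_one_iff.1 (Nat.eq_one_of_dvd_coprimes
        (Nat.Coprime.pow_left (a + 1) ((R.r_prime hq).coprime_iff_not_dvd.2 hnd))
        (orderOf_dvd_of_pow_eq_one hp) dvd_rfl)
    have hgb : Commute (g ^ b) A.z := by
      have h4 : g ^ b = R.cr ^ i := by
        have := congrArg Subtype.val hycr
        simpa [hy, g', hcr', SubgroupClass.coe_zpow] using this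
      rw [h4]
      exact (R.hcz.pow_left _).zpow_left i
    have hg3 : Commute (g ^ 3) A.z := by
      refine mul_inv_eq_iff_eq_mul.1 ?_
      rw [show g ^ 3 * A.z * (g ^ 3)⁻¹ = g * (g * (g * A.z * g⁻¹) * g⁻¹) * g⁻¹ by
        rw [pow_succ, pow_two]; group, h1, h3', h2]
    have hgz : Commute g A.z := by
      have hb3 : Nat.Coprime b 3 := by
        rw [Nat.coprime_comm, Nat.prime_three.coprime_iff_not_dvd]
        exact hr3 ▸ hb
      have hS : g ∈ Subgroup.centralizer ({A.z} : Set G) := by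
        have hgcd := Nat.gcd_eq_gcd_ab b 3
        rw [hb3.gcd_eq_one] at hgcd
        have h5 : g = (g ^ b) ^ Nat.gcdA b 3 * (g ^ 3) ^ Nat.gcdB b 3 := by
          rw [← zpow_natCast, ← zpow_natCast, ← zpow_mul, ← zpow_mul, ← zpow_add, ← hgcd]
          simp
        rw [h5]
        exact mul_mem (zpow_mem (A.commute_z.2 hgb) _) (zpow_mem (A.commute_z.2 hg3) _)
      exact A.commute_z.1 hS
    exact A.tz_ne.1 (by rw [← h1, hgz.eq, mul_inv_cancel_right])
  refine ⟨R.r, (P : Subgroup R.X), inferInstance, inferInstance, hPc, T, p, outerCard p, R.r_prime hq,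
    R.not_dvd_k hq, hΛ, ?_, ⟨cr', hθcr, ?_⟩, R.card_X hq Qu, ?_, ?_⟩
  · rintro x ⟨hx, hne⟩
    by_contra h
    exact hne ((hker ⟨x, hx⟩).2 (by rwa [Subgroup.orderOf_mk]))
  · intro y hy hyX
    show y * R.cr * y⁻¹ = R.cr⁻¹
    rw [Tor.cr, ← conj_pow, R.out_inv hq Qu hy hyX, inv_pow]
  · exact R.card_out hq Qu
  · rcases hm5 with rfl | ⟨h5, hm⟩ | h
    · exact Or.inl ⟨rfl, rfl⟩
    · refine Or.inr ⟨h5, ?_, hm⟩
      unfold outerCard
      split_ifs <;> omega
    · omega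

end Setup

end CfsgLib.OddCyc
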