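import Cfsg.Agent.Lib.OddCyc.CentTwo
import Cfsg.Agent.Lib.OddCyc.Pair
import Cfsg.Agent.Lib.OddCyc.Recog
import Cfsg.Agent.Lib.GW.Final
import Cfsg.Agent.Lib.GW.XCount
import Cfsg.Agent.Lib.Invol.OrderTwelve
import Cfsg.Agent.Lib.Invol.InvolCentralizer
import Cfsg.Agent.S0251

/-!
# The centraliser of an element of prime order of the outer torus
-/

set_option autoImplicit false
set_option linter.unusedSectionVars false
set_option linter.style.haveILetI false

namespace CfsgLib.OddCyc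

open Subgroup Cfsg CfsgLib.Perm.Dickson CfsgLib.GW
open scoped commutatorElement

universe u

/-- nothing of odd order but `1` commutes with two commuting involutions of `PGL(2, q)` -/
theorem eq_one_of_commute_four {F : Type*} [Field F] [Finite F] (ho : Odd (Nat.card F)) {a b x : G2 F}
    (ha : orderOf a = 2) (hb : orderOf b = 2) (hab : a ≠ b) (hc : Commute a b) (hxa : Commute x a)
    (hxb : Commute x b) (hx : Odd (orderOf x)) : x = 1 := by
  haveI := finite_G2 (F := F)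
  obtain ⟨p, r, hgood, hm, -, -⟩ := exists_invol_torus ho ha
  haveI := isCyclic_pairFix (F := F) hgood.1
  have hsq1 : x * x = 1 → x = 1 := fun h => orderOf_eq_one_iff.1
    (Nat.eq_one_of_dvd_coprimes (Nat.coprime_two_right.2 hx) dvd_rfl (orderOf_dvd_of_pow_eq_one (by rw [sq, h])))
  have hmem : ∀ v : G2 F, Commute v a → v ∈ pairSet p r := fun v hv => by
    rw [← cent_eq_pairSet hgood.1 hm ha, Subgroup.mem_centralizer_singleton_iff]
    exact hv.eq
  have hbn : b ∉ pairFix p r := fun h => hab (eq_of_mem_cyclic inferInstance hm h ha hb)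
  by_cases hxf : x ∈ pairFix p r
  · have h := swap_conj hgood.1 (hmem b hc.symm) hbn hxf
    rw [hxb.symm.eq, mul_inv_cancel_right] at h
    exact hsq1 (mul_eq_one_iff_eq_inv.2 h)
  · exact hsq1 (sq_of_swap hgood.1 (hmem x hxa) hxf)

namespace Setup

variable {G : Type u} [Group G] [Finite G] {F : Type} [Field F] [Fintype F] (A : Setup G F)

/-- the core inside the group -/
noncomputable def core : Subgroup G := (Cfsg.oddCore ↥(centralizer {A.z})).map (centralizer {A.z}).subtype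

theorem card_core : Nat.card A.core = A.o := by
  rw [core, Subgroup.card_map_of_injective (centralizer {A.z}).subtype_injective]
  rfl

theorem mem_core {x : G} : x ∈ A.core ↔ ∃ h : x ∈ centralizer {A.z}, A.p ⟨x, h⟩ = 1 := by
  constructor
  · rintro ⟨v, hv, rfl⟩
    exact ⟨v.2, by rw [← MonoidHom.mem_ker, A.p_ker]; exact hv⟩
  · rintro ⟨h, h1⟩
    rw [← MonoidHom.mem_ker, A.p_ker] at h1
    exact ⟨⟨x, h⟩, h1, rfl⟩

theorem odd_core {x : G} (hx : x ∈ A.core) : Odd (orderOf x) := by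
  refine A.odd_o.of_dvd_nat ?_
  rw [← A.card_core]
  exact Subgroup.orderOf_dvd_natCard _ hx

theorem core_commute_z {x : G} (hx : x ∈ A.core) : Commute x A.z := A.commute_z.1 (A.mem_core.1 hx).1

/-- the torus of the outer involution, with the element inverting it -/
structure Tor where
  c : G
  w : G
  hcz : Commute c A.z
  hwz : Commute w A.z
  ord_c : orderOf c = A.D.m
  ct : Commute c A.t₀
  wt : w * A.t₀ * w⁻¹ = A.t₀ * A.z
  wc : w * c * w⁻¹ = c⁻¹
  list : ∀ x, Commute x A.z → Commute x A.t₀ →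
    ∃ i : ℕ, x = c ^ i ∨ x = c ^ i * A.z ∨ x = c ^ i * A.t₀ ∨ x = c ^ i * A.t₀ * A.z
  cent : ∀ x, Commute x A.z → ∀ i : ℕ, c ^ i ≠ 1 → Commute x (c ^ i) →
    ∃ k ∈ A.core, Commute (k * x) A.t₀
  inter : ∀ i : ℕ, c ^ i ∈ A.core → c ^ i = 1
  core_comm : ∀ k ∈ A.core, Commute c k
  inv_core : ∀ k ∈ A.core, A.t₀ * k * A.t₀⁻¹ = k⁻¹

theorem exists_tor : Nonempty A.Tor := by
  obtain ⟨c, w, hco, hwT, hTc, hwc, hlist, hcent⟩ := A.exists_cent_T
  refine ⟨{ c := c, w := w, hcz := A.commute_z.1 c.2, hwz := A.commute_z.1 w.2,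
            ord_c := by rw [Subgroup.orderOf_coe, hco], ct := congrArg Subtype.val hTc.eq.symm,
            wt := congrArg Subtype.val hwT, wc := congrArg Subtype.val hwc, list := ?_, cent := ?_,
            inter := ?_, core_comm := ?_, inv_core := ?_ }⟩
  · intro x hxz hxt
    obtain ⟨i, hi⟩ := hlist ⟨x, A.commute_z.2 hxz⟩ (Subtype.ext hxt.eq.symm)
    refine ⟨i, ?_⟩
    rcases hi with h | h | h | h
    · exact Or.inl (congrArg Subtype.val h)
    · exact Or.inr (Or.inl (congrArg Subtype.val h))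
    · exact Or.inr (Or.inr (Or.inl (congrArg Subtype.val h)))
    · exact Or.inr (Or.inr (Or.inr (congrArg Subtype.val h)))
  · intro x hxz i hi hx
    obtain ⟨k, hk, hc⟩ := hcent ⟨x, A.commute_z.2 hxz⟩ i (fun h => hi (congrArg Subtype.val h))
      (Subtype.ext hx.eq)
    exact ⟨k, A.mem_core.2 ⟨k.2, hk⟩, congrArg Subtype.val hc.eq.symm⟩
  · intro i hi
    obtain ⟨h, h1⟩ := A.mem_core.1 hi
    exact congrArg Subtype.val (A.fixed_eq_one A.ord_T A.T_ne (x := c ^ i) h1 (hTc.pow_right i))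
  · intro k hk
    obtain ⟨h, h1⟩ := A.mem_core.1 hk
    have hc : A.p c ∈ commutator _ := mem_of_odd_of_index_two A.D.index_comm
      ((A.D.odd_m.of_dvd_nat (hco ▸ orderOf_map_dvd A.p c)))
    exact congrArg Subtype.val (A.comm_core (x := ⟨k, h⟩) h1 hc).eq
  · intro k hk
    obtain ⟨h, h1⟩ := A.mem_core.1 hk
    exact congrArg Subtype.val (A.invert A.ord_T A.T_ne (x := ⟨k, h⟩) h1)

theorem ord_t : orderOf A.t₀ = 2 := A.t₀_spec.choose_spec.1

theorem z_sq' : A.z * A.z = 1 := mul_self_of_order_two A.hz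

theorem z_inv' : A.z⁻¹ = A.z := inv_eq_of_mul_eq_one_right A.z_sq'

theorem t_z : Commute A.t₀ A.z := A.commute_z.1 A.t₀_spec.choose

theorem t_ne_z : A.t₀ ≠ A.z := fun h => A.t₀_spec.choose_spec.2.1 (Subtype.ext h)

theorem ord_tz : orderOf (A.t₀ * A.z) = 2 := orderOf_mul_two A.ord_t A.hz A.t_z A.t_ne_z

theorem tz_ne : A.t₀ * A.z ≠ A.z ∧ A.t₀ * A.z ≠ A.t₀ ∧ A.t₀ * A.z ≠ 1 :=
  ⟨fun h => orderOf_eq_one_iff.not.1 (by rw [A.ord_t]; norm_num) (mul_eq_right.1 h),
    fun h => orderOf_eq_one_iff.not.1 (by rw [A.hz]; norm_num) (mul_eq_left.1 h),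
    orderOf_eq_one_iff.not.1 (by rw [A.ord_tz]; norm_num)⟩

/-- the four-group of the two involutions -/
def four : Subgroup G where
  carrier := {v | v = 1 ∨ v = A.z ∨ v = A.t₀ ∨ v = A.t₀ * A.z}
  one_mem' := Or.inl rfl
  mul_mem' := by
    have hzz := A.z_sq'
    have htt := A.t₀_sq
    have hzt : A.z * A.t₀ = A.t₀ * A.z := A.t_z.eq.symm
    have h1 : A.z * (A.t₀ * A.z) = A.t₀ := by rw [← mul_assoc, hzt, mul_assoc, hzz, mul_one]
    have h2 : A.t₀ * A.z * A.t₀ = A.z := by rw [mul_assoc, hzt, ← mul_assoc, htt, one_mul]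
    have h3 : A.t₀ * (A.t₀ * A.z) = A.z := by rw [← mul_assoc, htt, one_mul]
    have h4 : A.t₀ * A.z * A.z = A.t₀ := by rw [mul_assoc, hzz, mul_one]
    have h5 : A.t₀ * A.z * (A.t₀ * A.z) = 1 := by rw [← mul_assoc, h2, hzz]
    rintro a b (rfl | rfl | rfl | rfl) (rfl | rfl | rfl | rfl)
    all_goals simp only [Set.mem_setOf_eq, one_mul, mul_one, hzz, htt, hzt, h1, h2, h3, h4, h5]
    all_goals tauto
  inv_mem' := by
    have hi : (A.t₀ * A.z)⁻¹ = A.t₀ * A.z := inv_eq_of_mul_eq_one_right (mul_self_of_order_two A.ord_tz)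
    rintro a (rfl | rfl | rfl | rfl)
    all_goals simp only [Set.mem_setOf_eq, inv_one, A.z_inv', A.t₀_inv, hi]
    all_goals tauto

theorem mem_four {v : G} : v ∈ A.four ↔ v = 1 ∨ v = A.z ∨ v = A.t₀ ∨ v = A.t₀ * A.z := Iff.rfl

theorem z_mem : A.z ∈ A.four := Or.inr (Or.inl rfl)

theorem t_mem : A.t₀ ∈ A.four := Or.inr (Or.inr (Or.inl rfl))

theorem four_commute {v : G} (hv : v ∈ A.four) : Commute v A.z ∧ Commute v A.t₀ := by
  rcases hv with rfl | rfl | rfl | rfl
  · exact ⟨Commute.one_left _, Commute.one_left _⟩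
  · exact ⟨Commute.refl _, A.t_z.symm⟩
  · exact ⟨A.t_z, Commute.refl _⟩
  · exact ⟨A.t_z.mul_left (Commute.refl _), (Commute.refl _).mul_left A.t_z.symm⟩

theorem four_sq {v : G} (hv : v ∈ A.four) : v * v = 1 := by
  rcases hv with rfl | rfl | rfl | rfl
  · exact one_mul 1
  · exact A.z_sq'
  · exact A.t₀_sq
  · exact mul_self_of_order_two A.ord_tz

theorem card_four : Nat.card A.four = 4 := by
  classical
  have hset : (A.four : Set G) = ↑({1, A.z, A.t₀, A.t₀ * A.z} : Finset G) := by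
    ext v
    simp [mem_four]
  have hz1 : A.z ≠ 1 := orderOf_eq_one_iff.not.1 (by rw [A.hz]; norm_num)
  have ht1 : A.t₀ ≠ 1 := orderOf_eq_one_iff.not.1 (by rw [A.ord_t]; norm_num)
  obtain ⟨e1, e2, e3⟩ := A.tz_ne
  rw [← SetLike.coe_sort_coe, hset, Nat.card_coe_set_eq, Set.ncard_coe_finset,
    Finset.card_insert_of_notMem, Finset.card_insert_of_notMem, Finset.card_pair e2.symm] <;>
    simp only [Finset.mem_insert, Finset.mem_singleton, not_or]
  · exact ⟨A.t_ne_z.symm, e1.symm⟩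
  · exact ⟨hz1.symm, ht1.symm, e3.symm⟩

namespace Tor

variable {A} (R : A.Tor)

theorem odd_pow (i : ℕ) : Odd (orderOf (R.c ^ i)) :=
  (R.ord_c ▸ A.D.odd_m).of_dvd_nat (orderOf_pow_dvd i)

theorem commute_four {v : G} (hv : v ∈ A.four) : Commute R.c v := by
  rcases hv with rfl | rfl | rfl | rfl
  · exact Commute.one_right _
  · exact R.hcz
  · exact R.ct
  · exact R.ct.mul_right R.hcz

/-- the elements centralising the four-group -/
theorem list' {x : G} (hz : Commute x A.z) (ht : Commute x A.t₀) : ∃ i : ℕ, ∃ v ∈ A.four, x = R.c ^ i * v := by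
  obtain ⟨i, h | h | h | h⟩ := R.list x hz ht
  · exact ⟨i, 1, Or.inl rfl, by rw [mul_one, h]⟩
  · exact ⟨i, A.z, A.z_mem, h⟩
  · exact ⟨i, A.t₀, A.t_mem, h⟩
  · exact ⟨i, _, Or.inr (Or.inr (Or.inr rfl)), by rw [h, mul_assoc]⟩

theorem pow_m_eq {i : ℕ} {v : G} (hv : v ∈ A.four) : (R.c ^ i * v) ^ A.D.m = v := by
  obtain ⟨l, hl⟩ := A.D.odd_m
  rw [((R.commute_four hv).pow_left i).mul_pow, ← pow_mul, mul_comm, pow_mul, ← R.ord_c, pow_orderOf_eq_one,
    one_pow, one_mul, R.ord_c, hl, pow_succ, pow_mul, sq, A.four_sq hv, one_pow, one_mul]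

theorem list_odd {x : G} (hz : Commute x A.z) (ht : Commute x A.t₀) (hodd : Odd (orderOf x)) :
    x ∈ zpowers R.c := by
  obtain ⟨i, v, hv, rfl⟩ := R.list' hz ht
  have h1 : orderOf v ∣ orderOf (R.c ^ i * v) := by
    conv_lhs => rw [← R.pow_m_eq hv (i := i)]
    exact orderOf_pow_dvd _
  have h2 : v = 1 := orderOf_eq_one_iff.1 (Nat.eq_one_of_dvd_coprimes (Nat.coprime_two_left.2 hodd)
    (orderOf_dvd_of_pow_eq_one (by rw [sq, A.four_sq hv])) h1)
  rw [h2, mul_one]
  exact pow_mem (mem_zpowers _) i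

/-- conjugations permuting the involutions preserve the torus -/
theorem conj_c {g : G} (hz : g * A.z * g⁻¹ ∈ A.four) (ht : g * A.t₀ * g⁻¹ ∈ A.four) :
    g * R.c * g⁻¹ ∈ zpowers R.c := by
  have hle : A.four.map (MulAut.conj g).toMonoidHom ≤ A.four := by
    rintro _ ⟨v, hv, rfl⟩
    show g * v * g⁻¹ ∈ A.four
    rcases hv with rfl | rfl | rfl | rfl
    · simp
    · exact hz
    · exact ht
    · rw [show g * (A.t₀ * A.z) * g⁻¹ = g * A.t₀ * g⁻¹ * (g * A.z * g⁻¹) by group]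
      exact mul_mem ht hz
  have heq := Subgroup.eq_of_le_of_card_ge hle (Subgroup.card_map_of_injective (MulAut.conj g).injective).ge
  have hcom : ∀ v ∈ A.four, Commute (g * R.c * g⁻¹) v := fun v hv => by
    rw [← heq] at hv
    obtain ⟨v', hv', rfl⟩ := hv
    exact (R.commute_four hv').map (MulAut.conj g).toMonoidHom
  refine R.list_odd (hcom _ A.z_mem) (hcom _ A.t_mem) ?_
  rw [← MulAut.conj_apply, MulEquiv.orderOf_eq, R.ord_c]
  exact A.D.odd_m

/-- the prime -/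
noncomputable def r (_ : A.Tor) : ℕ := A.D.m.minFac

/-- the element of prime order -/
noncomputable def cr : G := R.c ^ (A.D.m / R.r)

/-- its centraliser -/
noncomputable def X : Subgroup G := centralizer {R.cr}

theorem mem_X {x : G} : x ∈ R.X ↔ Commute x R.cr := mem_centralizer_singleton_iff

theorem c_mem : R.c ∈ R.X := R.mem_X.2 ((Commute.refl R.c).pow_right _)

theorem four_le : A.four ≤ R.X := fun _ hv => R.mem_X.2 ((R.commute_four hv).pow_left _).symm

theorem core_le : A.core ≤ R.X := fun k hk => R.mem_X.2 ((R.core_comm k hk).pow_left _).symm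

theorem cr_mem : R.cr ∈ zpowers R.c := pow_mem (mem_zpowers _) _

/-- elements preserving the subgroup of prime order preserve its centraliser -/
theorem conj_mem_X {g x : G} (hg : g * R.cr * g⁻¹ ∈ zpowers R.cr) (hx : x ∈ R.X) : g * x * g⁻¹ ∈ R.X := by
  have h1 : zpowers (g * R.cr * g⁻¹) = zpowers R.cr := Subgroup.eq_of_le_of_card_ge (zpowers_le.2 hg)
    (by rw [Nat.card_zpowers, Nat.card_zpowers, ← MulAut.conj_apply, MulEquiv.orderOf_eq])
  have h2 : Commute (g * x * g⁻¹) (g * R.cr * g⁻¹) := (R.mem_X.1 hx).map (MulAut.conj g).toMonoidHom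
  obtain ⟨i, hi⟩ := mem_zpowers_iff.1 (h1.symm ▸ mem_zpowers R.cr : R.cr ∈ zpowers (g * R.cr * g⁻¹))
  refine R.mem_X.2 ?_
  rw [← hi]
  exact h2.zpow_right i

theorem conj_cr {g : G} (hg : g * R.c * g⁻¹ ∈ zpowers R.c) : g * R.cr * g⁻¹ ∈ zpowers R.cr := by
  obtain ⟨i, hi⟩ := mem_zpowers_iff.1 hg
  rw [cr, ← conj_pow, ← hi]
  exact ⟨i, by simp only; rw [← zpow_natCast, ← zpow_natCast, ← zpow_mul, ← zpow_mul, mul_comm]⟩

section Big

variable (hq : 5 ≤ Fintype.card F)

include hq in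
theorem three_le_m (_ : A.Tor) : 3 ≤ A.D.m := by
  obtain ⟨j, hj⟩ := A.D.odd
  obtain ⟨l, hl⟩ := A.D.odd_m
  have h1 := A.D.outer_eq
  rw [← Nat.card_eq_fintype_card] at hq
  unfold outerCard at h1
  split_ifs at h1 <;> omega

include hq in
theorem r_prime : R.r.Prime := Nat.minFac_prime (by have := R.three_le_m hq; omega)

theorem r_dvd : R.r ∣ A.D.m := Nat.minFac_dvd _

theorem r_ne_two : R.r ≠ 2 := fun h => Nat.not_even_iff_odd.2 A.D.odd_m
  (even_iff_two_dvd.2 (h.symm.dvd.trans R.r_dvd))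

theorem odd_r : Odd R.r := A.D.odd_m.of_dvd_nat R.r_dvd

include hq in
theorem ord_cr : orderOf R.cr = R.r := by
  have h0 : A.D.m / R.r ≠ 0 :=
    (Nat.div_pos (Nat.le_of_dvd A.D.m_pos R.r_dvd) (R.r_prime hq).pos).ne'
  rw [cr, orderOf_pow' _ h0, R.ord_c, Nat.gcd_eq_right (Nat.div_dvd_of_dvd R.r_dvd),
    Nat.div_div_self R.r_dvd A.D.m_pos.ne']

include hq in
theorem cr_ne : R.cr ≠ 1 := fun h => (R.r_prime hq).ne_one (by rw [← R.ord_cr hq, h, orderOf_one])

include hq in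
theorem cr_ne_inv : R.cr⁻¹ ≠ R.cr := fun h => R.r_ne_two ((Nat.prime_dvd_prime_iff_eq (R.r_prime hq) Nat.prime_two).1
  (by rw [← R.ord_cr hq]; exact orderOf_dvd_of_pow_eq_one (by rw [sq]; exact mul_eq_one_iff_eq_inv.2 h.symm)))

theorem w_cr : R.w * R.cr * R.w⁻¹ = R.cr⁻¹ := by rw [cr, ← conj_pow, R.wc, inv_pow]

include hq in
theorem w_not_mem : R.w ∉ R.X := fun h => R.cr_ne_inv hq (by
  rw [← R.w_cr, (R.mem_X.1 h).eq, mul_inv_cancel_right])

include hq in
/-- the prime does not divide the order of the core -/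
theorem not_dvd_o : ¬ R.r ∣ A.o := by
  intro h
  haveI := Fact.mk (R.r_prime hq)
  obtain ⟨y, hy⟩ := exists_prime_orderOf_dvd_card' R.r (G := A.core) (by rwa [A.card_core])
  rw [← Subgroup.orderOf_coe] at hy
  have h1 : R.cr ∈ zpowers (y : G) := A.hG.mem_zpowers_of_commute (R.r_prime hq) R.r_ne_two hy
    (by rw [← R.ord_cr hq, pow_orderOf_eq_one]) (((R.core_comm y y.2).pow_left _).symm)
  exact R.cr_ne hq (R.inter _ (zpowers_le.2 y.2 h1))

include hq in
theorem not_dvd_k : ¬ R.r ∣ 2 * A.D.k * A.o := by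
  intro h
  rcases ((R.r_prime hq).dvd_mul).1 h with h1 | h1
  swap
  · exact R.not_dvd_o hq h1
  rcases ((R.r_prime hq).dvd_mul).1 h1 with h2 | h2
  · exact R.r_ne_two ((Nat.prime_dvd_prime_iff_eq (R.r_prime hq) Nat.prime_two).1 h2)
  -- `q + ε` and `q - ε` share no odd prime
  have h3 : R.r ∣ outerCard (Nat.card F) := by rw [A.D.outer_eq]; exact dvd_mul_of_dvd_right R.r_dvd 2
  have h4 : R.r ∣ 2 := by
    change R.r ∣ invCard (Nat.card F) at h2
    obtain ⟨j, hj⟩ := A.D.odd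
    unfold outerCard at h3
    unfold invCard at h2
    split_ifs at h2 h3
    · have := Nat.dvd_sub h3 h2
      rwa [show Nat.card F + 1 - (Nat.card F - 1) = 2 by omega] at this
    · have := Nat.dvd_sub h2 h3
      rwa [show Nat.card F + 1 - (Nat.card F - 1) = 2 by omega] at this
  exact R.r_ne_two ((Nat.prime_dvd_prime_iff_eq (R.r_prime hq) Nat.prime_two).1 h4)

include hq in
/-- the centraliser of the involution in `X` -/
theorem cent_z {x : G} (hx : x ∈ R.X) (hz : Commute x A.z) :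
    ∃ k ∈ A.core, ∃ i : ℕ, ∃ v ∈ A.four, x = k * (R.c ^ i * v) := by
  obtain ⟨k, hk, hkx⟩ := R.cent x hz (A.D.m / R.r) (R.cr_ne hq) (R.mem_X.1 hx)
  obtain ⟨i, v, hv, he⟩ := R.list' ((A.core_commute_z hk).mul_left hz) hkx
  exact ⟨k⁻¹, inv_mem hk, i, v, hv, by rw [← he, inv_mul_cancel_left]⟩

include hq in
theorem cent_z_commute {x : G} (hx : x ∈ R.X) (hz : Commute x A.z) : Commute x R.c := by
  obtain ⟨k, hk, i, v, hv, rfl⟩ := R.cent_z hq hx hz
  exact (R.core_comm k hk).symm.mul_left (((Commute.refl _).pow_left i).mul_left (R.commute_four hv).symm)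

include hq in
/-- two-subgroups of `X` centralising `z` -/
theorem two_le_four {S : Subgroup G} (hS : IsPGroup 2 S) (hle : S ≤ R.X) (h4 : A.four ≤ S)
    (hz : ∀ x ∈ S, Commute x A.z) : S ≤ A.four := by
  intro x hx
  obtain ⟨k, hk, i, v, hv, rfl⟩ := R.cent_z hq (hle hx) (hz x hx)
  have h1 : k * R.c ^ i ∈ S := by
    have := mul_mem hx (inv_mem (h4 hv))
    rwa [← mul_assoc, mul_inv_cancel_right] at this
  have h2 : Odd (orderOf (k * R.c ^ i)) :=
    ((A.odd_core hk).mul (R.odd_pow i)).of_dvd_nat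
      ((R.core_comm k hk).symm.pow_right i).orderOf_mul_dvd_mul_orderOf
  obtain ⟨j, hj⟩ := hS ⟨_, h1⟩
  have h3 : k * R.c ^ i = 1 := orderOf_eq_one_iff.1 (Nat.eq_one_of_dvd_coprimes
    (Nat.Coprime.pow_left j (Nat.coprime_two_left.2 h2))
    (orderOf_dvd_of_pow_eq_one (congrArg Subtype.val hj)) dvd_rfl)
  rw [← mul_assoc, h3, one_mul]
  exact hv

include hq in
/-- the four-group is a Sylow 2-subgroup of `X` -/
theorem two_eq_four {S : Subgroup G} (hS : IsPGroup 2 S) (hle : S ≤ R.X) (h4 : A.four ≤ S) : S = A.four := by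
  haveI : Fact (Nat.Prime 2) := ⟨Nat.prime_two⟩
  haveI : Nontrivial S := by
    refine (Subgroup.nontrivial_iff_ne_bot S).2 fun h => ?_
    have := h ▸ h4 A.z_mem
    rw [Subgroup.mem_bot] at this
    exact orderOf_eq_one_iff.not.1 (by rw [A.hz]; norm_num) this
  haveI := hS.center_nontrivial
  obtain ⟨n, hn, hn'⟩ : ∃ n, n ≠ 0 ∧ Nat.card (center S) = 2 ^ n := by
    obtain ⟨n, hn⟩ := (hS.to_subgroup (center S)).exists_card_eq
    refine ⟨n, fun h => ?_, hn⟩
    have := Finite.one_lt_card_iff_nontrivial.2 (inferInstance : Nontrivial (center S))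
    rw [hn, h] at this
    omega
  obtain ⟨u', hu'⟩ := exists_prime_orderOf_dvd_card' (G := center S) 2 (hn' ▸ dvd_pow_self 2 hn)
  set u : G := ((u' : S) : G) with hu
  have huo : orderOf u = 2 := by rw [hu, Subgroup.orderOf_coe, Subgroup.orderOf_coe, hu']
  have hucomm : ∀ x ∈ S, Commute x u := fun x hx =>
    congrArg Subtype.val (Subgroup.mem_center_iff.1 u'.2 ⟨x, hx⟩)
  have hu4 : u ∈ A.four := by
    obtain ⟨i, v, hv, he⟩ := R.list' (hucomm _ (h4 A.z_mem)).symm (hucomm _ (h4 A.t_mem)).symm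
    have h1 : R.c ^ i = 1 := by
      have h2 : (R.c ^ i) ^ 2 = 1 := by
        have h3 : u ^ 2 = 1 := sq_of_order_two huo
        rwa [he, ((R.commute_four hv).pow_left i).mul_pow, sq v, A.four_sq hv, mul_one] at h3
      exact orderOf_eq_one_iff.1 (Nat.eq_one_of_dvd_coprimes (Nat.coprime_two_left.2 (R.odd_pow i))
        (orderOf_dvd_of_pow_eq_one h2) dvd_rfl)
    rw [he, h1, one_mul]
    exact hv
  have key : ∀ g : G, g * A.z * g⁻¹ ∈ A.four → g * A.t₀ * g⁻¹ ∈ A.four → g * u * g⁻¹ = A.z → S = A.four := by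
    intro g hgz hgt hgu
    have hcr := R.conj_cr (R.conj_c hgz hgt)
    set S' := S.map (MulAut.conj g).toMonoidHom with hS'
    have h4' : A.four ≤ S' := by
      have hmap : A.four.map (MulAut.conj g).toMonoidHom = A.four := by
        refine Subgroup.eq_of_le_of_card_ge ?_ (Subgroup.card_map_of_injective (MulAut.conj g).injective).ge
        rintro _ ⟨v, hv, rfl⟩
        show g * v * g⁻¹ ∈ A.four
        rcases hv with rfl | rfl | rfl | rfl
        · simp
        · exact hgz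
        · exact hgt
        · rw [show g * (A.t₀ * A.z) * g⁻¹ = g * A.t₀ * g⁻¹ * (g * A.z * g⁻¹) by group]
          exact mul_mem hgt hgz
      rw [← hmap]
      exact Subgroup.map_mono h4
    have hle' : S' ≤ A.four := by
      refine R.two_le_four hq (hS.map _) ?_ h4' ?_
      · rintro _ ⟨x, hx, rfl⟩
        exact R.conj_mem_X hcr (hle hx)
      · rintro _ ⟨x, hx, rfl⟩
        rw [← hgu]
        exact (hucomm x hx).map (MulAut.conj g).toMonoidHom
    refine (Subgroup.eq_of_le_of_card_ge h4 ?_).symm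
    rw [← Subgroup.card_map_of_injective (f := (MulAut.conj g).toMonoidHom) (MulAut.conj g).injective]
    exact Nat.le_of_dvd Nat.card_pos (Subgroup.card_dvd_of_le hle')
  obtain ⟨ρ, hρt, hρz⟩ := A.exists_swap A.ord_t A.t_z A.t_ne_z
  rcases hu4 with h | h | h | h
  · rw [h, orderOf_one] at huo
    omega
  · exact key 1 (by simpa using A.z_mem) (by simpa using A.t_mem) (by simpa using h)
  · exact key ρ (hρz ▸ A.t_mem) (hρt ▸ A.z_mem) (by rw [h, hρt])
  · -- twist by `w`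
    have hwi : R.w⁻¹ * (A.t₀ * A.z) * R.w = A.t₀ := by rw [← R.wt]; group
    have hwz : R.w⁻¹ * A.z * R.w = A.z := by rw [mul_assoc, ← R.hwz.eq, inv_mul_cancel_left]
    have hwt : R.w⁻¹ * A.t₀ * R.w = A.t₀ * A.z := by
      calc R.w⁻¹ * A.t₀ * R.w = R.w⁻¹ * (A.t₀ * A.z) * R.w * (R.w⁻¹ * A.z * R.w) := by
            conv_lhs => rw [show A.t₀ = A.t₀ * A.z * A.z by rw [mul_assoc, A.z_sq', mul_one]]
            group
        _ = A.t₀ * A.z := by rw [hwi, hwz]
    refine key (ρ * R.w⁻¹) ?_ ?_ ?_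
    · rw [show ρ * R.w⁻¹ * A.z * (ρ * R.w⁻¹)⁻¹ = ρ * (R.w⁻¹ * A.z * R.w) * ρ⁻¹ by group, hwz, hρz]
      exact A.t_mem
    · rw [show ρ * R.w⁻¹ * A.t₀ * (ρ * R.w⁻¹)⁻¹ = ρ * (R.w⁻¹ * A.t₀ * R.w) * ρ⁻¹ by group, hwt,
        show ρ * (A.t₀ * A.z) * ρ⁻¹ = ρ * A.t₀ * ρ⁻¹ * (ρ * A.z * ρ⁻¹) by group, hρt, hρz]
      exact mul_mem A.z_mem A.t_mem
    · rw [h, show ρ * R.w⁻¹ * (A.t₀ * A.z) * (ρ * R.w⁻¹)⁻¹ = ρ * (R.w⁻¹ * (A.t₀ * A.z) * R.w) * ρ⁻¹ by group,
        hwi, hρt]

include hq in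
/-- a three-cycle on the four-group centralising the torus -/
theorem exists_cycle : ∃ g ∈ R.X, Commute g R.c ∧ g * A.z * g⁻¹ = A.t₀ * A.z ∧ g * A.t₀ * g⁻¹ = A.z ∧
    g * (A.t₀ * A.z) * g⁻¹ = A.t₀ := by
  obtain ⟨ρ, hρt, hρz⟩ := A.exists_swap A.ord_t A.t_z A.t_ne_z
  have hρt' : ρ⁻¹ * A.z * ρ = A.t₀ := by rw [← hρt]; group
  have hρz' : ρ⁻¹ * A.t₀ * ρ = A.z := by rw [← hρz]; group
  have hwz : R.w⁻¹ * A.z * R.w = A.z := by rw [mul_assoc, ← R.hwz.eq, inv_mul_cancel_left]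
  have hwz' : R.w * A.z * R.w⁻¹ = A.z := by rw [R.hwz.eq, mul_inv_cancel_right]
  have hwi : R.w⁻¹ * (A.t₀ * A.z) * R.w = A.t₀ := by rw [← R.wt]; group
  have hzt : A.z * A.t₀ = A.t₀ * A.z := A.t_z.eq.symm
  set g := ρ * R.w * ρ⁻¹ * R.w⁻¹ with hg
  have hconj : ∀ x, g * x * g⁻¹ = ρ * (R.w * (ρ⁻¹ * (R.w⁻¹ * x * R.w) * ρ) * R.w⁻¹) * ρ⁻¹ := fun x => by
    rw [hg]; group
  have h1 : g * A.z * g⁻¹ = A.t₀ * A.z := by
    rw [hconj, hwz, hρt', R.wt, show ρ * (A.t₀ * A.z) * ρ⁻¹ = ρ * A.t₀ * ρ⁻¹ * (ρ * A.z * ρ⁻¹) by group,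
      hρt, hρz, hzt]
  have h3 : g * (A.t₀ * A.z) * g⁻¹ = A.t₀ := by rw [hconj, hwi, hρz', hwz', hρz]
  have h2 : g * A.t₀ * g⁻¹ = A.z := by
    calc g * A.t₀ * g⁻¹ = g * (A.t₀ * A.z) * g⁻¹ * (g * A.z * g⁻¹)⁻¹ := by group
      _ = A.z := by
        rw [h1, h3, mul_inv_rev, A.z_inv', A.t₀_inv, ← mul_assoc, ← hzt, mul_assoc, A.t₀_sq, mul_one]
  have hc : g * R.c * g⁻¹ = R.c := by
    obtain ⟨j, hj⟩ := mem_zpowers_iff.1 (R.conj_c (g := ρ⁻¹) (by rw [inv_inv, hρt']; exact A.t_mem)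
      (by rw [inv_inv, hρz']; exact A.z_mem))
    rw [inv_inv] at hj
    have hw1 : R.w⁻¹ * R.c * R.w = R.c⁻¹ := by
      have := congrArg (fun v => R.w⁻¹ * v⁻¹ * R.w) R.wc
      simp only [inv_inv] at this
      rw [← this]
      group
    rw [hconj, hw1, show ρ⁻¹ * R.c⁻¹ * ρ = (ρ⁻¹ * R.c * ρ)⁻¹ by group, ← hj,
      show R.w * (R.c ^ j)⁻¹ * R.w⁻¹ = ((R.w * R.c * R.w⁻¹) ^ j)⁻¹ by rw [conj_zpow]; group,
      R.wc, inv_zpow, inv_inv, hj]
    group
  have hgc : Commute g R.c := mul_inv_eq_iff_eq_mul.1 hc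
  exact ⟨g, R.mem_X.2 (hgc.pow_right _), hgc, h1, h2, h3⟩

include hq in
/-- elements normalising the four-group and the subgroup of prime order act on the torus by `±1` -/
theorem conj_c_cases {n : G} (h4 : ∀ v ∈ A.four, n * v * n⁻¹ ∈ A.four) :
    n * R.c * n⁻¹ = R.c ∨ n * R.c * n⁻¹ = R.c⁻¹ := by
  obtain ⟨g, -, hgc, h1, h2, h3⟩ := R.exists_cycle hq
  have hpow : ∀ i : ℕ, g ^ i * R.c * (g ^ i)⁻¹ = R.c := fun i => by
    rw [(hgc.pow_left i).eq, mul_inv_cancel_right]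
  have hg4 : ∀ i : ℕ, ∀ v ∈ A.four, g ^ i * v * (g ^ i)⁻¹ ∈ A.four := by
    intro i
    induction i with
    | zero => intro v hv; simpa using hv
    | succ i ih =>
      intro v hv
      rw [pow_succ, show g ^ i * g * v * (g ^ i * g)⁻¹ = g ^ i * (g * v * g⁻¹) * (g ^ i)⁻¹ by group]
      refine ih _ ?_
      rcases hv with rfl | rfl | rfl | rfl
      · simp
      · rw [h1]; exact Or.inr (Or.inr (Or.inr rfl))
      · rw [h2]; exact A.z_mem
      · rw [h3]; exact A.t_mem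
  obtain ⟨i, hi⟩ : ∃ i : ℕ, g ^ i * (n * A.z * n⁻¹) * (g ^ i)⁻¹ = A.z := by
    rcases h4 _ A.z_mem with h | h | h | h
    · exact absurd (conj_eq_one_iff.1 h) (orderOf_eq_one_iff.not.1 (by rw [A.hz]; norm_num))
    · exact ⟨0, by rw [h]; simp⟩
    · exact ⟨1, by rw [h, pow_one, h2]⟩
    · refine ⟨2, ?_⟩
      rw [h, pow_two, show g * g * (A.t₀ * A.z) * (g * g)⁻¹ = g * (g * (A.t₀ * A.z) * g⁻¹) * g⁻¹ by group, h3, h2]
  set y := g ^ i * n with hy
  have hyz : Commute y A.z := by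
    refine mul_inv_eq_iff_eq_mul.1 ?_
    conv_rhs => rw [← hi]
    rw [hy]
    group
  have hyn : n * R.c * n⁻¹ = y * R.c * y⁻¹ := by
    have h5 : (g ^ i)⁻¹ * R.c * g ^ i = R.c := by
      rw [mul_assoc, ← (hgc.pow_left i).eq, inv_mul_cancel_left]
    have hyc : y * R.c * y⁻¹ ∈ zpowers R.c := R.conj_c (by rw [hyz.eq, mul_inv_cancel_right]; exact A.z_mem)
      (by
        rw [hy, show g ^ i * n * A.t₀ * (g ^ i * n)⁻¹ = g ^ i * (n * A.t₀ * n⁻¹) * (g ^ i)⁻¹ by group]
        exact hg4 i _ (h4 _ A.t_mem))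
    obtain ⟨j, hj⟩ := mem_zpowers_iff.1 hyc
    calc n * R.c * n⁻¹ = (g ^ i)⁻¹ * (y * R.c * y⁻¹) * g ^ i := by rw [hy]; group
      _ = ((g ^ i)⁻¹ * R.c * g ^ i) ^ j := by
        rw [← hj]
        conv_rhs => rw [show (g ^ i)⁻¹ * R.c * g ^ i = (g ^ i)⁻¹ * R.c * ((g ^ i)⁻¹)⁻¹ by rw [inv_inv],
          conj_zpow, inv_inv]
      _ = y * R.c * y⁻¹ := by rw [h5, hj]
  rw [hyn]
  have hyt : y * A.t₀ * y⁻¹ ∈ A.four := by
    rw [hy, show g ^ i * n * A.t₀ * (g ^ i * n)⁻¹ = g ^ i * (n * A.t₀ * n⁻¹) * (g ^ i)⁻¹ by group]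
    exact hg4 i _ (h4 _ A.t_mem)
  rcases hyt with h | h | h | h
  · exact absurd (conj_eq_one_iff.1 h) (orderOf_eq_one_iff.not.1 (by rw [A.ord_t]; norm_num))
  · refine absurd ?_ A.t_ne_z
    calc A.t₀ = y⁻¹ * (y * A.t₀ * y⁻¹) * y := by group
      _ = A.z := by rw [h, mul_assoc, ← hyz.eq, inv_mul_cancel_left]
  · left
    obtain ⟨l, v, hv, hl⟩ := R.list' hyz (mul_inv_eq_iff_eq_mul.1 h)
    rw [hl]
    exact mul_inv_eq_iff_eq_mul.2 ((((Commute.refl _).pow_left l).mul_left (R.commute_four hv).symm).eq)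
  · right
    have h' : Commute (R.w⁻¹ * y) A.t₀ := by
      refine mul_inv_eq_iff_eq_mul.1 ?_
      rw [show R.w⁻¹ * y * A.t₀ * (R.w⁻¹ * y)⁻¹ = R.w⁻¹ * (y * A.t₀ * y⁻¹) * R.w by group, h, ← R.wt]
      group
    obtain ⟨l, v, hv, hl⟩ := R.list' (R.hwz.inv_left.mul_left hyz) h'
    have hcc : Commute (R.w⁻¹ * y) R.c := by
      rw [hl]
      exact ((Commute.refl _).pow_left l).mul_left (R.commute_four hv).symm
    calc y * R.c * y⁻¹ = R.w * ((R.w⁻¹ * y) * R.c * (R.w⁻¹ * y)⁻¹) * R.w⁻¹ := by group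
      _ = R.c⁻¹ := by rw [hcc.eq, mul_inv_cancel_right, R.wc]

/-- the normaliser of the subgroup of prime order -/
noncomputable def N : Subgroup G := normalizer (zpowers R.cr : Set G)

theorem mem_N {n : G} (hn : n * R.cr * n⁻¹ ∈ zpowers R.cr) : n ∈ R.N := by
  refine mem_normalizer_iff_map_conj_eq.2 ?_
  rw [MonoidHom.map_zpowers]
  exact Subgroup.eq_of_le_of_card_ge (zpowers_le.2 hn)
    (by rw [Nat.card_zpowers, Nat.card_zpowers, MonoidHom.coe_coe, MulEquiv.orderOf_eq])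

theorem conj_of_mem_N {n : G} (hn : n ∈ R.N) : n * R.cr * n⁻¹ ∈ zpowers R.cr :=
  (Subgroup.mem_normalizer_iff.1 hn _).1 (mem_zpowers _)

theorem X_le_N : R.X ≤ R.N := fun x hx => R.mem_N (by
  rw [(R.mem_X.1 hx).eq, mul_inv_cancel_right]
  exact mem_zpowers _)

theorem w_mem_N : R.w ∈ R.N := R.mem_N (R.w_cr ▸ inv_mem (mem_zpowers _))

include hq in
theorem exists_sylow : ∃ S : Sylow 2 R.X, (S : Subgroup R.X) = A.four.subgroupOf R.X := by
  haveI : Fact (Nat.Prime 2) := ⟨Nat.prime_two⟩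
  have hp : IsPGroup 2 (A.four.subgroupOf R.X) := IsPGroup.of_card (n := 2) (by
    rw [Nat.card_congr (Subgroup.subgroupOfEquivOfLe R.four_le).toEquiv, A.card_four]; norm_num)
  obtain ⟨S, hS⟩ := hp.exists_le_sylow
  refine ⟨S, ?_⟩
  have h1 : (S : Subgroup R.X).map R.X.subtype = A.four := by
    refine R.two_eq_four hq (S.2.map _) (Subgroup.map_subtype_le _) ?_
    intro v hv
    exact ⟨⟨v, R.four_le hv⟩, hS hv, rfl⟩
  rw [← h1, Subgroup.subgroupOf, Subgroup.comap_map_eq_self_of_injective R.X.subtype_injective]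

include hq in
/-- the elements of the normaliser outside `X` -/
theorem two {n : G} (hn : n ∈ R.N) (hnX : n ∉ R.X) : n * R.w⁻¹ ∈ R.X := by
  haveI : Fact (Nat.Prime 2) := ⟨Nat.prime_two⟩
  obtain ⟨S, hS⟩ := R.exists_sylow hq
  let φ : R.X →* R.X :=
    { toFun := fun x => ⟨n * x * n⁻¹, R.conj_mem_X (R.conj_of_mem_N hn) x.2⟩
      map_one' := Subtype.ext (by simp)
      map_mul' := fun a b => Subtype.ext (by simp [mul_assoc]) }
  have hφ : Function.Injective φ := fun a b h => Subtype.ext (by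
    have := congrArg Subtype.val h
    simpa [φ] using this)
  obtain ⟨S', hS'⟩ := (S.2.map φ).exists_le_sylow
  have hS'e : (S : Subgroup R.X).map φ = (S' : Subgroup R.X) := Subgroup.eq_of_le_of_card_ge hS' (by
    rw [Subgroup.card_map_of_injective hφ, Nat.card_congr (Sylow.equiv S' S).toEquiv])
  obtain ⟨x, hx⟩ := MulAction.exists_smul_eq R.X S' S
  have h4 : ∀ v ∈ A.four, ((x : G) * n) * v * ((x : G) * n)⁻¹ ∈ A.four := by
    intro v hv
    have hm : φ ⟨v, R.four_le hv⟩ ∈ (S' : Subgroup R.X) := hS'e ▸ Subgroup.mem_map_of_mem φ (hS ▸ hv :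
      (⟨v, R.four_le hv⟩ : R.X) ∈ (S : Subgroup R.X))
    have h5 : MulAut.conj x (φ ⟨v, R.four_le hv⟩) ∈ (S : Subgroup R.X) := by
      rw [← hx, Sylow.coe_subgroup_smul, Subgroup.pointwise_smul_def]
      exact ⟨_, hm, rfl⟩
    rw [hS, Subgroup.mem_subgroupOf] at h5
    show (x : G) * n * v * ((x : G) * n)⁻¹ ∈ A.four
    convert h5 using 1
    simp [φ, mul_assoc]
  rcases R.conj_c_cases hq h4 with h | h
  · refine absurd ?_ hnX
    have hm : (x : G) * n ∈ R.X := R.mem_X.2 (mul_inv_eq_iff_eq_mul.1 (by rw [cr, ← conj_pow, h]))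
    exact (Subgroup.mul_mem_cancel_left _ x.2).1 hm
  · have hm : (x : G) * (n * R.w⁻¹) ∈ R.X := by
      refine R.mem_X.2 (mul_inv_eq_iff_eq_mul.1 ?_)
      rw [cr, ← conj_pow, show (x : G) * (n * R.w⁻¹) * R.c * ((x : G) * (n * R.w⁻¹))⁻¹ =
        (x : G) * n * (R.w⁻¹ * R.c * R.w) * ((x : G) * n)⁻¹ by group]
      have hw1 : R.w⁻¹ * R.c * R.w = R.c⁻¹ := by
        have := congrArg (fun v => R.w⁻¹ * v⁻¹ * R.w) R.wc
        simp only [inv_inv] at this
        rw [← this]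
        group
      rw [hw1, show (x : G) * n * R.c⁻¹ * ((x : G) * n)⁻¹ = ((x : G) * n * R.c * ((x : G) * n)⁻¹)⁻¹ by group, h,
        inv_inv]
    exact (Subgroup.mul_mem_cancel_left _ x.2).1 hm

include hq in
/-- the group has no subgroup of index two -/
theorem no_index_two (M : Subgroup R.X) : M.index ≠ 2 := by
  intro hM
  haveI : Fact (Nat.Prime 2) := ⟨Nat.prime_two⟩
  haveI := Subgroup.normal_of_index_eq_two hM
  obtain ⟨g, hg, -, h1, h2, -⟩ := R.exists_cycle hq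
  obtain ⟨S, hS⟩ := R.exists_sylow hq
  set z' : R.X := ⟨A.z, R.four_le A.z_mem⟩ with hz'
  set t' : R.X := ⟨A.t₀, R.four_le A.t_mem⟩ with ht'
  set g' : R.X := ⟨g, hg⟩ with hg'
  have e1 : g' * t' * g'⁻¹ = z' := Subtype.ext h2
  have e2 : g' * z' * g'⁻¹ = t' * z' := Subtype.ext h1
  have hzt : z' ∈ M ↔ t' ∈ M := ⟨fun h => by
      have := (inferInstance : M.Normal).conj_mem' _ h g'
      rwa [← e1, show g'⁻¹ * (g' * t' * g'⁻¹) * g' = t' by group] at this,
    fun h => e1 ▸ (inferInstance : M.Normal).conj_mem _ h g'⟩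
  have hzM : z' ∈ M := by
    by_contra hn
    have htz : t' * z' ∈ M := (Subgroup.mul_mem_iff_of_index_two hM).2 (iff_of_false (mt hzt.2 hn) hn)
    have := (inferInstance : M.Normal).conj_mem' _ htz g'
    rw [← e2, show g'⁻¹ * (g' * z' * g'⁻¹) * g' = z' by group] at this
    exact hn this
  have htM := hzt.1 hzM
  have hle : (S : Subgroup R.X) ≤ M := by
    intro v hv
    rw [hS, Subgroup.mem_subgroupOf] at hv
    rcases hv with h | h | h | h
    · rw [show v = 1 from Subtype.ext h]; exact one_mem M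
    · rw [show v = z' from Subtype.ext h]; exact hzM
    · rw [show v = t' from Subtype.ext h]; exact htM
    · rw [show v = t' * z' from Subtype.ext h]; exact mul_mem htM hzM
  refine S.not_dvd_index ?_
  rw [← Subgroup.relIndex_mul_index hle, hM]
  exact dvd_mul_left 2 _

include hq in
theorem not_eight : ¬ 8 ∣ Nat.card R.X := by
  intro h
  haveI : Fact (Nat.Prime 2) := ⟨Nat.prime_two⟩
  obtain ⟨S, hS⟩ := R.exists_sylow hq
  refine S.not_dvd_index ?_
  rw [← (S : Subgroup R.X).card_mul_index, hS, Nat.card_congr (Subgroup.subgroupOfEquivOfLe R.four_le).toEquiv,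
    A.card_four, show 8 = 4 * 2 from rfl, ← hS] at h
  exact Nat.dvd_of_mul_dvd_mul_left four_pos h

include hq in
theorem dihTwo : DihTwo R.X := by
  obtain ⟨S, hS⟩ := R.exists_sylow hq
  have h4 : Nat.card (S : Subgroup R.X) = 4 := by
    rw [hS, Nat.card_congr (Subgroup.subgroupOfEquivOfLe R.four_le).toEquiv, A.card_four]
  haveI : Nontrivial (S : Subgroup R.X) := Finite.one_lt_card_iff_nontrivial.1 (by omega)
  haveI : IsKleinFour (S : Subgroup R.X) := ⟨h4, (Monoid.exponent_eq_prime_iff Nat.prime_two).2 fun x hx => by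
    refine orderOf_eq_prime ?_ hx
    have hv : ((x : R.X) : G) ∈ A.four := by
      exact Subgroup.mem_subgroupOf.1 ((SetLike.ext_iff.1 hS _).1 x.2)
    exact Subtype.ext (Subtype.ext (by push_cast; rw [sq]; exact A.four_sq hv))⟩
  exact dihTwo_of_sylow S le_rfl (IsKleinFour.nonempty_mulEquiv (G₂ := DihedralGroup 2)).some

/-- the image of the structure theorem -/
structure Quot (p : ℕ) [Fact p.Prime] where
  ψ : (R.X ⧸ Cfsg.oddCore R.X) ≃* Matrix.ProjectiveSpecialLinearGroup (Fin 2) (ZMod p)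
  odd : p ≠ 2
  shape : p = 3 ∨ (5 ≤ p ∧ commutator (R.X ⧸ Cfsg.oddCore R.X) = ⊤)

include hq in
theorem exists_quot : ∃ (p : ℕ) (_ : Fact p.Prime), Nonempty (R.Quot p) := by
  classical
  haveI : Fact (Nat.Prime 2) := ⟨Nat.prime_two⟩
  set K := Cfsg.oddCore R.X
  haveI : K.Normal := inferInstance
  obtain ⟨S, hS⟩ := R.exists_sylow hq
  have h4 : 4 ∣ Nat.card R.X := by
    rw [← A.card_four, ← Nat.card_congr (Subgroup.subgroupOfEquivOfLe R.four_le).toEquiv]
    exact Subgroup.card_subgroup_dvd_card _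
  have hQd : Nat.card (R.X ⧸ K) ∣ Nat.card R.X := Subgroup.card_quotient_dvd_card K
  have hpull : ∀ M : Subgroup (R.X ⧸ K), M.index ≠ 2 := fun M hM => R.no_index_two hq (M.comap (QuotientGroup.mk' K))
    (by rw [Subgroup.index_comap_of_surjective _ (QuotientGroup.mk'_surjective K), hM])
  rcases structure_quotient (R.dihTwo hq) (gwBelow _) with hp | ⟨V, hVn, hV, hVC, hcard⟩ | ⟨M, hMn, hMs, hMc, -, hC, hM⟩
  · exfalso
    obtain ⟨k, hk⟩ := hp.exists_card_eq
    rcases Nat.eq_zero_or_pos k with rfl | hk0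
    · have h2 : 2 ∣ Nat.card K := by
        rw [show Nat.card K = Nat.card R.X by rw [K.card_eq_card_quotient_mul_card_subgroup, hk, pow_zero, one_mul]]
        exact dvd_trans (by norm_num) h4
      exact Nat.not_even_iff_odd.2 (GW.odd_oddCore R.X) (even_iff_two_dvd.2 h2)
    · obtain ⟨k', rfl⟩ := Nat.exists_eq_succ_of_ne_zero hk0.ne'
      obtain ⟨M, hM⟩ := CfsgLib.Invol.exists_index_two_of_two_pow_index K (k := k')
        (by rw [Subgroup.index_eq_card, hk])
      exact R.no_index_two hq M hM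
  · have h12 : Nat.card (R.X ⧸ K) = 12 := hcard.resolve_right fun h => R.not_eight hq
      (dvd_trans ⟨3, h.trans (by norm_num)⟩ hQd)
    obtain ⟨g, hg, -, h1, h2, h3⟩ := R.exists_cycle hq
    set π := QuotientGroup.mk' K
    have hker : ∀ v : R.X, (v : G) ∈ A.four → π v = 1 → v = 1 := by
      intro v hv hv1
      refine orderOf_eq_one_iff.1 (Nat.eq_one_of_dvd_coprimes (Nat.coprime_two_left.2 (GW.odd_oddCore R.X))
        (orderOf_dvd_of_pow_eq_one (Subtype.ext (by push_cast; rw [sq]; exact A.four_sq hv)))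
        (Subgroup.orderOf_dvd_natCard K ((QuotientGroup.eq_one_iff v).1 hv1)))
    have hz : ∀ v : R.X ⧸ K, orderOf v = 2 → v ∉ Subgroup.center _ := by
      intro v hv hvc
      obtain ⟨T, hT⟩ := (IsPGroup.of_card (n := 1) (by rw [Nat.card_zpowers, hv, pow_one]) :
        IsPGroup 2 (zpowers v)).exists_le_sylow
      obtain ⟨y, hy⟩ := MulAction.exists_smul_eq (R.X ⧸ K) T (S.mapSurjective (QuotientGroup.mk'_surjective K))
      have hm : v ∈ (S : Subgroup R.X).map π := by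
        rw [← Sylow.coe_mapSurjective (QuotientGroup.mk'_surjective K) S, ← hy, Sylow.coe_subgroup_smul,
          Subgroup.pointwise_smul_def]
        refine ⟨v, hT (mem_zpowers v), ?_⟩
        show y * v * y⁻¹ = v
        rw [Subgroup.mem_center_iff.1 hvc y, mul_inv_cancel_right]
      obtain ⟨x, hx, rfl⟩ := hm
      rw [hS] at hx
      have hx' : (x : G) ∈ A.four := Subgroup.mem_subgroupOf.1 hx
      have hconj : π (⟨g, hg⟩ * x * ⟨g, hg⟩⁻¹ * x⁻¹) = 1 := by
        rw [map_mul, map_mul, map_mul, map_inv, map_inv,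
          Subgroup.mem_center_iff.1 hvc (π ⟨g, hg⟩), mul_inv_cancel_right, mul_inv_cancel]
      have h5 : g * (x : G) * g⁻¹ ∈ A.four := by
        rcases hx' with h | h | h | h <;> rw [h]
        · simp
        · rw [h1]; exact Or.inr (Or.inr (Or.inr rfl))
        · rw [h2]; exact A.z_mem
        · rw [h3]; exact A.t_mem
      have h6 := congrArg Subtype.val (hker _ (mul_mem h5 (inv_mem hx')) hconj)
      have h7 : g * (x : G) * g⁻¹ = x := by simpa [mul_inv_eq_one] using h6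
      rcases hx' with h | h | h | h
      · rw [show x = 1 from Subtype.ext h, map_one, orderOf_one] at hv
        omega
      · rw [h, h1] at h7
        exact A.tz_ne.1 h7
      · rw [h, h2] at h7
        exact A.t_ne_z h7.symm
      · rw [h, h3] at h7
        exact A.tz_ne.2.1 h7.symm
    obtain ⟨e1⟩ := CfsgLib.Invol.mulEquiv_alternating_four h12 hz
    obtain ⟨e2⟩ := Cfsg.Agent.S0251.result (F := ZMod 3) (ZMod.card 3)
    exact ⟨3, ⟨Nat.prime_three⟩, ⟨⟨e1.trans e2.symm, by norm_num, Or.inl rfl⟩⟩⟩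
  · haveI := hMn
    rcases hM with ⟨F', iF, jF, ho, h3, ⟨e⟩⟩ | ⟨⟨e⟩⟩
    swap
    · exfalso
      refine R.not_eight hq ((dvd_trans ?_ (Subgroup.card_subgroup_dvd_card M)).trans hQd)
      rw [Nat.card_congr e.toEquiv, Nat.card_eq_fintype_card]
      have h := two_mul_card_alternatingGroup (α := Fin 7)
      rw [Fintype.card_perm, Fintype.card_fin, show Nat.factorial 7 = 5040 from rfl] at h
      exact ⟨315, by omega⟩
    have hO : OddCyclic (R.X ⧸ K) := (A.hG.subgroup R.X).quotient K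
    have hp := card_prime_psl ho (hO.subgroup M) e
    have hd1 : (diagPart M e).index = 1 := by
      haveI := ringAut_subsingleton hp
      exact Nat.dvd_one.1 (by
        have := index_diagPart_dvd M e
        rwa [Nat.card_unique] at this)
    have h2F : (2 : F') ≠ 0 := CfsgLib.Perm.Dickson.two_ne_zero_of_odd (F := F') (by rwa [Nat.card_eq_fintype_card])
    have hM1 : M.index = 1 := (index_cases M e hC h2F).elim (fun h => h.trans hd1)
      fun h => absurd (by rw [h, hd1]) (hpull M)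
    have hMtop : M = ⊤ := Subgroup.index_eq_one.1 hM1
    have hperf : commutator M = ⊤ := by
      haveI := hMs
      rcases (commutator M).normal_of_characteristic.eq_bot_or_eq_top with h | h
      · refine absurd ⟨⟨fun a b => ?_⟩⟩ hMc
        have hab : ⁅a, b⁆ ∈ (⊥ : Subgroup M) := h ▸ Subgroup.commutator_mem_commutator (mem_top a) (mem_top b)
        exact commutatorElement_eq_one_iff_mul_comm.1 (Subgroup.mem_bot.1 hab)
      · exact h
    obtain ⟨p, hpf, hpF, ⟨σ⟩⟩ := exists_zmod_equiv (F := F') hp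
    haveI := hpf
    obtain ⟨e'⟩ := CfsgLib.CIT.psl_congr σ
    let eQ : (R.X ⧸ K) ≃* M := Subgroup.topEquiv.symm.trans (MulEquiv.subgroupCongr hMtop.symm)
    refine ⟨p, hpf, ⟨⟨(eQ.trans e).trans e', ?_, Or.inr ⟨?_, ?_⟩⟩⟩⟩
    · rintro rfl
      rw [← hpF] at ho
      exact Nat.not_odd_iff_even.2 even_two ho
    · rw [hpF]
      rw [Nat.odd_iff] at ho
      omega
    · have h := congrArg (Subgroup.map eQ.symm.toMonoidHom) hperf
      rwa [_root_.commutator_def, Subgroup.map_commutator, Subgroup.map_top_of_surjective _ eQ.symm.surjective,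
        ← _root_.commutator_def] at h

variable {p : ℕ} [Fact p.Prime] (Qu : R.Quot p)

/-- the embedding of the quotient into `PGL` -/
noncomputable def Quot.f : (R.X ⧸ Cfsg.oddCore R.X) →* G2 (ZMod p) :=
  (psl (ZMod p)).subtype.comp ((pslEquiv (F := ZMod p)).toMonoidHom.comp Qu.ψ.toMonoidHom)

theorem Quot.f_inj : Function.Injective (Qu.f R) :=
  (psl (ZMod p)).subtype_injective.comp ((pslEquiv (F := ZMod p)).injective.comp Qu.ψ.injective)

theorem Quot.odd_p (Qu : R.Quot p) : Odd (Nat.card (ZMod p)) := by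
  rw [Nat.card_zmod]
  exact (Fact.out : p.Prime).odd_of_ne_two Qu.odd

/-- the torus element inside `X` -/
noncomputable def c' : R.X := ⟨R.c, R.c_mem⟩

include hq Qu in
/-- the odd core of `X` is the torus -/
theorem oddCore_eq : Cfsg.oddCore R.X = zpowers R.c' := by
  set K := Cfsg.oddCore R.X
  haveI : K.Normal := inferInstance
  set π := QuotientGroup.mk' K
  obtain ⟨g, hg, -, h1, h2, -⟩ := R.exists_cycle hq
  set z' : R.X := ⟨A.z, R.four_le A.z_mem⟩
  set t' : R.X := ⟨A.t₀, R.four_le A.t_mem⟩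
  set g' : R.X := ⟨g, hg⟩
  have hz'o : orderOf z' = 2 := by rw [Subgroup.orderOf_mk, A.hz]
  have ht'o : orderOf t' = 2 := by rw [Subgroup.orderOf_mk, A.ord_t]
  have hnot : ∀ v : R.X, orderOf v = 2 → π v ≠ 1 := fun v hv h => by
    have := (GW.odd_oddCore R.X).of_dvd_nat (Subgroup.orderOf_dvd_natCard K ((QuotientGroup.eq_one_iff v).1 h))
    rw [hv] at this
    exact Nat.not_odd_iff_even.2 even_two this
  have himg : ∀ v : R.X, orderOf v = 2 → orderOf (Qu.f R (π v)) = 2 := fun v hv => by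
    rw [orderOf_injective _ (Qu.f_inj R)]
    exact orderOf_eq_prime (by rw [← map_pow, sq_of_order_two hv, map_one]) (hnot v hv)
  have hne : Qu.f R (π z') ≠ Qu.f R (π t') := fun h => by
    have h0 := (Qu.f_inj R) h
    refine hnot (z' * t') (orderOf_mul_two hz'o ht'o (Subtype.ext A.t_z.eq.symm)
      fun e => A.t_ne_z (congrArg Subtype.val e).symm) ?_
    rw [map_mul, h0, ← map_mul, mul_self_of_order_two ht'o, map_one]
  have hcomm : ∀ v w : R.X, Commute (v : G) (w : G) → Commute (Qu.f R (π v)) (Qu.f R (π w)) := fun v w h =>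
    ((show Commute v w from Subtype.ext h.eq).map π).map (Qu.f R)
  refine le_antisymm (fun y hy => ?_) (zpowers_le.2 ?_)
  · -- the four-group lies in the derived group and centralises the core
    have hzc : z' ∈ commutator R.X ∧ t' ∈ commutator R.X := by
      have ht : t' ∈ commutator R.X := by
        rw [show t' = ⁅z', g'⁆ from Subtype.ext (show A.t₀ = A.z * g * A.z⁻¹ * g⁻¹ by
          rw [A.z_inv', show A.z * g * A.z * g⁻¹ = A.z * (g * A.z * g⁻¹) by group, h1, ← mul_assoc,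
            A.t_z.eq.symm, mul_assoc, A.z_sq', mul_one])]
        exact Subgroup.commutator_mem_commutator (mem_top _) (mem_top _)
      refine ⟨?_, ht⟩
      rw [show z' = g' * t' * g'⁻¹ from Subtype.ext h2.symm]
      exact (inferInstance : (commutator R.X).Normal).conj_mem _ ht g'
    have hK : Odd (Nat.card K) := GW.odd_oddCore _
    have hyz := commute_two_element (A.hG.subgroup R.X) K hK hzc.1 (j := 1) (sq_of_order_two hz'o) hy
    have hyt := commute_two_element (A.hG.subgroup R.X) K hK hzc.2 (j := 1) (sq_of_order_two ht'o) hy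
    have hyo : Odd (orderOf (y : G)) := by
      rw [Subgroup.orderOf_coe]
      exact hK.of_dvd_nat (Subgroup.orderOf_dvd_natCard K hy)
    obtain ⟨i, hi⟩ := mem_zpowers_iff.1 (R.list_odd (congrArg Subtype.val hyz.eq).symm
      (congrArg Subtype.val hyt.eq).symm hyo)
    exact mem_zpowers_iff.2 ⟨i, Subtype.ext (by rw [SubgroupClass.coe_zpow]; exact hi)⟩
  · rw [← QuotientGroup.eq_one_iff]
    refine (Qu.f_inj R) (Eq.trans ?_ (map_one _).symm)
    refine eq_one_of_commute_four (Qu.odd_p R) (himg z' hz'o) (himg t' ht'o) hne (hcomm _ _ A.t_z.symm)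
      (hcomm R.c' z' R.hcz) (hcomm R.c' t' R.ct) ?_
    exact (R.ord_c ▸ A.D.odd_m).of_dvd_nat ((orderOf_map_dvd (Qu.f R) _).trans
      ((orderOf_map_dvd π R.c').trans (by rw [← Subgroup.orderOf_coe]; rfl)))

end Big

end Tor

end Setup

end CfsgLib.OddCyc
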