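import Cfsg.Agent.Lib.OddCyc.PairTI
import Cfsg.Agent.Lib.Char.GramSearch.Basic
import Mathlib.RingTheory.RootsOfUnity.Complex

/-!
# Degrees and decompositions of the generalized characters
-/

set_option autoImplicit false
set_option linter.unusedSectionVars false
set_option linter.style.haveILetI false

namespace CfsgLib.OddCyc

open Cfsg CfsgLib.Char CfsgLib.Char.Signed CfsgLib.Char.GramSearch

universe u

variable {G : Type u} [Group G] [Fintype G]

/-- two faithful linear characters of an odd cyclic group -/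
theorem exists_two_chars {Λ : Type u} [CommGroup Λ] [Finite Λ] [IsCyclic Λ] (ho : Odd (Nat.card Λ))
    (h5 : 5 ≤ Nat.card Λ) : ∃ χ χ' : Λ →* ℂˣ, Function.Injective χ ∧ Function.Injective χ' ∧ χ ≠ 1 ∧ χ' ≠ 1 ∧
      χ * χ ≠ 1 ∧ χ' * χ' ≠ 1 ∧ χ ≠ χ' ∧ χ * χ' ≠ 1 := by
  set n := Nat.card Λ with hn
  obtain ⟨g, hg⟩ := IsCyclic.exists_generator (α := Λ)
  have hgn : orderOf g = n := by rw [hn, orderOf_eq_card_of_forall_mem_zpowers hg]
  obtain ⟨ζ, hζ⟩ : ∃ ζ : ℂˣ, orderOf ζ = n := by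
    have hp := Complex.isPrimitiveRoot_exp n (by omega)
    exact ⟨(hp.isUnit (by omega)).unit, by
      rw [← orderOf_units, IsUnit.unit_spec, ← hp.eq_orderOf]⟩
  set χ := monoidHomOfForallMemZpowers hg (g' := ζ) (dvd_of_eq (hζ.trans hgn.symm)) with hχ
  have hχg : χ g = ζ := monoidHomOfForallMemZpowers_apply_gen hg _
  have hinj : Function.Injective χ := by
    refine (injective_iff_map_eq_one _).2 fun x hx => ?_
    obtain ⟨i, rfl⟩ := Subgroup.mem_zpowers_iff.1 (hg x)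
    rw [map_zpow, hχg, ← orderOf_dvd_iff_zpow_eq_one, hζ, ← hgn, orderOf_dvd_iff_zpow_eq_one] at hx
    exact hx
  set χ' := χ * χ with hχ'
  have hinj' : Function.Injective χ' := by
    refine (injective_iff_map_eq_one _).2 fun x hx => ?_
    rw [hχ', MonoidHom.mul_apply, ← map_mul, map_eq_one_iff _ hinj, ← sq, ← orderOf_dvd_iff_pow_eq_one] at hx
    exact orderOf_eq_one_iff.1 (Nat.eq_one_of_dvd_coprimes (Nat.coprime_two_left.2 ho) hx (orderOf_dvd_natCard x))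
  have hne : ∀ i : ℕ, 0 < i → i < 5 → ζ ^ i ≠ 1 := fun i hi hi5 =>
    pow_ne_one_of_lt_orderOf (by omega) (by rw [hζ]; omega)
  have hval : ∀ φ : Λ →* ℂˣ, φ = 1 → φ g = 1 := fun φ h => by rw [h, MonoidHom.one_apply]
  refine ⟨χ, χ', hinj, hinj', fun h => ?_, fun h => ?_, fun h => ?_, fun h => ?_, fun h => ?_, fun h => ?_⟩
  · refine hne 1 one_pos (by norm_num) ?_
    rw [pow_one, ← hχg, hval _ h]
  · refine hne 2 (by norm_num) (by norm_num) ?_
    rw [sq, ← hχg, ← MonoidHom.mul_apply, hval _ h]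
  · refine hne 2 (by norm_num) (by norm_num) ?_
    rw [sq, ← hχg, ← MonoidHom.mul_apply, hval _ h]
  · refine hne 4 (by norm_num) (by norm_num) ?_
    have h1 := hval _ h
    rw [MonoidHom.mul_apply, hχ', MonoidHom.mul_apply, hχg] at h1
    rw [← h1, pow_succ, pow_succ, pow_two, mul_assoc]
  · refine hne 1 one_pos (by norm_num) ?_
    have h1 := DFunLike.congr_fun h g
    rw [hχ', MonoidHom.mul_apply, hχg] at h1
    rw [pow_one]
    exact mul_left_cancel (a := ζ) (h1.symm.trans (mul_one ζ).symm)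
  · refine hne 3 (by norm_num) (by norm_num) ?_
    have h1 := hval _ h
    rw [MonoidHom.mul_apply, hχ', MonoidHom.mul_apply, hχg] at h1
    rw [← h1, pow_succ', pow_two]

theorem iq_const_left {f : G → ℂ} (hf : Gen f) {m : ℤ} (h : classInner f (fun _ => (1 : ℂ)) = m) :
    iq (fun _ => (1 : ℂ)) f = m := by
  have h1 : Gen (fun _ : G => (1 : ℂ)) :=
    isGeneralizedCharacter_of_isCharacter (isCharacter_of_isIrr isIrrCharacter_one)
  rw [iq_comm h1 hf, iq_eq m h]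

theorem sg_one : Sg (fun _ : G => (1 : ℂ)) := Sg.of_irr (⟨fun _ => 1, isIrrCharacter_one⟩ : IrrCharacter G)

theorem sg_scalar {P : G → ℂ} (hP : Sg P) (h0 : iq (fun _ => (1 : ℂ)) P = 0) :
    ∀ χ : IrrCharacter G, ∀ ε : ℤ, (ε = 1 ∨ ε = -1) → P = (ε : ℂ) • (χ : G → ℂ) →
      classInner (χ : G → ℂ) (fun _ => (1 : ℂ)) = 0 := by
  intro χ ε hε hPε
  rw [iq_comm sg_one.gen hP.gen, hPε, iq_smul_left (Sg.of_irr χ).gen sg_one.gen] at h0
  have h1 : iq (χ : G → ℂ) (fun _ => (1 : ℂ)) = 0 := (mul_eq_zero.1 h0).resolve_left (by omega)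
  rw [iq_spec (Sg.of_irr χ).gen sg_one.gen, h1, Int.cast_zero]

/-- characters orthogonal to the principal one are faithful on simple groups -/
theorem degree_bound (hs : IsSimpleGroup G) {P : G → ℂ} (hP : Sg P) (h0 : iq (fun _ => (1 : ℂ)) P = 0)
    {q : ℕ} (hq : q.Prime) {x : G} (hx : orderOf x = q) (hc : ∀ k : ℕ, ¬ q ∣ k → IsConj x (x ^ k)) :
    ∃ u : ℤ, P 1 = u ∧ (q : ℤ) - 1 ≤ |u| := by
  classical
  obtain ⟨χ, ε, hε, hPe⟩ := hP.exists_irr
  have horth := sg_scalar hP h0 χ ε hε hPe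
  obtain ⟨n, ρ, hρ'⟩ := isCharacter_irr χ
  have hρ : (χ : G → ℂ) = ρ.character := hρ'.symm
  obtain ⟨b, μ, hμ, heig, htr⟩ := exists_eigen_data ρ x
  obtain ⟨d, hd⟩ : ∃ d, Module.finrank ℂ (Fin n → ℂ) = d := ⟨_, rfl⟩
  have hd1 : (χ : G → ℂ) 1 = (d : ℂ) := by rw [hρ, Representation.char_one, hd]
  -- some eigenvalue is not one
  obtain ⟨i₀, hi₀⟩ : ∃ i, μ i ≠ 1 := by
    by_contra! hall
    have hker : ρ x = 1 := b.ext fun i => by
      have := heig 1 i
      rw [pow_one, pow_one, hall i, one_smul] at this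
      simpa using this
    let f : G →* (Module.End ℂ (Fin n → ℂ))ˣ := MonoidHom.toHomUnits ρ
    have hfk : x ∈ f.ker := by
      rw [MonoidHom.mem_ker]
      exact Units.ext hker
    rcases IsSimpleGroup.eq_bot_or_eq_top_of_normal f.ker inferInstance with h | h
    · rw [h, Subgroup.mem_bot] at hfk
      rw [hfk, orderOf_one] at hx
      exact hq.one_lt.ne hx
    · have hconst : ∀ g : G, (χ : G → ℂ) g = (d : ℂ) := fun g => by
        have hg : ρ g = ρ 1 := by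
          rw [map_one]
          exact congrArg Units.val (MonoidHom.mem_ker.1 (h ▸ Subgroup.mem_top g : g ∈ f.ker))
        rw [hρ, ← hd, ← Representation.char_one ρ, Representation.character, Representation.character]
        exact congrArg _ hg
      simp only [classInner, hconst, map_one, mul_one, Finset.sum_const, Finset.card_univ, nsmul_eq_mul] at horth
      rw [Nat.card_eq_fintype_card, ← mul_assoc,
        inv_mul_cancel₀ (by exact_mod_cast Fintype.card_ne_zero), one_mul] at horth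
      exact irr_one_ne_zero χ (hd1.trans horth)
  have hq0 : q ≠ 0 := hq.pos.ne'
  have hμq : ∀ i, μ i ^ q = 1 := fun i => hx ▸ hμ i
  -- the values on the powers
  set a := (χ : G → ℂ) x with ha
  have hval : ∀ k ∈ Finset.range q, ∑ i, μ i ^ k = if k = 0 then (d : ℂ) else a := by
    intro k hk
    rw [← htr k]
    split_ifs with h
    · rw [h, pow_zero, Representation.char_one, hd]
    · have hndvd : ¬ q ∣ k := fun hd => h (Nat.eq_zero_of_dvd_of_lt hd (Finset.mem_range.1 hk))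
      rw [← hρ, ha, classFun_isConj (isClassFunction_irr χ) (hc k hndvd)]
  have hsum : ∀ ω : ℂ, ω ^ q = 1 → ∑ k ∈ Finset.range q, (if k = 0 then (d : ℂ) else a) * ω ^ k =
      (q : ℂ) * ((Finset.univ.filter fun i => μ i * ω = 1).card : ℂ) := by
    intro ω hω
    rw [Finset.sum_congr rfl fun k hk => by rw [← hval k hk, Finset.sum_mul]]
    simp only [← mul_pow]
    rw [Finset.sum_comm, Finset.card_filter, Nat.cast_sum, Finset.mul_sum]
    refine Finset.sum_congr rfl fun i _ => ?_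
    by_cases h : μ i * ω = 1
    · simp [h]
    · rw [geom_sum_eq h, mul_pow, hμq, hω, one_mul, sub_self, zero_div, if_neg h]
      simp
  set e := (Finset.univ.filter fun i => μ i = 1).card with he
  set f := (Finset.univ.filter fun i => μ i * (μ i₀)⁻¹ = 1).card
  have hμ0 : μ i₀ ≠ 0 := fun h => by
    have := hμq i₀
    rw [h, zero_pow hq0] at this
    exact zero_ne_one this
  have h1 := hsum 1 (one_pow q)
  have h2 := hsum (μ i₀)⁻¹ (by rw [inv_pow, hμq, inv_one])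
  have hsplit : ∀ ω : ℂ, ∑ k ∈ Finset.range q, (if k = 0 then (d : ℂ) else a) * ω ^ k =
      (d : ℂ) + a * (∑ k ∈ Finset.range q, ω ^ k - 1) := by
    intro ω
    obtain ⟨q', rfl⟩ : ∃ q', q = q' + 1 := ⟨q - 1, by omega⟩
    rw [Finset.sum_range_succ' _ q', Finset.sum_range_succ' (fun k => ω ^ k) q']
    simp [Finset.mul_sum]
    ring
  have hω : (μ i₀)⁻¹ ≠ 1 := fun h => hi₀ (inv_eq_one.1 h)
  rw [hsplit, geom_sum_eq hω, inv_pow, hμq, inv_one, sub_self, zero_div] at h2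
  rw [hsplit] at h1
  simp only [one_pow, Finset.sum_const, Finset.card_range, nsmul_eq_mul, mul_one] at h1
  have hdeq : (d : ℂ) = ((q : ℂ) - 1) * (f : ℂ) + (e : ℂ) := by
    have hqc : (q : ℂ) ≠ 0 := by exact_mod_cast hq0
    refine mul_left_cancel₀ hqc ?_
    linear_combination h1 + ((q : ℂ) - 1) * h2
  have hf : 1 ≤ f := Finset.card_pos.2 ⟨i₀, Finset.mem_filter.2 ⟨Finset.mem_univ _, mul_inv_cancel₀ hμ0⟩⟩
  have hdz : (d : ℤ) = ((q : ℤ) - 1) * (f : ℤ) + (e : ℤ) := by exact_mod_cast hdeq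
  refine ⟨ε * d, ?_, ?_⟩
  · rw [hPe, Pi.smul_apply, smul_eq_mul, hd1]
    push_cast
    rfl
  · have hq1 : (1 : ℤ) ≤ q := by exact_mod_cast hq.pos
    have : |ε * (d : ℤ)| = d := by rcases hε with rfl | rfl <;> simp
    rw [this, hdz]
    nlinarith

/-- a character of degree one is principal in a nonabelian simple group -/
theorem no_linear (hs : IsSimpleGroup G) (hna : ∃ a b : G, a * b ≠ b * a) {P : G → ℂ} (hP : Sg P)
    (h0 : iq (fun _ => (1 : ℂ)) P = 0) (h1 : P 1 = 1) : False := by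
  obtain ⟨φ, hφ⟩ := hP.exists_hom h1
  have hne : φ ≠ 1 := fun h => by
    have h2 : P = fun _ => (1 : ℂ) := funext fun g => by rw [← hφ g, h]; simp
    rw [h2, sg_one.iq_self] at h0
    norm_num at h0
  obtain ⟨a, b, hab⟩ := hna
  rcases IsSimpleGroup.eq_bot_or_eq_top_of_normal φ.ker inferInstance with h | h
  · exact hab ((MonoidHom.ker_eq_bot_iff φ).1 h (by rw [map_mul, map_mul, mul_comm]))
  · exact hne (MonoidHom.ker_eq_top_iff.1 h)

/-- the Gram matrix of `1, β, β', ψ` -/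
def gBig (i j : ℕ) : ℤ := (([[1, 1, 1, 1], [1, 3, 2, 0], [1, 2, 3, 0], [1, 0, 0, 3]] : List (List ℤ)).getD i []).getD j 0

theorem run_gBig : run gBig 4 =
    [[[1, 1, 1, 1], [0, 1, 0, -1], [0, 1, 1, 0], [0, 0, 1, -1]],
      [[1, 1, 1, 1], [0, 1, 0, 0], [0, 1, 1, -1], [0, 0, 1, 0], [0, 0, 0, 1]],
      [[1, 1, 1, 1], [0, 1, 1, -1], [0, 1, 0, 0], [0, 0, 1, 0], [0, 0, 0, 1]],
      [[1, 1, 1, 1], [0, 1, 1, 0], [0, 1, 0, -1], [0, 0, 1, -1]]] := by decide +kernel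

/-- the constituents of `β` and `ψ` -/
theorem decomp_big (F : ℕ → G → ℂ) (h0 : F 0 = fun _ => (1 : ℂ)) (hgen : ∀ i < 4, Gen (F i))
    (hgram : ∀ i < 4, ∀ j ≤ i, iq (F i) (F j) = gBig i j) (hz : ∀ i, 1 ≤ i → i < 4 → F i 1 = 0) :
    ∃ P Q Z : G → ℂ, Sg P ∧ Sg Q ∧ Sg Z ∧ iq (F 0) P = 0 ∧ F 1 = F 0 + P + Q ∧ F 3 = F 0 - P + Z := by
  obtain ⟨cs, hcs, l, hl, hlen, -, hrow⟩ := exists_run gBig F 4
    (fun i hi => ⟨hgen i hi, by interval_cases i <;> decide⟩) hgram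
  have r0 := hrow 0 (by norm_num)
  have r1 := hrow 1 (by norm_num)
  have r2 := hrow 2 (by norm_num)
  have r3 := hrow 3 (by norm_num)
  have hbad : ∀ A B C : G → ℂ, Sg A → Sg B → Sg C → F 1 = F 0 + A + B → F 2 = F 0 + B + C →
      F 3 = F 0 - A - C → False := by
    intro A B C hA hB hC e1 e2 e3
    obtain ⟨a, -, ha⟩ := hA.apply_one_int
    obtain ⟨b, -, hb⟩ := hB.apply_one_int
    obtain ⟨c, -, hc⟩ := hC.apply_one_int
    have k1 := congrFun e1 1
    have k2 := congrFun e2 1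
    have k3 := congrFun e3 1
    simp only [Pi.add_apply, Pi.sub_apply, hz 1 le_rfl (by norm_num), hz 2 (by norm_num) (by norm_num),
      hz 3 (by norm_num) (by norm_num), h0, ha, hb, hc] at k1 k2 k3
    have k1' : (0 : ℤ) = 1 + a + b := by exact_mod_cast k1
    have k2' : (0 : ℤ) = 1 + b + c := by exact_mod_cast k2
    have k3' : (0 : ℤ) = 1 - a - c := by exact_mod_cast k3
    omega
  rw [run_gBig] at hcs
  simp only [List.mem_cons, List.not_mem_nil, or_false] at hcs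
  rcases hcs with rfl | rfl | rfl | rfl <;> simp only [List.length_cons, List.length_nil] at hlen
  · obtain ⟨u, A, B, C, rfl⟩ : ∃ u A B C, l = [u, A, B, C] := by
      match l, hlen with | [u, A, B, C], _ => exact ⟨u, A, B, C, rfl⟩
    simp [comb, row] at r0 r1 r2 r3
    obtain rfl : F 0 = u := r0
    exact (hbad A B C (hl.1 _ (by simp)) (hl.1 _ (by simp)) (hl.1 _ (by simp)) (by rw [r1]; abel)
      (by rw [r2]; abel) (by rw [r3]; abel)).elim
  · obtain ⟨u, A, B, C, E, rfl⟩ : ∃ u A B C E, l = [u, A, B, C, E] := by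
      match l, hlen with | [u, A, B, C, E], _ => exact ⟨u, A, B, C, E, rfl⟩
    simp [comb, row] at r0 r1 r2 r3
    obtain rfl : F 0 = u := r0
    exact ⟨B, A, E, hl.1 _ (by simp), hl.1 _ (by simp), hl.1 _ (by simp),
      (List.pairwise_cons.1 hl.2).1 _ (by simp), by rw [r1]; abel, by rw [r3]; abel⟩
  · obtain ⟨u, A, B, C, E, rfl⟩ : ∃ u A B C E, l = [u, A, B, C, E] := by
      match l, hlen with | [u, A, B, C, E], _ => exact ⟨u, A, B, C, E, rfl⟩
    simp [comb, row] at r0 r1 r2 r3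
    obtain rfl : F 0 = u := r0
    exact ⟨A, B, E, hl.1 _ (by simp), hl.1 _ (by simp), hl.1 _ (by simp),
      (List.pairwise_cons.1 hl.2).1 _ (by simp), by rw [r1]; abel, by rw [r3]; abel⟩
  · obtain ⟨u, A, B, C, rfl⟩ : ∃ u A B C, l = [u, A, B, C] := by
      match l, hlen with | [u, A, B, C], _ => exact ⟨u, A, B, C, rfl⟩
    simp [comb, row] at r0 r1 r2 r3
    obtain rfl : F 0 = u := r0
    exact (hbad B A C (hl.1 _ (by simp)) (hl.1 _ (by simp)) (hl.1 _ (by simp)) (by rw [r1]; abel)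
      (by rw [r2]; abel) (by rw [r3]; abel)).elim

/-- the Gram matrix of `1, α, α', ψ₀, ψ₁` -/
def gThree (i j : ℕ) : ℤ :=
  (([[1, 1, 1, 1, 0], [1, 3, 2, 1, 1], [1, 2, 3, 1, 1], [1, 1, 1, 3, 1], [0, 1, 1, 1, 3]] :
    List (List ℤ)).getD i []).getD j 0

theorem run_gThree : run gThree 5 =
    [[[1, 1, 1, 1, 0], [0, 1, 0, 0, 0], [0, 1, 1, 0, 1], [0, 0, 1, 0, 0], [0, 0, 0, 1, 0], [0, 0, 0, 1, 1],
        [0, 0, 0, 0, 1]],
      [[1, 1, 1, 1, 0], [0, 1, 0, 0, 0], [0, 1, 1, 0, 1], [0, 0, 1, 0, 0], [0, 0, 0, 1, 1], [0, 0, 0, 1, 0],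
        [0, 0, 0, 0, 1]],
      [[1, 1, 1, 1, 0], [0, 1, 0, 0, 1], [0, 1, 1, 0, 0], [0, 0, 1, 0, 1], [0, 0, 0, 1, 0], [0, 0, 0, 1, 1]],
      [[1, 1, 1, 1, 0], [0, 1, 0, 0, 1], [0, 1, 1, 0, 0], [0, 0, 1, 0, 1], [0, 0, 0, 1, 1], [0, 0, 0, 1, 0]],
      [[1, 1, 1, 1, 0], [0, 1, 1, 0, 0], [0, 1, 0, 0, 1], [0, 0, 1, 0, 1], [0, 0, 0, 1, 0], [0, 0, 0, 1, 1]],
      [[1, 1, 1, 1, 0], [0, 1, 1, 0, 0], [0, 1, 0, 0, 1], [0, 0, 1, 0, 1], [0, 0, 0, 1, 1], [0, 0, 0, 1, 0]],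
      [[1, 1, 1, 1, 0], [0, 1, 1, 0, 1], [0, 1, 0, 0, 0], [0, 0, 1, 0, 0], [0, 0, 0, 1, 0], [0, 0, 0, 1, 1],
        [0, 0, 0, 0, 1]],
      [[1, 1, 1, 1, 0], [0, 1, 1, 0, 1], [0, 1, 0, 0, 0], [0, 0, 1, 0, 0], [0, 0, 0, 1, 1], [0, 0, 0, 1, 0],
        [0, 0, 0, 0, 1]]] := by decide +kernel

/-- the constituents of `α`, `ψ₀` and `ψ₁` -/
theorem decomp_three (F : ℕ → G → ℂ) (h0 : F 0 = fun _ => (1 : ℂ)) (hgen : ∀ i < 5, Gen (F i))
    (hgram : ∀ i < 5, ∀ j ≤ i, iq (F i) (F j) = gThree i j) :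
    ∃ W Q x d e : G → ℂ, (Sg W ∧ Sg Q ∧ Sg x ∧ Sg d ∧ Sg e) ∧ iq (F 0) W = 0 ∧ iq (F 0) Q = 0 ∧
      F 1 = F 0 + W + Q ∧ F 3 = F 0 + x + d ∧ F 4 = W + x + e := by
  obtain ⟨cs, hcs, l, hl, hlen, -, hrow⟩ := exists_run gThree F 5
    (fun i hi => ⟨hgen i hi, by interval_cases i <;> decide⟩) hgram
  have r0 := hrow 0 (by norm_num)
  have r1 := hrow 1 (by norm_num)
  have r3 := hrow 3 (by norm_num)
  have r4 := hrow 4 (by norm_num)
  rw [run_gThree] at hcs
  simp only [List.mem_cons, List.not_mem_nil, or_false] at hcs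
  rcases hcs with rfl | rfl | rfl | rfl | rfl | rfl | rfl | rfl <;>
    simp only [List.length_cons, List.length_nil] at hlen
  · obtain ⟨u, A, B, C, D, E, H, rfl⟩ : ∃ u A B C D E H, l = [u, A, B, C, D, E, H] := by
      match l, hlen with | [u, A, B, C, D, E, H], _ => exact ⟨u, A, B, C, D, E, H, rfl⟩
    simp [comb, row] at r0 r1 r3 r4
    obtain rfl : F 0 = u := r0
    exact ⟨B, A, E, D, H, ⟨hl.1 _ (by simp), hl.1 _ (by simp), hl.1 _ (by simp), hl.1 _ (by simp),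
      hl.1 _ (by simp)⟩, (List.pairwise_cons.1 hl.2).1 _ (by simp), (List.pairwise_cons.1 hl.2).1 _ (by simp),
      by rw [r1]; abel, by rw [r3]; abel, by rw [r4]; abel⟩
  · obtain ⟨u, A, B, C, D, E, H, rfl⟩ : ∃ u A B C D E H, l = [u, A, B, C, D, E, H] := by
      match l, hlen with | [u, A, B, C, D, E, H], _ => exact ⟨u, A, B, C, D, E, H, rfl⟩
    simp [comb, row] at r0 r1 r3 r4
    obtain rfl : F 0 = u := r0
    exact ⟨B, A, D, E, H, ⟨hl.1 _ (by simp), hl.1 _ (by simp), hl.1 _ (by simp), hl.1 _ (by simp),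
      hl.1 _ (by simp)⟩, (List.pairwise_cons.1 hl.2).1 _ (by simp), (List.pairwise_cons.1 hl.2).1 _ (by simp),
      by rw [r1]; abel, by rw [r3]; abel, by rw [r4]; abel⟩
  · obtain ⟨u, A, B, C, D, E, rfl⟩ : ∃ u A B C D E, l = [u, A, B, C, D, E] := by
      match l, hlen with | [u, A, B, C, D, E], _ => exact ⟨u, A, B, C, D, E, rfl⟩
    simp [comb, row] at r0 r1 r3 r4
    obtain rfl : F 0 = u := r0
    exact ⟨A, B, E, D, C, ⟨hl.1 _ (by simp), hl.1 _ (by simp), hl.1 _ (by simp), hl.1 _ (by simp),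
      hl.1 _ (by simp)⟩, (List.pairwise_cons.1 hl.2).1 _ (by simp), (List.pairwise_cons.1 hl.2).1 _ (by simp),
      by rw [r1]; abel, by rw [r3]; abel, by rw [r4]; abel⟩
  · obtain ⟨u, A, B, C, D, E, rfl⟩ : ∃ u A B C D E, l = [u, A, B, C, D, E] := by
      match l, hlen with | [u, A, B, C, D, E], _ => exact ⟨u, A, B, C, D, E, rfl⟩
    simp [comb, row] at r0 r1 r3 r4
    obtain rfl : F 0 = u := r0
    exact ⟨A, B, D, E, C, ⟨hl.1 _ (by simp), hl.1 _ (by simp), hl.1 _ (by simp), hl.1 _ (by simp),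
      hl.1 _ (by simp)⟩, (List.pairwise_cons.1 hl.2).1 _ (by simp), (List.pairwise_cons.1 hl.2).1 _ (by simp),
      by rw [r1]; abel, by rw [r3]; abel, by rw [r4]; abel⟩
  · obtain ⟨u, A, B, C, D, E, rfl⟩ : ∃ u A B C D E, l = [u, A, B, C, D, E] := by
      match l, hlen with | [u, A, B, C, D, E], _ => exact ⟨u, A, B, C, D, E, rfl⟩
    simp [comb, row] at r0 r1 r3 r4
    obtain rfl : F 0 = u := r0
    exact ⟨B, A, E, D, C, ⟨hl.1 _ (by simp), hl.1 _ (by simp), hl.1 _ (by simp), hl.1 _ (by simp),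
      hl.1 _ (by simp)⟩, (List.pairwise_cons.1 hl.2).1 _ (by simp), (List.pairwise_cons.1 hl.2).1 _ (by simp),
      by rw [r1]; abel, by rw [r3]; abel, by rw [r4]; abel⟩
  · obtain ⟨u, A, B, C, D, E, rfl⟩ : ∃ u A B C D E, l = [u, A, B, C, D, E] := by
      match l, hlen with | [u, A, B, C, D, E], _ => exact ⟨u, A, B, C, D, E, rfl⟩
    simp [comb, row] at r0 r1 r3 r4
    obtain rfl : F 0 = u := r0
    exact ⟨B, A, D, E, C, ⟨hl.1 _ (by simp), hl.1 _ (by simp), hl.1 _ (by simp), hl.1 _ (by simp),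
      hl.1 _ (by simp)⟩, (List.pairwise_cons.1 hl.2).1 _ (by simp), (List.pairwise_cons.1 hl.2).1 _ (by simp),
      by rw [r1]; abel, by rw [r3]; abel, by rw [r4]; abel⟩
  · obtain ⟨u, A, B, C, D, E, H, rfl⟩ : ∃ u A B C D E H, l = [u, A, B, C, D, E, H] := by
      match l, hlen with | [u, A, B, C, D, E, H], _ => exact ⟨u, A, B, C, D, E, H, rfl⟩
    simp [comb, row] at r0 r1 r3 r4
    obtain rfl : F 0 = u := r0
    exact ⟨A, B, E, D, H, ⟨hl.1 _ (by simp), hl.1 _ (by simp), hl.1 _ (by simp), hl.1 _ (by simp),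
      hl.1 _ (by simp)⟩, (List.pairwise_cons.1 hl.2).1 _ (by simp), (List.pairwise_cons.1 hl.2).1 _ (by simp),
      by rw [r1]; abel, by rw [r3]; abel, by rw [r4]; abel⟩
  · obtain ⟨u, A, B, C, D, E, H, rfl⟩ : ∃ u A B C D E H, l = [u, A, B, C, D, E, H] := by
      match l, hlen with | [u, A, B, C, D, E, H], _ => exact ⟨u, A, B, C, D, E, H, rfl⟩
    simp [comb, row] at r0 r1 r3 r4
    obtain rfl : F 0 = u := r0
    exact ⟨A, B, D, E, H, ⟨hl.1 _ (by simp), hl.1 _ (by simp), hl.1 _ (by simp), hl.1 _ (by simp),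
      hl.1 _ (by simp)⟩, (List.pairwise_cons.1 hl.2).1 _ (by simp), (List.pairwise_cons.1 hl.2).1 _ (by simp),
      by rw [r1]; abel, by rw [r3]; abel, by rw [r4]; abel⟩

end CfsgLib.OddCyc
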