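import Cfsg.Agent.Lib.OddCyc.BigPair
import Cfsg.Agent.Lib.OddCyc.CharTools

/-!
# The case of at least five elements in the field
-/

set_option autoImplicit false
set_option linter.unusedSectionVars false
set_option linter.style.haveILetI false

open scoped ComplexConjugate

namespace CfsgLib.OddCyc

open Subgroup Cfsg CfsgLib.Perm.Dickson CfsgLib.GW CfsgLib.Char CfsgLib.Char.Signed CfsgLib.Char.GramSearch

universe u

namespace Setup

variable {G : Type u} [Group G] {F : Type} [Field F] [Fintype F]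

/-- an element of order `q` conjugate to its non-trivial powers -/
theorem exists_rational [Finite G] (A : Setup G F) :
    ∃ x : G, orderOf x = Nat.card F ∧ ∀ k : ℕ, ¬ Nat.card F ∣ k → IsConj x (x ^ k) := by
  classical
  haveI := finite_G2 (F := F)
  set q := Nat.card F with hqdef
  have hq : q.Prime := A.D.prime
  haveI := Fact.mk hq
  have hq2 : q ≠ 2 := fun h => by
    have := A.D.odd
    rw [← hqdef, h] at this
    exact Nat.not_odd_iff_even.2 even_two this
  obtain ⟨v, hv', hvc'⟩ := exists_unipotent (F := F) hq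
  have hv : orderOf v = q := hv'
  have hvc : ∀ k : ℕ, ¬ q ∣ k → IsConj v (v ^ k) := hvc'
  set f : ↥(centralizer {A.z}) →* G2 F := A.D.π.comp A.p with hf
  have hfs : Function.Surjective f := A.D.surj.comp A.p_surj
  set M := (zpowers v).comap f with hM
  obtain ⟨P⟩ : Nonempty (Sylow q M) := inferInstance
  haveI : IsCyclic (P : Subgroup M) := ((A.hG.subgroup _).subgroup M) q hq hq2 P P.2
  obtain ⟨y, hy⟩ := IsCyclic.exists_generator (α := (P : Subgroup M))
  set g : M →* zpowers v := f.subgroupComap (zpowers v) with hg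
  have hgs : Function.Surjective g := fun w => by
    obtain ⟨x, hx⟩ := hfs w.1
    exact ⟨⟨x, by rw [hM, Subgroup.mem_comap, hx]; exact w.2⟩, Subtype.ext hx⟩
  have hgy : g (y : M) ≠ 1 := by
    intro h
    have hle : (P : Subgroup M) ≤ g.ker := fun x hx => by
      obtain ⟨i, hi⟩ := mem_zpowers_iff.1 (hy ⟨x, hx⟩)
      rw [MonoidHom.mem_ker, show x = (y : M) ^ i by rw [← SubgroupClass.coe_zpow, hi], map_zpow, h, one_zpow]
    refine P.not_dvd_index (dvd_trans ?_ (Subgroup.index_dvd_of_le hle))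
    rw [Subgroup.index_ker, MonoidHom.range_eq_top.2 hgs, Subgroup.card_top, Nat.card_zpowers, hv]
  set Y : ↥(centralizer {A.z}) := ((y : M) : ↥(centralizer {A.z})) with hY
  have hfY : orderOf (f Y) = q := by
    have h1 : orderOf (g (y : M)) ∣ q := by
      exact (_root_.orderOf_dvd_natCard _).trans ((Nat.card_zpowers v).trans hv).dvd
    rw [← ((Nat.dvd_prime hq).1 h1).resolve_left (fun h => hgy (orderOf_eq_one_iff.1 h)), ← Subgroup.orderOf_coe]
    rfl
  have hYd : q ∣ orderOf Y := hfY ▸ orderOf_map_dvd f Y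
  have he0 : orderOf Y / q ≠ 0 := (Nat.div_pos (Nat.le_of_dvd (orderOf_pos Y) hYd) hq.pos).ne'
  set x := Y ^ (orderOf Y / q) with hx
  have hxo : orderOf x = q := by
    rw [hx, orderOf_pow' _ he0, Nat.gcd_eq_right (Nat.div_dvd_of_dvd hYd),
      Nat.div_div_self hYd (orderOf_pos Y).ne']
  refine ⟨(x : G), by rw [Subgroup.orderOf_coe, hxo], fun k hk => ?_⟩
  -- a conjugation raising the image to the power `k`
  obtain ⟨a, ha⟩ := mem_zpowers_iff.1 (show f Y ∈ zpowers v from (y : M).2)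
  obtain ⟨c₀, hc₀⟩ := isConj_iff.1 (hvc k hk)
  obtain ⟨c, hcc⟩ := hfs c₀
  have hcY : f (c * Y * c⁻¹) = f Y ^ k := by
    rw [map_mul, map_mul, map_inv, hcc, ← ha, ← conj_zpow, hc₀, ← zpow_natCast, ← zpow_natCast, ← zpow_mul,
      ← zpow_mul, mul_comm]
  have hcM : c * Y * c⁻¹ ∈ M := by
    rw [hM, Subgroup.mem_comap, hcY]
    exact pow_mem (show f Y ∈ zpowers v from (y : M).2) k
  have hp : IsPGroup q (zpowers (⟨c * Y * c⁻¹, hcM⟩ : M)) := by
    obtain ⟨n, hn⟩ := P.2 y
    obtain ⟨j, -, hj⟩ := (Nat.dvd_prime_pow hq).1 (orderOf_dvd_of_pow_eq_one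
      (show Y ^ q ^ n = 1 from congrArg Subtype.val (congrArg Subtype.val hn)))
    refine IsPGroup.of_card (n := j) ?_
    rw [Nat.card_zpowers, Subgroup.orderOf_mk, ← MulAut.conj_apply, MulEquiv.orderOf_eq, hj]
  obtain ⟨P', hP'⟩ := hp.exists_le_sylow
  obtain ⟨μ, hμ⟩ := MulAction.exists_smul_eq M P' P
  have hmem : μ * ⟨c * Y * c⁻¹, hcM⟩ * μ⁻¹ ∈ (P : Subgroup M) := by
    rw [← hμ, Sylow.coe_subgroup_smul, Subgroup.pointwise_smul_def]
    exact ⟨_, hP' (mem_zpowers _), rfl⟩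
  obtain ⟨l, hl⟩ := mem_zpowers_iff.1 (hy ⟨_, hmem⟩)
  set d := (μ : ↥(centralizer {A.z})) * c with hd
  have hl' : d * Y * d⁻¹ = Y ^ l := by
    have h := congrArg (fun w : (P : Subgroup M) => ((w : M) : ↥(centralizer {A.z}))) hl
    simp only [SubgroupClass.coe_zpow, Subgroup.coe_mul, InvMemClass.coe_inv] at h
    rw [← hY] at h
    rw [h, hd]
    group
  have hcong : (q : ℤ) ∣ l - k := by
    rw [← hfY, orderOf_dvd_iff_zpow_eq_one, zpow_sub, zpow_natCast, mul_inv_eq_one, ← map_zpow, ← hl', hd,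
      show (μ : ↥(centralizer {A.z})) * c * Y * ((μ : ↥(centralizer {A.z})) * c)⁻¹ =
        (μ : ↥(centralizer {A.z})) * (c * Y * c⁻¹) * (μ : ↥(centralizer {A.z}))⁻¹ by group, map_mul, map_mul,
      map_inv, hcY]
    obtain ⟨i, hi⟩ := mem_zpowers_iff.1 (show f (μ : ↥(centralizer {A.z})) ∈ zpowers v from μ.2)
    obtain ⟨i', hi'⟩ := mem_zpowers_iff.1 (show f Y ^ k ∈ zpowers v from pow_mem (show f Y ∈ zpowers v from (y : M).2) k)
    rw [← hi, ← hi', (((Commute.refl v).zpow_left i).zpow_right i').eq, mul_inv_cancel_right]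
  refine isConj_iff.2 ⟨(d : G), ?_⟩
  have h : d * x * d⁻¹ = x ^ k := by
    rw [hx, ← conj_pow, hl', ← zpow_natCast, ← zpow_mul, mul_comm, zpow_mul, zpow_natCast,
      ← zpow_natCast (Y ^ (orderOf Y / q)) k, ← hx]
    obtain ⟨e, he⟩ := hcong
    rw [show l = (k : ℤ) + (q : ℤ) * e by linarith, zpow_add, zpow_mul x (q : ℤ) e, zpow_natCast x q, ← hxo,
      pow_orderOf_eq_one, one_zpow, mul_one]
  exact congrArg Subtype.val h

/-- **the field has three elements** -/
theorem false_of_five [Fintype G] (A : Setup G F) (hq : 5 ≤ Fintype.card F) : False := by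
  classical
  obtain ⟨r, Λ, hΛc, hΛf, hΛcyc, P, p', O, hr, hrn, hΛ5, hsupp, ⟨u₀, hu₀, hu₀i⟩, hX, hout, hshape⟩ :=
    A.exists_bigData hq
  haveI := Fintype.ofFinite Λ
  obtain ⟨χ, χ', hχ, hχ', h1, h1', h2, h2', hne, hne'⟩ := exists_two_chars P.odd hΛ5
  have horth : ∀ φ : Λ →* ℂˣ, classInner (A.psi w0) (P.ind (PairTI.one_sub φ)) = 0 := by
    intro φ
    have hzero : ∀ x : G, A.psi w0 x * conj (P.ind (PairTI.one_sub φ) x) = 0 := by
      intro x
      by_contra hne0
      obtain ⟨hpsi, hind⟩ := mul_ne_zero_iff.1 hne0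
      obtain ⟨g, hg⟩ : ∃ g, A.Sp (g⁻¹ * x * g) := by
        by_contra! hc
        exact hpsi (A.psi_eq_zero w0_zero hc)
      obtain ⟨g', hg'⟩ : ∃ g, P.Sp (g⁻¹ * x * g) := by
        by_contra! hc
        exact hind (by rw [P.ind_eq_zero (PairTI.one_sub_one φ) hc, map_zero])
      have ho : ∀ g : G, orderOf (g⁻¹ * x * g) = orderOf x := fun g => by
        rw [show g⁻¹ * x * g = MulAut.conj g⁻¹ x by simp, MulEquiv.orderOf_eq]
      refine hrn ?_
      have hd := Subgroup.orderOf_dvd_natCard A.L hg.1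
      rw [ho, A.card_L] at hd
      exact ((ho g') ▸ hsupp _ hg').trans (hd.trans (by rw [mul_comm A.o]))
    simp only [classInner, hzero, Finset.sum_const_zero, mul_zero]
  let Fs : ℕ → G → ℂ
    | 0 => fun _ => 1
    | 1 => P.ind (PairTI.one_sub χ)
    | 2 => P.ind (PairTI.one_sub χ')
    | _ => A.psi w0
  have hgen : ∀ i < 4, Gen (Fs i) := by
    intro i hi
    interval_cases i
    · exact sg_one.gen
    · exact P.gen_ind χ
    · exact P.gen_ind χ'
    · exact A.gen_psi0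
  have hgram : ∀ i < 4, ∀ j ≤ i, iq (Fs i) (Fs j) = gBig i j := by
    intro i hi j hj
    refine iq_eq _ ?_
    interval_cases i <;> interval_cases j
    · exact sg_one.2.trans (by norm_num [gBig])
    · exact (P.inner_ind_one χ h1).trans (by norm_num [gBig])
    · exact (P.inner_ind χ χ h1 h1).trans (by rw [if_pos rfl, if_neg h2]; norm_num [gBig])
    · exact (P.inner_ind_one χ' h1').trans (by norm_num [gBig])
    · exact (P.inner_ind χ' χ h1' h1).trans (by
        rw [if_neg (Ne.symm hne), if_neg (fun h => hne' ((mul_comm χ χ').trans h))]; norm_num [gBig])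
    · exact (P.inner_ind χ' χ' h1' h1').trans (by rw [if_pos rfl, if_neg h2']; norm_num [gBig])
    · exact A.psi0_one.trans (by norm_num [gBig])
    · exact (horth χ).trans (by norm_num [gBig])
    · exact (horth χ').trans (by norm_num [gBig])
    · exact A.psi0_psi0.trans (by norm_num [gBig])
  have hz0 : ∀ i, 1 ≤ i → i < 4 → Fs i 1 = 0 := by
    intro i hi hi4
    interval_cases i
    · exact P.ind_sq_one (PairTI.one_sub_one χ) (one_mul 1)
    · exact P.ind_sq_one (PairTI.one_sub_one χ') (one_mul 1)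
    · exact A.psi_one w0_zero
  obtain ⟨S, Q, Z, hS, hQ, hZ, h0S, e1, e3⟩ := decomp_big Fs rfl hgen hgram hz0
  -- the degree
  obtain ⟨x, hx, hxc⟩ := A.exists_rational
  obtain ⟨d, hd, hdq⟩ := degree_bound A.simple hS h0S A.D.prime hx hxc
  have hq' : (5 : ℤ) ≤ (Nat.card F : ℤ) := by rw [Nat.card_eq_fintype_card]; exact_mod_cast hq
  have hd4 : 4 ≤ |d| := by linarith
  set a := S A.z with ha
  have hzz : A.z * A.z = 1 := A.z_sq'
  have k1 : Q 1 = -1 - (d : ℂ) := by
    have := congrFun e1 1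
    rw [show Fs 1 1 = 0 from hz0 1 le_rfl (by norm_num)] at this
    simp only [Pi.add_apply, hd, show Fs 0 1 = 1 from rfl] at this
    linear_combination -this
  have k2 : Q A.z = -1 - a := by
    have := congrFun e1 A.z
    rw [show Fs 1 A.z = 0 from P.ind_sq_one (PairTI.one_sub_one χ) hzz] at this
    simp only [Pi.add_apply, show Fs 0 A.z = 1 from rfl, ← ha] at this
    linear_combination -this
  have k3 : Z 1 = (d : ℂ) - 1 := by
    have := congrFun e3 1
    rw [show Fs 3 1 = 0 from hz0 3 (by norm_num) (by norm_num)] at this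
    simp only [Pi.add_apply, Pi.sub_apply, hd, show Fs 0 1 = 1 from rfl] at this
    linear_combination -this
  have k4 : Z A.z = a - 1 := by
    have := congrFun e3 A.z
    rw [show Fs 3 A.z = 0 from A.psi_sq_one w0_zero hzz] at this
    simp only [Pi.add_apply, Pi.sub_apply, show Fs 0 A.z = 1 from rfl, ← ha] at this
    linear_combination -this
  have hq1 : qfun A.z (Fs 0) = 1 := by
    show qfun A.z (fun _ => (1 : ℂ)) = 1
    rw [qfun_sg A.z sg_one]; norm_num
  have hd0 : (d : ℂ) ≠ 0 := by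
    rw [Ne, Int.cast_eq_zero]; rintro rfl; norm_num at hd4
  have hd1 : (d : ℂ) + 1 ≠ 0 := by
    rw [show (d : ℂ) + 1 = ((d + 1 : ℤ) : ℂ) by push_cast; rfl, Ne, Int.cast_eq_zero]
    intro h
    rw [show d = -1 by linarith] at hd4
    norm_num at hd4
  have hd2 : (d : ℂ) - 1 ≠ 0 := by
    rw [show (d : ℂ) - 1 = ((d - 1 : ℤ) : ℂ) by push_cast; rfl, Ne, Int.cast_eq_zero]
    intro h
    rw [show d = 1 by linarith] at hd4
    norm_num at hd4
  have qβ : qfun A.z (P.ind (PairTI.one_sub χ)) * ((d : ℂ) * ((d : ℂ) + 1)) = ((d : ℂ) - a) ^ 2 := by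
    rw [show P.ind (PairTI.one_sub χ) = Fs 0 + S + Q from e1, qfun_add, qfun_add, hq1, qfun_sg A.z hS,
      qfun_sg A.z hQ, hd, k1, k2, ← ha, show -1 - (d : ℂ) = -((d : ℂ) + 1) by ring, div_neg]
    field_simp
    ring
  have qψ : qfun A.z (A.psi w0) * ((d : ℂ) * ((d : ℂ) - 1)) = ((d : ℂ) - a) ^ 2 := by
    rw [show A.psi w0 = Fs 0 - S + Z from e3, qfun_add, qfun_sub, hq1, qfun_sg A.z hS,
      qfun_sg A.z hZ, hd, k3, k4, ← ha]
    field_simp
    ring
  -- the two values
  have hu : χ (P.θ u₀) ≠ 1 := fun h => hu₀ (hχ (h.trans (map_one χ).symm))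
  have vβ := P.qfun_ind A.hz A.conj χ hu hu₀i
  have vψ := A.qfun_psi w0_zero
  rw [w0_two] at vψ
  have hC : (Nat.card (centralizer ({A.z} : Set G)) : ℂ) ≠ 0 := by exact_mod_cast Nat.card_pos.ne'
  have hm0 : (A.D.m : ℂ) ≠ 0 := by exact_mod_cast A.D.m_pos.ne'
  have ho0 : (A.o : ℂ) ≠ 0 := by exact_mod_cast A.odd_o.pos.ne'
  have hXpos : 0 < A.D.m * (2 * A.o * p' * O) := hX ▸ Nat.card_pos
  have hp0 : p' ≠ 0 := fun h => by simp [h] at hXpos
  have hO0 : O ≠ 0 := fun h => by simp [h] at hXpos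
  rw [hout, hX] at vβ
  push_cast at vβ
  have hpC : (p' : ℂ) ≠ 0 := by exact_mod_cast hp0
  have hOC : (O : ℂ) ≠ 0 := by exact_mod_cast hO0
  rw [show ((A.D.m : ℂ) * (2 * A.o * p')) ^ 2 / ((A.D.m : ℂ) * (2 * A.o * p' * O)) =
    2 * A.D.m * A.o * p' / O by field_simp] at vβ
  have key : 4 * (A.D.m : ℂ) * p' * ((d : ℂ) + 1) = (A.D.k : ℂ) * O * ((d : ℂ) - 1) := by
    have h5 : (Nat.card (centralizer ({A.z} : Set G)) : ℂ) ^ 2 * (d : ℂ) * (A.o : ℂ) *
        ((2 * A.D.m * p' / O) * ((d : ℂ) + 1) - (A.D.k : ℂ) / 2 * ((d : ℂ) - 1)) = 0 := by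
      linear_combination (Nat.card G : ℂ) * qβ - (Nat.card G : ℂ) * qψ - ((d : ℂ) * ((d : ℂ) + 1)) * vβ +
        ((d : ℂ) * ((d : ℂ) - 1)) * vψ
    have h6 := (mul_eq_zero.1 h5).resolve_left (mul_ne_zero (mul_ne_zero (pow_ne_zero _ hC) hd0) ho0)
    field_simp at h6
    linear_combination h6
  have keyZ : 4 * (A.D.m : ℤ) * p' * (d + 1) = (A.D.k : ℤ) * O * (d - 1) := by exact_mod_cast key
  have hk : (A.D.k : ℤ) ≤ Nat.card F + 1 ∧ (Nat.card F : ℤ) - 1 ≤ 2 * A.D.m := by
    obtain ⟨j, hj⟩ := A.D.odd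
    have h := A.D.outer_eq
    have hk : A.D.k = invCard (Nat.card F) := rfl
    unfold invCard at hk
    unfold outerCard at h
    constructor <;> split_ifs at h hk <;> omega
  obtain ⟨hk1, hk2⟩ := hk
  generalize (A.D.m : ℤ) = m at keyZ hk2 ⊢
  generalize (A.D.k : ℤ) = k at keyZ hk1
  generalize hqq : (Nat.card F : ℤ) = q at hq' hdq hk1 hk2
  rcases hshape with ⟨rfl, rfl⟩ | ⟨hp5, hOp, hm5⟩
  · push_cast at keyZ
    rcases le_or_gt 0 d with hdp | hdn
    · rw [abs_of_nonneg hdp] at hdq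
      nlinarith
    · rw [abs_of_neg hdn] at hdq
      nlinarith
  · have hp5' : (5 : ℤ) ≤ p' := by exact_mod_cast hp5
    have hOp' : (O : ℤ) ≤ p' + 1 := by exact_mod_cast hOp
    have hO1 : (1 : ℤ) ≤ O := by exact_mod_cast Nat.pos_of_ne_zero hO0
    have hmq : 9 ≤ q := by
      have hk' := A.D.outer_eq
      obtain ⟨j, hj⟩ := A.D.odd
      unfold outerCard at hk'
      split_ifs at hk' <;> omega
    rcases le_or_gt 0 d with hdp | hdn
    · rw [abs_of_nonneg hdp] at hdq
      have h1 : k * O ≤ 4 * m * p' := by nlinarith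
      nlinarith
    · rw [abs_of_neg hdn] at hdq
      have h1 : k * O ≤ (q + 1) * (p' + 1) := by
        have hkO : k * O ≤ (q + 1) * O := mul_le_mul_of_nonneg_right hk1 (by linarith)
        nlinarith
      have h2 : 2 * (q - 1) * p' ≤ 4 * m * p' := by nlinarith
      have h3 : 2 * (q - 1) * p' * (-d - 1) ≤ (q + 1) * (p' + 1) * (-d + 1) := by
        calc 2 * (q - 1) * p' * (-d - 1) ≤ 4 * m * p' * (-d - 1) := mul_le_mul_of_nonneg_right h2 (by linarith)
          _ = k * O * (-d + 1) := by linarith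
          _ ≤ _ := mul_le_mul_of_nonneg_right h1 (by linarith)
      -- `(v+1)/(v-1) ≤ 9/7` and `(p'+1)/p' ≤ 6/5`
      have h4 : 7 * (-d + 1) ≤ 9 * (-d - 1) := by linarith
      have h5 : 5 * ((p' : ℤ) + 1) ≤ 6 * p' := by linarith
      have h6 : 35 * ((q + 1) * (p' + 1) * (-d + 1)) ≤ 54 * ((q + 1) * p' * (-d - 1)) := by
        calc 35 * ((q + 1) * (p' + 1) * (-d + 1)) = (q + 1) * ((5 * ((p' : ℤ) + 1)) * (7 * (-d + 1))) := by ring
          _ ≤ (q + 1) * ((6 * p') * (9 * (-d - 1))) := mul_le_mul_of_nonneg_left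
              (mul_le_mul h5 h4 (by linarith) (by linarith)) (by linarith)
          _ = _ := by ring
      have h7 : 0 < (p' : ℤ) * (-d - 1) := mul_pos (by linarith) (by linarith)
      nlinarith

end Setup

end CfsgLib.OddCyc
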