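import Cfsg.Agent.Lib.OddCyc.ThreeLocal
import Cfsg.Agent.Lib.OddCyc.CharTools

/-!
# The case of three elements in the field
-/

set_option autoImplicit false
set_option linter.unusedSectionVars false
set_option linter.style.haveILetI false

open scoped ComplexConjugate

namespace CfsgLib.OddCyc

open Subgroup Cfsg CfsgLib.Perm.Dickson CfsgLib.GW CfsgLib.Char CfsgLib.Char.Signed CfsgLib.Char.GramSearch

universe u

namespace Setup

variable {G : Type u} [Group G] [Finite G] {F : Type} [Field F] [Fintype F] (A : Setup G F)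
  (hq : Fintype.card F = 3)

include hq in
/-- the involutions of the centraliser outside the linear part -/
theorem card_out_three :
    Nat.card {y : G // y ∈ centralizer {A.z} ∧ orderOf y = 2 ∧ y ∉ A.lin} = 12 * A.o := by
  classical
  have h12 : Nat.card {a // A.D.IsOuter a} = 12 := by
    rw [A.D.card_outer, Nat.card_eq_fintype_card, hq, (A.D.m_k_three hq).2]
  rw [← A.card_core, ← h12, ← Nat.card_prod]
  choose s hs using fun a : {a // A.D.IsOuter a} => A.exists_lift a.2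
  refine (Nat.card_eq_of_bijective (fun q : {a // A.D.IsOuter a} × A.core =>
    (⟨(s q.1 : G) * q.2, ?_⟩ : {y : G // y ∈ centralizer {A.z} ∧ orderOf y = 2 ∧ y ∉ A.lin})) ⟨?_, ?_⟩).symm
  · obtain ⟨h1, h2, h3⟩ := hs q.1
    obtain ⟨hk, hk1⟩ := A.mem_core.1 q.2.2
    have hsn : ((s q.1 : G)) ∉ A.lin := fun h => h2 (Subtype.ext (A.lin_invol h (by rw [Subgroup.orderOf_coe, h1])))
    refine ⟨mul_mem (s q.1).2 hk, ?_, fun h => hsn ((Subgroup.mul_mem_cancel_right _ (A.core_le_lin q.2.2)).1 h)⟩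
    have hinv := A.out_inv_core (s q.1).2 hsn q.2.2
    have hss : (s q.1 : G) * (s q.1 : G) = 1 := mul_self_of_order_two (by rw [Subgroup.orderOf_coe, h1])
    rw [inv_eq_of_mul_eq_one_right hss] at hinv
    refine orderOf_eq_prime ?_ fun h => hsn ?_
    · rw [sq, ← mul_assoc, hinv, inv_mul_cancel]
    · rw [eq_inv_of_mul_eq_one_left h]
      exact inv_mem (A.core_le_lin q.2.2)
  · rintro ⟨a, k⟩ ⟨b, l⟩ h
    have h0 : (s a : G) * k = (s b : G) * l := congrArg Subtype.val h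
    obtain ⟨hk, hk1⟩ := A.mem_core.1 k.2
    obtain ⟨hl, hl1⟩ := A.mem_core.1 l.2
    have h1 := congrArg A.p (show s a * ⟨k, hk⟩ = s b * ⟨l, hl⟩ from Subtype.ext h0)
    rw [map_mul, map_mul, hk1, hl1, mul_one, mul_one, (hs a).2.2, (hs b).2.2] at h1
    obtain rfl : a = b := Subtype.ext h1
    exact Prod.ext rfl (Subtype.ext (mul_left_cancel h0))
  · rintro ⟨y, hyC, hy2, hyl⟩
    have hout := A.isOuter_p (t := ⟨y, hyC⟩) (by rw [Subgroup.orderOf_mk, hy2])
      fun h => hyl (by rw [show y = A.z from congrArg Subtype.val h]; exact A.z_mem_lin)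
    set a : {a // A.D.IsOuter a} := ⟨A.p ⟨y, hyC⟩, hout⟩ with ha
    refine ⟨(a, ⟨(s a : G)⁻¹ * y, A.mem_core.2 ⟨mul_mem (inv_mem (s a).2) hyC, ?_⟩⟩),
      Subtype.ext (mul_inv_cancel_left _ _)⟩
    rw [show (⟨(s a : G)⁻¹ * y, _⟩ : ↥(centralizer {A.z})) = (s a)⁻¹ * ⟨y, hyC⟩ from rfl, map_mul, map_inv,
      (hs a).2.2, ha]
    exact inv_mul_cancel _

include hq in
/-- the pair of the linear part -/
theorem exists_pair_three : ∃ (Λ : Type u) (_ : CommGroup Λ) (_ : Finite Λ) (_ : IsCyclic Λ) (P : PairTI G Λ),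
    5 ≤ Nat.card Λ ∧ P.X = A.lin ∧ P.N = centralizer {A.z} ∧ (∃ u : P.X, (u : G) ∈ A.core ∧ P.θ u ≠ 1) ∧
    (∀ g x : G, P.Sp (g⁻¹ * x * g) → x ^ (orderOf x / 2) = A.z → 2 ∣ orderOf x → g ∈ P.N) := by
  classical
  obtain ⟨r, hr, hr2, hrd, n, hn5, hnd⟩ : ∃ r : ℕ, r.Prime ∧ r ≠ 2 ∧ r ∣ A.o ∧ ∃ n, 5 ≤ r ^ n ∧
      r ^ n ∣ A.o * 24 := by
    have ho := A.odd_o
    by_cases h3 : 3 ∣ A.o
    · refine ⟨3, Nat.prime_three, by norm_num, h3, 2, by norm_num, ?_⟩
      obtain ⟨c, hc⟩ := h3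
      exact ⟨8 * c, by rw [hc]; ring⟩
    · have h1 := A.o_ne_one hq
      have hp := Nat.minFac_prime h1
      have hd := Nat.minFac_dvd A.o
      have h2 : A.o.minFac ≠ 2 := fun h => Nat.not_even_iff_odd.2 ho (even_iff_two_dvd.2 (h ▸ hd))
      refine ⟨_, hp, h2, hd, 1, ?_, by rw [pow_one]; exact hd.mul_right 24⟩
      rw [pow_one]
      have h3' : A.o.minFac ≠ 3 := fun h => h3 (h ▸ hd)
      have := hp.two_le
      have hodd := ho.of_dvd_nat hd
      rw [Nat.odd_iff] at hodd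
      omega
  haveI := Fact.mk hr
  obtain ⟨x', hx'⟩ := exists_prime_orderOf_dvd_card' r (G := A.core) (by rwa [A.card_core])
  set x₀ : G := (x' : G)
  have hx₀o : orderOf x₀ = r := by rw [Subgroup.orderOf_coe, hx']
  have hx₀ : x₀ ∈ A.core := x'.2
  have hx₀1 : x₀ ≠ 1 := fun h => hr.ne_one (by rw [← hx₀o, h, orderOf_one])
  obtain ⟨ht, -⟩ := A.t₀_spec
  obtain ⟨Λ, hc, hf, hcy, θ, hθs, hodd, hcard, hθx, hsupp, hinv⟩ := exists_theta A.hG A.lin hr hr2
    (A.core_le_lin hx₀) hx₀o (fun x hx => A.lin_comm_core hx hx₀) (t := A.t₀)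
    (fun x hx => A.conj_lin ht hx) (by rw [A.t₀_sq]; exact one_mem _) (A.inv_core hx₀) (n := n)
    (by rwa [A.card_lin hq])
  have key : ∀ x ∈ A.lin, ∀ g : G, g * x₀ * g⁻¹ ∈ zpowers x₀ → g * x * g⁻¹ ∈ A.lin := by
    intro x hx g hg
    have h1 : zpowers (g * x₀ * g⁻¹) = zpowers x₀ := Subgroup.eq_of_le_of_card_ge (zpowers_le.2 hg)
      (by rw [Nat.card_zpowers, Nat.card_zpowers, ← MulAut.conj_apply, MulEquiv.orderOf_eq])
    have h2 : Commute (g * x * g⁻¹) (g * x₀ * g⁻¹) := (A.lin_comm_core hx hx₀).map (MulAut.conj g).toMonoidHom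
    obtain ⟨i, hi⟩ := mem_zpowers_iff.1 (h1.symm ▸ mem_zpowers x₀ : x₀ ∈ zpowers (g * x₀ * g⁻¹))
    refine A.cent_core hq hx₀ hx₀1 ?_
    rw [← hi]
    exact h2.zpow_right i
  let P : PairTI G Λ :=
    { X := A.lin, N := centralizer {A.z}, le := A.lin_le, θ := θ, surj := hθs, odd := hodd, t := A.t₀,
      t_mem := ht, t_not := A.t₀_not_lin, two := fun g hg hn => A.mul_t₀_lin hg hn,
      inv := fun x => ⟨A.conj_lin ht x.2, hinv x⟩,
      ti := fun g x y hx hy hgxy => by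
        obtain ⟨i, hi⟩ := mem_zpowers_iff.1 (A.hG.central_mem_zpowers hr hr2 hx₀o
          (A.lin_comm_core x.2 hx₀) (hsupp x hx))
        have hg : g * x₀ * g⁻¹ ∈ zpowers x₀ := by
          refine A.hG.mem_zpowers_of_commute hr hr2 hx₀o ?_ ?_
          · rw [conj_pow, orderOf_dvd_iff_pow_eq_one.1 hx₀o.dvd, mul_one, mul_inv_cancel]
          · rw [← hi, ← conj_zpow, hgxy]
            exact (A.lin_comm_core y.2 hx₀).symm.zpow_right i |> fun h => by rwa [hi]
        refine A.commute_z.2 (mul_inv_eq_iff_eq_mul.1 ?_)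
        exact A.lin_invol (key _ A.z_mem_lin g hg) (by rw [← MulAut.conj_apply, MulEquiv.orderOf_eq, A.hz]) }
  refine ⟨Λ, hc, hf, hcy, P, hn5.trans hcard, rfl, rfl, ⟨⟨x₀, A.core_le_lin hx₀⟩, hx₀, hθx⟩, ?_⟩
  rintro g x ⟨hX, -⟩ hxz hev
  have hz : g⁻¹ * A.z * g ∈ A.lin := by
    have := pow_mem hX (orderOf x / 2)
    rwa [show g⁻¹ * x * g = g⁻¹ * x * g⁻¹⁻¹ by rw [inv_inv], conj_pow, hxz, inv_inv] at this
  have h := A.lin_invol hz (by rw [show g⁻¹ * A.z * g = MulAut.conj g⁻¹ A.z by simp, MulEquiv.orderOf_eq, A.hz])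
  refine A.commute_z.2 ?_
  calc g * A.z = g * (g⁻¹ * A.z * g) := by rw [h]
    _ = A.z * g := by group

/-- the exponent tells whether an element of `L` lies in the linear part -/
theorem mem_lin_of_lg {x : A.L} : (x : G) ∈ A.lin ↔ A.lg x = 0 ∨ A.lg x = 2 := by
  obtain ⟨hC, i, hp, hi⟩ := A.exists_pow x
  rw [show (x : G) = ((⟨x, hC⟩ : ↥(centralizer {A.z})) : G) from rfl, A.mem_lin, hp, A.D.e_pow_mem, hi]
  constructor
  · rintro ⟨l, rfl⟩
    push_cast
    generalize (l : ZMod 4) = v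
    revert v
    decide
  · intro h
    by_contra hne
    obtain ⟨l, rfl⟩ := Nat.not_even_iff_odd.1 hne
    push_cast at h
    revert h
    generalize (l : ZMod 4) = v
    revert v
    decide

include A hq in
/-- **the field does not have three elements** -/
theorem false_of_three [Fintype G] (hna : ∃ a b : G, a * b ≠ b * a) : False := by
  classical
  obtain ⟨Λ, hΛc, hΛf, hΛcyc, P, hΛ5, hPX, hPN, ⟨u₀, hu₀c, hu₀⟩, hloc⟩ := A.exists_pair_three hq
  haveI := Fintype.ofFinite Λ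
  haveI := Fintype.ofFinite A.L
  obtain ⟨χ, χ', hχ, hχ', h1, h1', h2, h2', hne, hne'⟩ := exists_two_chars P.odd hΛ5
  have hnotin : ∀ y ∈ P.N, y ∉ P.X → y * (u₀ : G) * y⁻¹ = (u₀ : G)⁻¹ := fun y hy hn =>
    A.out_inv_core (hPN ▸ hy) (hPX ▸ hn) hu₀c
  have hcross : ∀ (φ : Λ →* ℂˣ), φ (P.θ u₀) ≠ 1 → ∀ w : ZMod 4 → ℂ, w 0 = 0 → w 2 = 2 →
      classInner (A.psi w) (P.ind (PairTI.one_sub φ)) = 1 := by
    intro φ hφ w hw hw2
    set v := PairTI.one_sub φ with hvdef
    have hclass : IsClassFunction G (P.ind v) := isClassFunction_indFun _ _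
    change classInner (indFun A.L fun x => w (A.lg x)) (P.ind v) = _
    rw [classInner_indFun _ _ (P.ind v) hclass]
    simp only [classInner]
    let f : A.L → ℂ := fun x => P.ext v (x : G) + P.ext (PairTI.opp v) (x : G)
    have hterm : ∀ x : A.L, w (A.lg x) * conj (P.ind v (x : G)) =
        if A.lg x = 2 then 2 * conj (f x) else 0 := by
      intro x
      by_cases h0 : A.lg x = 0
      · rw [h0, hw, zero_mul, if_neg (by decide)]
      obtain ⟨hev, hxz⟩ := A.sp_even ⟨x.2, h0⟩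
      rw [P.ind_eq (PairTI.one_sub_one φ) fun g hg => hloc g x hg hxz hev]
      split_ifs with h
      · rw [h, hw2]
      · have hn : (x : G) ∉ P.X := fun hx => (A.mem_lin_of_lg.1 (hPX ▸ hx)).elim h0 h
        rw [P.ext_not_mem v hn, P.ext_not_mem (PairTI.opp v) hn, add_zero, map_zero, mul_zero]
    rw [Finset.sum_congr rfl fun x _ => hterm x, ← Finset.sum_filter]
    set S2 := Finset.univ.filter fun x : A.L => A.lg x = 2 with hS2
    have hmemX : ∀ x ∈ S2, (x : G) ∈ P.X := fun x hx =>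
      hPX ▸ A.mem_lin_of_lg.2 (Or.inr (Finset.mem_filter.1 hx).2)
    set χx : A.L → ℂ := fun x => if h : (x : G) ∈ P.X then (φ (P.θ ⟨x, h⟩) : ℂ) + (φ (P.θ ⟨x, h⟩)⁻¹ : ℂ) else 0
    have hf : ∀ x ∈ S2, conj (f x) = 2 - χx x := by
      intro x hx
      have hX := hmemX x hx
      show conj (P.ext v (x : G) + P.ext (PairTI.opp v) (x : G)) = _
      rw [P.ext_apply v hX, P.ext_apply (PairTI.opp v) hX]
      simp only [χx, dif_pos hX, hvdef, PairTI.opp, PairTI.one_sub, map_add, map_sub, map_one, conj_hom_apply,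
        inv_inv]
      ring
    -- the sum of the characters over the coset vanishes
    have hu₀L : (u₀ : G) ∈ A.L := by
      obtain ⟨h, hp⟩ := A.mem_core.1 hu₀c
      exact A.mem_pre.2 ⟨h, hp ▸ one_mem _⟩
    have hlgu : A.lg ⟨u₀, hu₀L⟩ = 0 := by
      obtain ⟨h, hp⟩ := A.mem_core.1 hu₀c
      simp only [lg, show A.toE ⟨u₀, hu₀L⟩ = 1 from Subtype.ext hp, map_one, toAdd_one]
    have hz1 : ∀ ψ : Λ →* ℂˣ, ψ (P.θ u₀) ≠ 1 →
        ∑ x ∈ S2, (if h : (x : G) ∈ P.X then (ψ (P.θ ⟨x, h⟩) : ℂ) else 0) = 0 := by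
      intro ψ hψ
      set g : A.L → ℂ := fun x => if h : (x : G) ∈ P.X then (ψ (P.θ ⟨x, h⟩) : ℂ) else 0
      have hshift : ∑ x ∈ S2, g (⟨u₀, hu₀L⟩ * x) = ∑ x ∈ S2, g x := by
        refine Finset.sum_equiv (Equiv.mulLeft ⟨u₀, hu₀L⟩) (fun x => ?_) (fun x _ => rfl)
        simp [hS2, lg_mul, hlgu]
      have hmul : ∀ x ∈ S2, g (⟨u₀, hu₀L⟩ * x) = (ψ (P.θ u₀) : ℂ) * g x := by
        intro x hx
        have hX := hmemX x hx
        have hX' : ((⟨u₀, hu₀L⟩ * x : A.L) : G) ∈ P.X := mul_mem u₀.2 hX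
        simp only [g, dif_pos hX, dif_pos hX']
        rw [show (⟨_, hX'⟩ : P.X) = u₀ * ⟨x, hX⟩ from rfl, map_mul, map_mul, Units.val_mul]
      rw [Finset.sum_congr rfl hmul, ← Finset.mul_sum] at hshift
      exact (mul_eq_zero.1 (show ((ψ (P.θ u₀) : ℂ) - 1) * ∑ x ∈ S2, g x = 0 by linear_combination hshift)).resolve_left
        (sub_ne_zero.2 fun hc => hψ (Units.ext hc))
    have hχsum : ∑ x ∈ S2, χx x = 0 := by
      have hinv' : φ⁻¹ (P.θ u₀) ≠ 1 := fun h => hφ (inv_eq_one.1 h)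
      rw [Finset.sum_congr rfl fun x hx => show χx x = (if h : (x : G) ∈ P.X then (φ (P.θ ⟨x, h⟩) : ℂ) else 0) +
        (if h : (x : G) ∈ P.X then (φ⁻¹ (P.θ ⟨x, h⟩) : ℂ) else 0) by
          simp only [χx, dif_pos (hmemX x hx), MonoidHom.inv_apply, map_inv],
        Finset.sum_add_distrib, hz1 φ hφ, hz1 φ⁻¹ hinv', add_zero]
    rw [Finset.sum_congr rfl fun x hx => by rw [hf x hx], ← Finset.mul_sum, Finset.sum_sub_distrib, hχsum, sub_zero,
      Finset.sum_const, nsmul_eq_mul]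
    have hcard : (S2.card : ℂ) * 4 = (Nat.card A.L : ℂ) := by
      rw [← A.card_lg 2]
      push_cast
      rw [Nat.card_eq_fintype_card, Fintype.card_subtype]
    have hL : (Nat.card A.L : ℂ) ≠ 0 := by exact_mod_cast Nat.card_pos.ne'
    rw [show (2 : ℂ) * ((S2.card : ℂ) * 2) = (S2.card : ℂ) * 4 by ring, hcard, inv_mul_cancel₀ hL]
  have hu : χ (P.θ u₀) ≠ 1 := fun h => hu₀ (hχ (h.trans (map_one χ).symm))
  have hu' : χ' (P.θ u₀) ≠ 1 := fun h => hu₀ (hχ' (h.trans (map_one χ').symm))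
  let Fs : ℕ → G → ℂ
    | 0 => fun _ => 1
    | 1 => P.ind (PairTI.one_sub χ)
    | 2 => P.ind (PairTI.one_sub χ')
    | 3 => A.psi w0
    | _ => A.psi w1
  have hgen : ∀ i < 5, Gen (Fs i) := by
    intro i hi
    interval_cases i
    · exact sg_one.gen
    · exact P.gen_ind χ
    · exact P.gen_ind χ'
    · exact A.gen_psi0
    · exact A.gen_psi1
  have hgram : ∀ i < 5, ∀ j ≤ i, iq (Fs i) (Fs j) = gThree i j := by
    intro i hi j hj
    refine iq_eq _ ?_
    interval_cases i <;> interval_cases j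
    · exact sg_one.2.trans (by norm_num [gThree])
    · exact (P.inner_ind_one χ h1).trans (by norm_num [gThree])
    · exact (P.inner_ind χ χ h1 h1).trans (by rw [if_pos rfl, if_neg h2]; norm_num [gThree])
    · exact (P.inner_ind_one χ' h1').trans (by norm_num [gThree])
    · exact (P.inner_ind χ' χ h1' h1).trans (by
        rw [if_neg (Ne.symm hne), if_neg (fun h => hne' ((mul_comm χ χ').trans h))]; norm_num [gThree])
    · exact (P.inner_ind χ' χ' h1' h1').trans (by rw [if_pos rfl, if_neg h2']; norm_num [gThree])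
    · exact A.psi0_one.trans (by norm_num [gThree])
    · exact (hcross χ hu w0 w0_zero w0_two).trans (by norm_num [gThree])
    · exact (hcross χ' hu' w0 w0_zero w0_two).trans (by norm_num [gThree])
    · exact A.psi0_psi0.trans (by norm_num [gThree])
    · exact A.psi1_one.trans (by norm_num [gThree])
    · exact (hcross χ hu w1 w1_zero w1_two).trans (by norm_num [gThree])
    · exact (hcross χ' hu' w1 w1_zero w1_two).trans (by norm_num [gThree])
    · exact A.psi1_psi0.trans (by norm_num [gThree])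
    · exact A.psi1_psi1.trans (by norm_num [gThree])
  obtain ⟨W, Q, X, D, E, ⟨hW, hQ, hX, hD, hE⟩, h0W, h0Q, e1, e3, e4⟩ := decomp_three Fs rfl hgen hgram
  obtain ⟨a, ha0, ha⟩ := hW.apply_one_int
  obtain ⟨b, hb0, hb⟩ := hX.apply_one_int
  have hzz : A.z * A.z = 1 := A.z_sq'
  set w := W A.z with hwdef
  set r := X A.z with hrdef
  have f1 : ∀ x : G, x * x = 1 → W x + Q x = -1 ∧ X x + D x = -1 ∧ W x + X x + E x = 0 := by
    intro x hx
    have k1 := congrFun e1 x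
    have k3 := congrFun e3 x
    have k4 := congrFun e4 x
    rw [show Fs 1 x = 0 from P.ind_sq_one (PairTI.one_sub_one χ) hx] at k1
    rw [show Fs 3 x = 0 from A.psi_sq_one w0_zero hx] at k3
    rw [show Fs 4 x = 0 from A.psi_sq_one w1_zero hx] at k4
    simp only [Pi.add_apply, show Fs 0 x = 1 from rfl] at k1 k3 k4
    exact ⟨by linear_combination -k1, by linear_combination -k3, by linear_combination -k4⟩
  obtain ⟨hQ1, hD1, hE1⟩ := f1 1 (one_mul 1)
  obtain ⟨hQz, hDz', hEz⟩ := f1 A.z hzz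
  rw [ha] at hQ1 hE1
  rw [hb] at hD1 hE1
  have hQ0 : (a : ℂ) + 1 ≠ 0 := fun h => hQ.apply_one_ne (by linear_combination hQ1 - h)
  have hD0 : (b : ℂ) + 1 ≠ 0 := fun h => hD.apply_one_ne (by linear_combination hD1 - h)
  have hE0 : (a : ℂ) + b ≠ 0 := fun h => hE.apply_one_ne (by linear_combination hE1 - h)
  have hA0 : (a : ℂ) ≠ 0 := by exact_mod_cast ha0
  have hB0 : (b : ℂ) ≠ 0 := by exact_mod_cast hb0
  have hq1 : qfun A.z (Fs 0) = 1 := by
    show qfun A.z (fun _ => (1 : ℂ)) = 1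
    rw [qfun_sg A.z sg_one]; norm_num
  have q1 : qfun A.z (P.ind (PairTI.one_sub χ)) * ((a : ℂ) * ((a : ℂ) + 1)) = ((a : ℂ) - w) ^ 2 := by
    rw [show P.ind (PairTI.one_sub χ) = Fs 0 + W + Q from e1, qfun_add, qfun_add, hq1, qfun_sg A.z hW,
      qfun_sg A.z hQ, ha, ← hwdef, show Q 1 = -((a : ℂ) + 1) by linear_combination hQ1,
      show Q A.z = -(1 + w) by linear_combination hQz, div_neg]
    field_simp
    ring
  have q3 : qfun A.z (A.psi w0) * ((b : ℂ) * ((b : ℂ) + 1)) = ((b : ℂ) - r) ^ 2 := by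
    rw [show A.psi w0 = Fs 0 + X + D from e3, qfun_add, qfun_add, hq1, qfun_sg A.z hX,
      qfun_sg A.z hD, hb, ← hrdef, show D 1 = -((b : ℂ) + 1) by linear_combination hD1,
      show D A.z = -(1 + r) by linear_combination hDz', div_neg]
    field_simp
    ring
  have q4 : qfun A.z (A.psi w1) * ((a : ℂ) * b * ((a : ℂ) + b)) = ((b : ℂ) * w - a * r) ^ 2 := by
    rw [show A.psi w1 = W + X + E from e4, qfun_add, qfun_add, qfun_sg A.z hW,
      qfun_sg A.z hX, qfun_sg A.z hE, ha, hb, ← hwdef, ← hrdef, show E 1 = -((a : ℂ) + b) by linear_combination hE1,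
      show E A.z = -(w + r) by linear_combination hEz, div_neg]
    field_simp
    ring
  -- the values
  have vα := P.qfun_ind A.hz A.conj χ hu hnotin
  have v3 := A.qfun_psi w0_zero
  have v4 := A.qfun_psi w1_zero
  rw [w0_two] at v3
  rw [w1_two] at v4
  have hnOut : P.nOut = 12 * A.o := by
    rw [PairTI.nOut, hPN, hPX]
    exact A.card_out_three hq
  have hXc : Nat.card P.X = A.o * 24 := by rw [hPX, A.card_lin hq]
  rw [hnOut, hXc] at vα
  rw [(A.D.m_k_three hq).2] at v3 v4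
  push_cast at vα v3 v4
  have hC : (Nat.card (centralizer ({A.z} : Set G)) : ℂ) ≠ 0 := by exact_mod_cast Nat.card_pos.ne'
  have ho0 : (A.o : ℂ) ≠ 0 := by exact_mod_cast A.odd_o.pos.ne'
  have hg0 : (Nat.card G : ℂ) ≠ 0 := by exact_mod_cast Nat.card_pos.ne'
  set K : ℂ := (Nat.card (centralizer ({A.z} : Set G)) : ℂ) ^ 2 * (2 * A.o) / Nat.card G with hK
  have hK0 : K ≠ 0 := div_ne_zero (mul_ne_zero (pow_ne_zero _ hC) (mul_ne_zero two_ne_zero ho0)) hg0
  have u1 : ((a : ℂ) - w) ^ 2 = 3 * K * a * (a + 1) := by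
    rw [← q1, hK]
    field_simp
    field_simp at vα
    linear_combination vα / 24
  have u3 : ((b : ℂ) - r) ^ 2 = K * b * (b + 1) := by
    rw [← q3, hK]
    field_simp
    linear_combination v3
  have u4 : ((b : ℂ) * w - a * r) ^ 2 = K * a * b * (a + b) := by
    rw [← q4, hK]
    field_simp
    linear_combination v4
  have hUV : ((a : ℂ) - w) * ((b : ℂ) - r) = K * b * (2 * a + 1) := by
    have h : 2 * (a : ℂ) * b * (((a : ℂ) - w) * ((b : ℂ) - r) - K * b * (2 * a + 1)) = 0 := by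
      linear_combination (a : ℂ) ^ 2 * u3 + (b : ℂ) ^ 2 * u1 - u4
    exact sub_eq_zero.1 ((mul_eq_zero.1 h).resolve_left (mul_ne_zero (mul_ne_zero two_ne_zero hA0) hB0))
  have key : 3 * (a : ℂ) * (a + 1) * (b + 1) = b * (2 * a + 1) ^ 2 := by
    have h : K ^ 2 * b * (3 * (a : ℂ) * (a + 1) * (b + 1) - b * (2 * a + 1) ^ 2) = 0 := by
      linear_combination -((b : ℂ) - r) ^ 2 * u1 - (3 * K * a * (a + 1)) * u3 +
        (((a : ℂ) - w) * ((b : ℂ) - r) + K * b * (2 * a + 1)) * hUV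
    exact sub_eq_zero.1 ((mul_eq_zero.1 h).resolve_left (mul_ne_zero (pow_ne_zero _ hK0) hB0))
  have keyZ : 3 * a * (a + 1) * (b + 1) = b * (2 * a + 1) ^ 2 := by exact_mod_cast key
  have hT : a * (a + 1) + 1 ∣ 3 := ⟨3 - b, by linear_combination -keyZ⟩
  have ha1 : a ≠ 1 := fun h => no_linear A.simple hna hW h0W (by rw [ha, h]; norm_num)
  have ha2 : a ≠ -2 := fun h => no_linear A.simple hna hQ h0Q (by
    rw [show Q 1 = -1 - (a : ℂ) by linear_combination hQ1, h]; norm_num)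
  have ha3 : a ≠ -1 := fun h => hQ0 (by rw [h]; norm_num)
  have h3 : a * (a + 1) + 1 ≤ 3 := Int.le_of_dvd (by norm_num) hT
  have hlo : -2 ≤ a := by nlinarith
  have hhi : a ≤ 1 := by nlinarith
  interval_cases a <;> omega

end Setup

end CfsgLib.OddCyc
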