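import Cfsg.Agent.Lib.OddCyc.Local
import Cfsg.Agent.Lib.Char.SignedIrr

/-!
# The generalized characters supported on the elements with the involution as a power
-/

set_option autoImplicit false
set_option linter.unusedSectionVars false
set_option linter.style.haveILetI false

open scoped ComplexConjugate

namespace CfsgLib.OddCyc

open Subgroup Cfsg CfsgLib.Char CfsgLib.Char.Signed

universe u

theorem card_isConj_mul_centralizer {G : Type*} [Group G] [Finite G] (z : G) :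
    Nat.card {x : G // IsConj z x} * Nat.card (centralizer ({z} : Set G)) = Nat.card G := by
  have h := (MulAction.stabilizer (ConjAct G) z).card_mul_index
  rw [MulAction.index_stabilizer, Nat.card_congr ConjAct.ofConjAct.toEquiv,
    ConjAct.stabilizer_eq_centralizer] at h
  rw [← h, mul_comm]
  congr 1
  rw [← Nat.card_coe_set_eq]
  refine Nat.card_congr (Equiv.subtypeEquivRight fun x => ?_)
  rw [ConjAct.mem_orbit_conjAct, isConj_comm]

namespace Setup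

variable {G : Type u} [Group G] [Finite G] {F : Type} [Field F] [Fintype F] (A : Setup G F)

/-- the subgroup of `G` pre a subgroup of the frame -/
noncomputable def pre (K : Subgroup (↥(centralizer {A.z}) ⧸ Cfsg.oddCore ↥(centralizer {A.z}))) : Subgroup G :=
  (K.comap A.p).map (centralizer {A.z}).subtype

theorem mem_pre {K : Subgroup (↥(centralizer {A.z}) ⧸ Cfsg.oddCore ↥(centralizer {A.z}))} {x : G} :
    x ∈ A.pre K ↔ ∃ h : x ∈ centralizer {A.z}, A.p ⟨x, h⟩ ∈ K := by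
  constructor
  · rintro ⟨v, hv, rfl⟩
    exact ⟨v.2, hv⟩
  · rintro ⟨h, hK⟩
    exact ⟨⟨x, h⟩, hK, rfl⟩

theorem coe_mem_pre {K : Subgroup (↥(centralizer {A.z}) ⧸ Cfsg.oddCore ↥(centralizer {A.z}))}
    {x : ↥(centralizer {A.z})} : (x : G) ∈ A.pre K ↔ A.p x ∈ K := by
  rw [A.mem_pre]
  exact ⟨fun ⟨_, h⟩ => h, fun h => ⟨x.2, h⟩⟩

theorem card_pre (K : Subgroup (↥(centralizer {A.z}) ⧸ Cfsg.oddCore ↥(centralizer {A.z}))) :
    Nat.card (A.pre K) = A.o * Nat.card K := by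
  rw [pre, Subgroup.card_map_of_injective (Subgroup.subtype_injective _)]
  have h1 := (A.p.subgroupComap K).ker.card_mul_index
  rw [Subgroup.index_ker, MonoidHom.range_eq_top.2 (fun y => by
    obtain ⟨x, hx⟩ := A.p_surj y.1
    exact ⟨⟨x, by rw [Subgroup.mem_comap, hx]; exact y.2⟩, Subtype.ext hx⟩), Subgroup.card_top] at h1
  rw [← h1]
  congr 1
  rw [show (A.p.subgroupComap K).ker = A.p.ker.subgroupOf (K.comap A.p) by
    ext x; exact ⟨fun h => congrArg Subtype.val h, fun h => Subtype.ext h⟩,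
    Nat.card_congr (Subgroup.subgroupOfEquivOfLe (Subgroup.ker_le_comap _ _)).toEquiv, p_ker]
  rfl

/-- the subgroup pre the cyclic group -/
noncomputable def L : Subgroup G := A.pre (zpowers A.D.e)

/-- its normaliser -/
noncomputable def N : Subgroup G := A.pre (normalizer (zpowers A.D.e : Set _))

theorem not_dvd_one : ¬ A.D.k ∣ 1 := fun h => by
  have := Nat.le_of_dvd one_pos (A.D.four_dvd_k.trans h)
  omega

theorem normalizer_cases {v : ↥(centralizer {A.z}) ⧸ Cfsg.oddCore ↥(centralizer {A.z})}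
    (hv : v ∈ normalizer (zpowers A.D.e : Set _)) :
    v ∈ zpowers A.D.e ∨ ∃ x ∈ zpowers A.D.e, v = A.D.τ * x :=
  A.D.mem_of_conj (i := 1) A.not_dvd_one
    (by rw [pow_one]; exact (Subgroup.mem_normalizer_iff.1 hv _).1 (Subgroup.mem_zpowers _))

theorem τ_mem_normalizer : A.D.τ ∈ normalizer (zpowers A.D.e : Set _) := by
  refine mem_normalizer_iff_map_conj_eq.2 ?_
  rw [MonoidHom.map_zpowers]
  refine Subgroup.eq_of_le_of_card_ge (zpowers_le.2 ?_) (le_of_eq ?_)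
  · rw [MonoidHom.coe_coe, MulAut.conj_apply, A.D.conj_e]
    exact mul_mem (A.D.e_pow_k ▸ pow_mem (Subgroup.mem_zpowers _) _) (inv_mem (Subgroup.mem_zpowers _))
  · rw [Nat.card_zpowers, Nat.card_zpowers, MonoidHom.coe_coe, MulEquiv.orderOf_eq]

theorem L_le_N : A.L ≤ A.N := Subgroup.map_mono (Subgroup.comap_mono Subgroup.le_normalizer)

theorem card_L : Nat.card A.L = A.o * (2 * A.D.k) := by
  rw [L, A.card_pre, Nat.card_zpowers, A.D.ord_e]

theorem card_N : Nat.card A.N = 2 * Nat.card A.L := by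
  rw [N, L, A.card_pre, A.card_pre]
  have hidx : ((zpowers A.D.e).subgroupOf (normalizer (zpowers A.D.e : Set _))).index = 2 := by
    rw [Subgroup.index_eq_two_iff]
    refine ⟨⟨A.D.τ, A.τ_mem_normalizer⟩, fun b => ?_⟩
    rcases A.normalizer_cases b.2 with h | ⟨x, hx, hb⟩
    · exact Or.inr ⟨h, fun hh => A.D.τ_not_mem ((Subgroup.mul_mem_cancel_left _ h).1 hh)⟩
    · refine Or.inl ⟨?_, fun hh => A.D.τ_not_mem ?_⟩
      · show (b : _) * A.D.τ ∈ zpowers A.D.e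
        rw [hb, show A.D.τ * x * A.D.τ = A.D.τ * x * A.D.τ⁻¹ by rw [A.D.τ_inv]]
        exact (Subgroup.mem_normalizer_iff.1 A.τ_mem_normalizer x).1 hx
      · exact (Subgroup.mul_mem_cancel_right _ hx).1 (hb ▸ hh)
  have h := ((zpowers A.D.e).subgroupOf (normalizer (zpowers A.D.e : Set _))).card_mul_index
  rw [hidx, Nat.card_congr (Subgroup.subgroupOfEquivOfLe Subgroup.le_normalizer).toEquiv] at h
  rw [← h]
  ring

/-- the exponent modulo four -/
noncomputable def lgE : zpowers A.D.e →* Multiplicative (ZMod 4) :=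
  monoidHomOfForallMemZpowers (g := (⟨A.D.e, Subgroup.mem_zpowers _⟩ : zpowers A.D.e))
    (g' := Multiplicative.ofAdd (1 : ZMod 4))
    (fun x => by
      obtain ⟨i, hi⟩ := mem_zpowers_iff.1 x.2
      exact mem_zpowers_iff.2 ⟨i, Subtype.ext (by simpa using hi)⟩)
    (by
      refine orderOf_dvd_of_pow_eq_one ?_
      obtain ⟨a, ha⟩ := A.D.four_dvd_k
      rw [Subgroup.orderOf_mk, A.D.ord_e, ha, ← ofAdd_nsmul, nsmul_eq_mul, mul_one]
      rw [show ((2 * (4 * a) : ℕ) : ZMod 4) = ((4 : ℕ) : ZMod 4) * (2 * a) by push_cast; ring,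
        ZMod.natCast_self, zero_mul, ofAdd_zero])

theorem lgE_pow (i : ℕ) :
    A.lgE ⟨A.D.e ^ i, pow_mem (Subgroup.mem_zpowers _) i⟩ = Multiplicative.ofAdd (i : ZMod 4) := by
  rw [show (⟨A.D.e ^ i, pow_mem (Subgroup.mem_zpowers _) i⟩ : zpowers A.D.e) =
    (⟨A.D.e, Subgroup.mem_zpowers _⟩ : zpowers A.D.e) ^ i from Subtype.ext (by simp), map_pow, lgE,
    monoidHomOfForallMemZpowers_apply_gen, ← ofAdd_nsmul, nsmul_eq_mul, mul_one]

/-- the map onto the cyclic group -/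
noncomputable def toE : A.L →* zpowers A.D.e where
  toFun x := ⟨A.p ⟨x, (A.mem_pre.1 x.2).1⟩, (A.mem_pre.1 x.2).2⟩
  map_one' := Subtype.ext (map_one A.p)
  map_mul' a b := Subtype.ext (map_mul A.p ⟨a.1, (A.mem_pre.1 a.2).1⟩ ⟨b.1, (A.mem_pre.1 b.2).1⟩)

theorem toE_apply (x : A.L) {h : (x : G) ∈ centralizer {A.z}} : (A.toE x : _) = A.p ⟨x, h⟩ := rfl

/-- the exponent on `L` -/
noncomputable def lg (x : A.L) : ZMod 4 := Multiplicative.toAdd (A.lgE (A.toE x))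

theorem lg_mul (x y : A.L) : A.lg (x * y) = A.lg x + A.lg y := by
  simp only [lg, map_mul, toAdd_mul]

theorem lg_one : A.lg 1 = 0 := by simp only [lg, map_one, toAdd_one]

theorem lg_inv (x : A.L) : A.lg x⁻¹ = -A.lg x := by simp only [lg, map_inv, toAdd_inv]

theorem exists_pow (x : A.L) :
    ∃ (h : (x : G) ∈ centralizer {A.z}) (i : ℕ), A.p ⟨x, h⟩ = A.D.e ^ i ∧ A.lg x = i := by
  obtain ⟨h, hx⟩ := A.mem_pre.1 x.2
  obtain ⟨i, hi⟩ := mem_powers_iff_mem_zpowers.2 hx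
  refine ⟨h, i, hi.symm, ?_⟩
  rw [lg, show A.toE x = ⟨A.D.e ^ i, pow_mem (Subgroup.mem_zpowers _) i⟩ from Subtype.ext hi.symm,
    lgE_pow, toAdd_ofAdd]

theorem not_dvd_of_lg {x : A.L} (hx : A.lg x ≠ 0) {i : ℕ} (hi : A.lg x = i) : ¬ A.D.k ∣ i := fun h =>
  hx (by rw [hi, ZMod.natCast_eq_zero_iff _ 4]; exact A.D.four_dvd_k.trans h)

/-- the elements with non-zero exponent -/
def Sp (x : G) : Prop := ∃ h : x ∈ A.L, A.lg ⟨x, h⟩ ≠ 0

theorem sp_inv {x : G} (h : A.Sp x) : A.Sp x⁻¹ := by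
  obtain ⟨hL, hne⟩ := h
  refine ⟨inv_mem hL, ?_⟩
  rw [show (⟨x⁻¹, inv_mem hL⟩ : A.L) = (⟨x, hL⟩ : A.L)⁻¹ from rfl, lg_inv, neg_ne_zero]
  exact hne

theorem sp_even {x : G} (h : A.Sp x) : 2 ∣ orderOf x ∧ x ^ (orderOf x / 2) = A.z := by
  obtain ⟨hL, hne⟩ := h
  obtain ⟨hC, i, hp, hi⟩ := A.exists_pow ⟨x, hL⟩
  have hk := A.not_dvd_of_lg hne hi
  obtain ⟨a, ha⟩ := A.D.four_dvd_k
  have hev : 2 ∣ orderOf x := by
    by_contra hodd
    refine hne ?_
    have h1 : A.D.e ^ (i * orderOf x) = 1 := by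
      rw [pow_mul, ← hp, ← map_pow, show (⟨x, hC⟩ : ↥(centralizer {A.z})) ^ orderOf x = 1 from
        Subtype.ext (by simp [pow_orderOf_eq_one]), map_one]
    have h2 := A.D.e_pow_eq_one.1 h1
    rw [ha] at h2
    rw [hi, ZMod.natCast_eq_zero_iff _ 4]
    refine (Nat.Coprime.pow_left 2 (Nat.prime_two.coprime_iff_not_dvd.2 hodd)).dvd_of_dvd_mul_right ?_
    exact dvd_trans ⟨2 * a, by ring⟩ h2
  refine ⟨hev, ?_⟩
  set v : ↥(centralizer {A.z}) := ⟨x, hC⟩ ^ (orderOf x / 2) with hv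
  have hvo : orderOf v = 2 := by
    rw [hv, orderOf_pow' _ (by have := orderOf_pos x; omega), Subgroup.orderOf_mk,
      Nat.gcd_eq_right (Nat.div_dvd_of_dvd hev), Nat.div_div_self hev (orderOf_pos x).ne']
  by_contra hne'
  have hvz : v ≠ A.zC := fun h => hne' (congrArg Subtype.val h)
  have hout := A.isOuter_p hvo hvz
  rw [hv, map_pow, hp, ← pow_mul] at hout
  -- a power of `e` is no outer involution
  set l := i * (orderOf x / 2)
  have h2 : 2 * A.D.k ∣ l * 2 := A.D.e_pow_eq_one.1 (by rw [pow_mul, sq_of_order_two hout.1])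
  rw [mul_comm l, Nat.mul_dvd_mul_iff_left two_pos] at h2
  obtain ⟨b, hb⟩ := h2
  rw [hb, pow_mul, A.D.e_pow_k] at hout
  rcases Nat.even_or_odd b with ⟨c, hc⟩ | ⟨c, hc⟩
  · have h3 := hout.1
    rw [hc, ← two_mul, pow_mul, A.D.z_sq, one_pow, orderOf_one] at h3
    omega
  · exact hout.2 (by rw [hc, pow_succ, pow_mul, A.D.z_sq, one_pow, one_mul])

/-- **the supports of the functions form a trivial intersection set** -/
theorem mem_N_of_sp {g x : G} (hx : A.Sp x) (hgx : A.Sp (g * x * g⁻¹)) : g ∈ A.N := by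
  obtain ⟨he, hxz⟩ := A.sp_even hx
  have hgz := (A.sp_even hgx).2
  rw [← MulAut.conj_apply, MulEquiv.orderOf_eq, MulAut.conj_apply, conj_pow, hxz] at hgz
  have hgC : g ∈ centralizer {A.z} := mem_centralizer_singleton_iff.2 (mul_inv_eq_iff_eq_mul.1 hgz)
  obtain ⟨hL, hne⟩ := hx
  obtain ⟨hC, i, hp, hi⟩ := A.exists_pow ⟨x, hL⟩
  have hk := A.not_dvd_of_lg hne hi
  obtain ⟨hL', -⟩ := hgx
  obtain ⟨hC', hgm⟩ := A.mem_pre.1 hL'
  rw [show (⟨g * x * g⁻¹, hC'⟩ : ↥(centralizer {A.z})) = ⟨g, hgC⟩ * ⟨x, hC⟩ * ⟨g, hgC⟩⁻¹ from rfl,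
    map_mul, map_mul, map_inv, hp] at hgm
  refine A.mem_pre.2 ⟨hgC, ?_⟩
  rcases A.D.mem_of_conj hk hgm with h | ⟨y, hy, h⟩
  · exact Subgroup.le_normalizer h
  · exact h.symm ▸ mul_mem A.τ_mem_normalizer (Subgroup.le_normalizer hy)

theorem exists_τ : ∃ t : G, ∃ ht : t ∈ centralizer {A.z},
    orderOf t = 2 ∧ (⟨t, ht⟩ : ↥(centralizer {A.z})) ≠ A.zC ∧ A.p ⟨t, ht⟩ = A.D.τ := by
  obtain ⟨t, h1, h2, h3⟩ := A.exists_lift A.D.isOuter_τ
  exact ⟨t, t.2, by rw [Subgroup.orderOf_coe, h1], h2, h3⟩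

/-- an involution pre the outer one -/
noncomputable def t₀ : G := A.exists_τ.choose

theorem t₀_spec : ∃ ht : A.t₀ ∈ centralizer {A.z},
    orderOf A.t₀ = 2 ∧ (⟨A.t₀, ht⟩ : ↥(centralizer {A.z})) ≠ A.zC ∧ A.p ⟨A.t₀, ht⟩ = A.D.τ :=
  A.exists_τ.choose_spec

theorem t₀_inv : A.t₀⁻¹ = A.t₀ := by
  obtain ⟨_, h, -, -⟩ := A.t₀_spec
  exact inv_eq_of_mul_eq_one_right (mul_self_of_order_two h)

theorem t₀_sq : A.t₀ * A.t₀ = 1 := by
  conv_lhs => arg 1; rw [← A.t₀_inv]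
  exact inv_mul_cancel _

theorem t₀_mem_N : A.t₀ ∈ A.N := by
  obtain ⟨h, -, -, hp⟩ := A.t₀_spec
  exact A.mem_pre.2 ⟨h, hp ▸ A.τ_mem_normalizer⟩

theorem t₀_not_mem_L : A.t₀ ∉ A.L := fun h => by
  obtain ⟨hC, -, -, hp⟩ := A.t₀_spec
  obtain ⟨_, hm⟩ := A.mem_pre.1 h
  exact A.D.τ_not_mem (hp ▸ hm)

theorem mul_t₀_mem {g : G} (hg : g ∈ A.N) (hn : g ∉ A.L) : g * A.t₀ ∈ A.L := by
  obtain ⟨hC, -, -, hp⟩ := A.t₀_spec
  obtain ⟨hgC, hgm⟩ := A.mem_pre.1 hg
  rcases A.normalizer_cases hgm with h | ⟨x, hx, h⟩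
  · exact absurd (A.mem_pre.2 ⟨hgC, h⟩) hn
  · refine A.mem_pre.2 ⟨mul_mem hgC hC, ?_⟩
    rw [show (⟨g * A.t₀, _⟩ : ↥(centralizer {A.z})) = ⟨g, hgC⟩ * ⟨A.t₀, hC⟩ from rfl, map_mul, hp, h,
      show A.D.τ * x * A.D.τ = A.D.τ * x * A.D.τ⁻¹ by rw [A.D.τ_inv]]
    exact (Subgroup.mem_normalizer_iff.1 A.τ_mem_normalizer x).1 hx

/-- the class function of exponents -/
noncomputable def ext (w : ZMod 4 → ℂ) : G → ℂ := extendByZero A.L fun x => w (A.lg x)

theorem ext_apply (w : ZMod 4 → ℂ) {x : G} (h : x ∈ A.L) : A.ext w x = w (A.lg ⟨x, h⟩) :=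
  extendByZero_mem A.L _ h

theorem ext_not_mem (w : ZMod 4 → ℂ) {x : G} (h : x ∉ A.L) : A.ext w x = 0 := extendByZero_not_mem A.L _ h

theorem sp_of_ext {w : ZMod 4 → ℂ} (hw : w 0 = 0) {x : G} (h : A.ext w x ≠ 0) : A.Sp x := by
  by_cases hL : x ∈ A.L
  · refine ⟨hL, fun h0 => h ?_⟩
    rw [A.ext_apply w hL, h0, hw]
  · exact absurd (A.ext_not_mem w hL) h

/-- the opposite exponent function -/
def opp (w : ZMod 4 → ℂ) : ZMod 4 → ℂ := fun r => w (-r)

theorem ext_conj_L (w : ZMod 4 → ℂ) {g : G} (hg : g ∈ A.L) (x : G) : A.ext w (g⁻¹ * x * g) = A.ext w x := by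
  by_cases hx : x ∈ A.L
  · rw [A.ext_apply w (mul_mem (mul_mem (inv_mem hg) hx) hg), A.ext_apply w hx,
      show (⟨g⁻¹ * x * g, _⟩ : A.L) = (⟨g, hg⟩ : A.L)⁻¹ * ⟨x, hx⟩ * ⟨g, hg⟩ from rfl, lg_mul, lg_mul, lg_inv]
    congr 1
    abel
  · rw [A.ext_not_mem w hx, A.ext_not_mem w fun h => hx ?_]
    have := mul_mem (mul_mem hg h) (inv_mem hg)
    simpa [mul_assoc] using this

theorem t₀_conj_mem {x : G} (hx : x ∈ A.L) : A.t₀ * x * A.t₀ ∈ A.L := by
  refine A.mul_t₀_mem (mul_mem A.t₀_mem_N (A.L_le_N hx)) fun h => A.t₀_not_mem_L ?_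
  exact (Subgroup.mul_mem_cancel_right _ hx).1 h

theorem lg_t₀ {x : G} (hx : x ∈ A.L) : A.lg ⟨A.t₀ * x * A.t₀, A.t₀_conj_mem hx⟩ = -A.lg ⟨x, hx⟩ := by
  obtain ⟨hC, -, -, hp⟩ := A.t₀_spec
  obtain ⟨hxC, i, hpi, hi⟩ := A.exists_pow ⟨x, hx⟩
  have h1 : A.toE ⟨A.t₀ * x * A.t₀, A.t₀_conj_mem hx⟩ =
      (⟨A.D.z, A.D.e_pow_k ▸ pow_mem (Subgroup.mem_zpowers _) _⟩ : zpowers A.D.e) ^ i *
        (A.toE ⟨x, hx⟩)⁻¹ := by
    refine Subtype.ext ?_
    rw [Subgroup.coe_mul, SubgroupClass.coe_pow, InvMemClass.coe_inv]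
    show A.p (⟨A.t₀, hC⟩ * ⟨x, hxC⟩ * ⟨A.t₀, hC⟩) = A.D.z ^ i * (A.p ⟨x, hxC⟩)⁻¹
    rw [map_mul, map_mul, hp, hpi, ← A.D.conj_e_pow, A.D.τ_inv]
  have h2 : Multiplicative.toAdd (A.lgE (⟨A.D.z, A.D.e_pow_k ▸ pow_mem (Subgroup.mem_zpowers _) _⟩ :
      zpowers A.D.e)) = 0 := by
    rw [show (⟨A.D.z, _⟩ : zpowers A.D.e) = ⟨A.D.e ^ A.D.k, pow_mem (Subgroup.mem_zpowers _) _⟩ from
      Subtype.ext A.D.e_pow_k.symm, lgE_pow, toAdd_ofAdd, ZMod.natCast_eq_zero_iff _ 4]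
    exact A.D.four_dvd_k
  simp only [lg, h1, map_mul, map_pow, map_inv, toAdd_mul, toAdd_pow, toAdd_inv, h2, smul_zero, zero_add]

theorem ext_t₀ (w : ZMod 4 → ℂ) (x : G) : A.ext w (A.t₀⁻¹ * x * A.t₀) = A.ext (opp w) x := by
  rw [A.t₀_inv]
  by_cases hx : x ∈ A.L
  · rw [A.ext_apply w (A.t₀_conj_mem hx), A.ext_apply (opp w) hx, A.lg_t₀ hx]
    rfl
  · rw [A.ext_not_mem (opp w) hx, A.ext_not_mem w fun h => hx ?_]
    have := A.t₀_conj_mem h
    rwa [show A.t₀ * (A.t₀ * x * A.t₀) * A.t₀ = (A.t₀ * A.t₀) * x * (A.t₀ * A.t₀) by group, A.t₀_sq,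
      one_mul, mul_one] at this

variable [Fintype G]

/-- the induced function -/
noncomputable def psi (w : ZMod 4 → ℂ) : G → ℂ := indFun A.L fun x => w (A.lg x)

theorem psi_apply (w : ZMod 4 → ℂ) (x : G) :
    A.psi w x = (Nat.card A.L : ℂ)⁻¹ * ∑ g : G, A.ext w (g⁻¹ * x * g) := rfl

theorem psi_eq_zero {w : ZMod 4 → ℂ} (hw : w 0 = 0) {x : G} (h : ∀ g : G, ¬ A.Sp (g⁻¹ * x * g)) :
    A.psi w x = 0 := by
  rw [A.psi_apply, Finset.sum_eq_zero fun g _ => by_contra fun hne => h g (A.sp_of_ext hw hne), mul_zero]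

theorem not_sp_of_sq {x : G} (hx : x * x = 1) : ¬ A.Sp x := by
  rintro ⟨hL, hne⟩
  obtain ⟨hC, i, hp, hi⟩ := A.exists_pow ⟨x, hL⟩
  refine A.not_dvd_of_lg hne hi ?_
  have h1 : A.D.e ^ (i * 2) = 1 := by
    rw [pow_mul, ← hp, ← map_pow, show (⟨x, hC⟩ : ↥(centralizer {A.z})) ^ 2 = 1 from
      Subtype.ext (by simp [sq, hx]), map_one]
  have h2 := A.D.e_pow_eq_one.1 h1
  rwa [mul_comm i, Nat.mul_dvd_mul_iff_left two_pos] at h2

theorem psi_sq_one {w : ZMod 4 → ℂ} (hw : w 0 = 0) {x : G} (hx : x * x = 1) : A.psi w x = 0 :=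
  A.psi_eq_zero hw fun g => A.not_sp_of_sq (by
    rw [show g⁻¹ * x * g * (g⁻¹ * x * g) = g⁻¹ * (x * x) * g by group, hx, mul_one, inv_mul_cancel])

theorem psi_one {w : ZMod 4 → ℂ} (hw : w 0 = 0) : A.psi w 1 = 0 := A.psi_sq_one hw (one_mul 1)

/-- on its support the induced function is the sum pre the two cosets -/
theorem psi_of_sp {w : ZMod 4 → ℂ} (hw : w 0 = 0) {x : G} (hx : A.Sp x) :
    A.psi w x = A.ext w x + A.ext (opp w) x := by
  classical
  rw [A.psi_apply, ← Finset.sum_subset (s₁ := Finset.univ.filter fun g => g ∈ A.N) (Finset.subset_univ _)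
    (fun g _ hg => by
      by_contra hne
      refine hg (Finset.mem_filter.2 ⟨Finset.mem_univ g, ?_⟩)
      simpa using inv_mem (A.mem_N_of_sp hx (g := g⁻¹) (by simpa using A.sp_of_ext hw hne))),
    ← Finset.sum_filter_add_sum_filter_not (Finset.univ.filter fun g => g ∈ A.N) (fun g => g ∈ A.L)]
  have hc : ∀ p : G → Prop, [DecidablePred p] → (∀ g, p g → g ∈ A.N) →
      (Finset.univ.filter fun g => g ∈ A.N).filter p = Finset.univ.filter p := by
    intro p _ hp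
    rw [Finset.filter_filter]
    exact Finset.filter_congr fun g _ => ⟨fun h => h.2, fun h => ⟨hp g h, h⟩⟩
  have h1 : ∑ g ∈ (Finset.univ.filter fun g => g ∈ A.N).filter (fun g => g ∈ A.L), A.ext w (g⁻¹ * x * g) =
      (Nat.card A.L : ℂ) * A.ext w x := by
    rw [Finset.sum_congr rfl fun g hg => A.ext_conj_L w (Finset.mem_filter.1 hg).2 x, Finset.sum_const,
      hc _ (fun g hg => A.L_le_N hg), ← Fintype.card_subtype, ← Nat.card_eq_fintype_card, nsmul_eq_mul]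
  have h2 : ∑ g ∈ (Finset.univ.filter fun g => g ∈ A.N).filter (fun g => ¬ g ∈ A.L), A.ext w (g⁻¹ * x * g) =
      (Nat.card A.L : ℂ) * A.ext (opp w) x := by
    have hs : ∀ g ∈ (Finset.univ.filter fun g => g ∈ A.N).filter (fun g => ¬ g ∈ A.L),
        A.ext w (g⁻¹ * x * g) = A.ext (opp w) x := by
      intro g hg
      simp only [Finset.mem_filter, Finset.mem_univ, true_and] at hg
      have hm := A.mul_t₀_mem hg.1 hg.2
      calc A.ext w (g⁻¹ * x * g) = A.ext w (A.t₀⁻¹ * ((g * A.t₀)⁻¹ * x * (g * A.t₀)) * A.t₀) := by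
            congr 1
            rw [show A.t₀⁻¹ * ((g * A.t₀)⁻¹ * x * (g * A.t₀)) * A.t₀ =
              (A.t₀⁻¹ * A.t₀⁻¹) * (g⁻¹ * x * g) * (A.t₀ * A.t₀) by group, A.t₀_inv, A.t₀_sq, one_mul, mul_one]
        _ = A.ext (opp w) x := by rw [A.ext_t₀, A.ext_conj_L _ hm]
    rw [Finset.sum_congr rfl hs, Finset.sum_const, nsmul_eq_mul]
    congr 2
    rw [← Nat.card_eq_finsetCard]
    refine Nat.card_congr
      { toFun := fun g => ⟨g.1 * A.t₀, ?_⟩
        invFun := fun x => ⟨x.1 * A.t₀, ?_⟩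
        left_inv := fun g => Subtype.ext (by simp [mul_assoc, A.t₀_sq])
        right_inv := fun x => Subtype.ext (by simp [mul_assoc, A.t₀_sq]) }
    · have hg := g.2
      simp only [Finset.mem_filter, Finset.mem_univ, true_and] at hg
      exact A.mul_t₀_mem hg.1 hg.2
    · simp only [Finset.mem_filter, Finset.mem_univ, true_and]
      exact ⟨mul_mem (A.L_le_N x.2) A.t₀_mem_N,
        fun h => A.t₀_not_mem_L ((Subgroup.mul_mem_cancel_left _ x.2).1 h)⟩
  rw [h1, h2, ← mul_add, ← mul_assoc, inv_mul_cancel₀ (by exact_mod_cast Nat.card_pos.ne'), one_mul]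

theorem card_lg (r : ZMod 4) :
    Nat.card {x : A.L // A.lg x = r} * 4 = Nat.card A.L := by
  have hsurj : ∀ r : ZMod 4, ∃ x : A.L, A.lg x = r := fun r => by
    obtain ⟨c, hc⟩ := A.p_surj (A.D.e ^ r.val)
    refine ⟨⟨c, A.coe_mem_pre.2 (hc ▸ pow_mem (Subgroup.mem_zpowers _) _)⟩, ?_⟩
    rw [lg, show A.toE ⟨(c : G), A.coe_mem_pre.2 (hc ▸ pow_mem (Subgroup.mem_zpowers _) _)⟩ = ⟨A.D.e ^ r.val, pow_mem (Subgroup.mem_zpowers _) _⟩ from Subtype.ext hc, lgE_pow,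
      toAdd_ofAdd, ZMod.natCast_zmod_val]
  let f : A.L →* Multiplicative (ZMod 4) :=
    { toFun := fun x => Multiplicative.ofAdd (A.lg x)
      map_one' := by rw [lg_one, ofAdd_zero]
      map_mul' := fun a b => by rw [lg_mul, ofAdd_add] }
  have hf : Function.Surjective f := fun v => by
    obtain ⟨x, hx⟩ := hsurj (Multiplicative.toAdd v)
    exact ⟨x, by show Multiplicative.ofAdd (A.lg x) = v; rw [hx, ofAdd_toAdd]⟩
  have hidx : f.ker.index = 4 := by
    rw [Subgroup.index_ker, MonoidHom.range_eq_top.2 hf, Subgroup.card_top,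
      Nat.card_congr Multiplicative.toAdd, Nat.card_zmod]
  obtain ⟨x₀, hx₀⟩ := hsurj r
  have he : Nat.card {x : A.L // A.lg x = r} = Nat.card f.ker := by
    refine Nat.card_congr
      { toFun := fun x => ⟨x₀⁻¹ * x.1, ?_⟩
        invFun := fun x => ⟨x₀ * x.1, ?_⟩
        left_inv := fun x => Subtype.ext (mul_inv_cancel_left _ _)
        right_inv := fun x => Subtype.ext (inv_mul_cancel_left _ _) }
    · show Multiplicative.ofAdd (A.lg (x₀⁻¹ * x.1)) = 1
      rw [lg_mul, lg_inv, hx₀, x.2, neg_add_cancel, ofAdd_zero]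
    · rw [lg_mul, hx₀, show A.lg x.1 = 0 from Multiplicative.ofAdd.injective (x.2.trans ofAdd_zero.symm), add_zero]
  rw [he]
  exact (congrArg (fun n : ℕ => Nat.card f.ker * n) hidx).symm.trans f.ker.card_mul_index

theorem sum_L [Fintype A.L] (g : ZMod 4 → ℂ) :
    (4 : ℂ) * ∑ x : A.L, g (A.lg x) = (Nat.card A.L : ℂ) * ∑ r : ZMod 4, g r := by
  classical
  rw [← Finset.sum_fiberwise Finset.univ A.lg fun x => g (A.lg x), Finset.mul_sum, Finset.mul_sum]
  refine Finset.sum_congr rfl fun r _ => ?_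
  rw [Finset.sum_congr rfl fun x hx => by rw [(Finset.mem_filter.1 hx).2], Finset.sum_const, nsmul_eq_mul,
    ← Fintype.card_subtype, ← Nat.card_eq_fintype_card, ← A.card_lg r]
  push_cast
  ring

/-- **the inner products** -/
theorem inner_psi {w v : ZMod 4 → ℂ} (hw : w 0 = 0) (hv : v 0 = 0) :
    classInner (A.psi w) (A.psi v) = (4 : ℂ)⁻¹ * ∑ r : ZMod 4, w r * conj (v r + v (-r)) := by
  haveI := Fintype.ofFinite A.L
  change classInner (indFun A.L fun x => w (A.lg x)) (A.psi v) = _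
  rw [classInner_indFun _ _ (A.psi v) (isClassFunction_indFun _ _)]
  simp only [classInner]
  have h : ∀ x : A.L, w (A.lg x) * conj (A.psi v (x : G)) = w (A.lg x) * conj (v (A.lg x) + v (-A.lg x)) := by
    intro x
    by_cases h0 : A.lg x = 0
    · rw [h0, hw, zero_mul, zero_mul]
    · rw [A.psi_of_sp hv ⟨x.2, h0⟩, A.ext_apply v x.2, A.ext_apply (opp v) x.2]
      rfl
  rw [Finset.sum_congr rfl fun x _ => h x] 
  have h4 := A.sum_L fun r => w r * conj (v r + v (-r))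
  have hL : (Nat.card A.L : ℂ) ≠ 0 := by exact_mod_cast Nat.card_pos.ne'
  field_simp
  linear_combination h4

theorem inner_psi_one (w : ZMod 4 → ℂ) :
    classInner (A.psi w) (fun _ => (1 : ℂ)) = (4 : ℂ)⁻¹ * ∑ r : ZMod 4, w r := by
  haveI := Fintype.ofFinite A.L
  rw [psi, classInner_indFun _ _ _ (fun _ _ => rfl)]
  simp only [classInner, map_one, mul_one]
  have h4 := A.sum_L w
  have hL : (Nat.card A.L : ℂ) ≠ 0 := by exact_mod_cast Nat.card_pos.ne'
  field_simp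
  linear_combination h4

theorem psi_eq_indN (w : ZMod 4 → ℂ) :
    A.psi w = indFun A.N fun x => A.ext w (x : G) + A.ext (opp w) (x : G) := by
  funext x
  have hN : ∀ y : G, extendByZero A.N (fun x : A.N => A.ext w (x : G) + A.ext (opp w) (x : G)) y =
      A.ext w y + A.ext (opp w) y := fun y => by
    by_cases hy : y ∈ A.N
    · rw [extendByZero_mem A.N _ hy]
    · rw [extendByZero_not_mem A.N _ hy, A.ext_not_mem w fun h => hy (A.L_le_N h),
        A.ext_not_mem (opp w) fun h => hy (A.L_le_N h), add_zero]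
  have hshift : ∑ g : G, A.ext (opp w) (g⁻¹ * x * g) = ∑ g : G, A.ext w (g⁻¹ * x * g) := by
    refine Fintype.sum_bijective (fun g => g * A.t₀) (Group.mulRight_bijective _) _ _ fun g => ?_
    rw [← A.ext_t₀]
    congr 1
    group
  rw [A.psi_apply, indFun]
  simp only [hN, Finset.sum_add_distrib, hshift, A.card_N, Nat.cast_mul, Nat.cast_ofNat]
  have hL : (Nat.card A.L : ℂ) ≠ 0 := by exact_mod_cast Nat.card_pos.ne'
  field_simp
  ring

/-- the products of two involutions of `N` outside `L` -/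
theorem invol_cases {y : G} (hy : y ∈ A.N) (hyo : orderOf y = 2) :
    y = A.z ∨ ∃ x : A.L, y = A.t₀ * x ∧ (A.lg x = 0 ∨ A.lg x = 2) := by
  by_cases hL : y ∈ A.L
  · left
    by_contra hne
    obtain ⟨hC, hm⟩ := A.mem_pre.1 hL
    obtain ⟨i, hi⟩ := mem_powers_iff_mem_zpowers.2 hm
    have hout := A.isOuter_p (t := ⟨y, hC⟩) (by rw [Subgroup.orderOf_mk, hyo]) fun h => hne (congrArg Subtype.val h)
    rw [← hi] at hout
    have h2 : 2 * A.D.k ∣ i * 2 := A.D.e_pow_eq_one.1 (by rw [pow_mul, sq_of_order_two hout.1])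
    rw [mul_comm i, Nat.mul_dvd_mul_iff_left two_pos] at h2
    obtain ⟨b, hb⟩ := h2
    simp only [hb, pow_mul, A.D.e_pow_k] at hout
    rcases Nat.even_or_odd b with ⟨c, hc⟩ | ⟨c, hc⟩
    · have h3 := hout.1
      rw [hc, ← two_mul, pow_mul, A.D.z_sq, one_pow, orderOf_one] at h3
      omega
    · exact hout.2 (by rw [hc, pow_succ, pow_mul, A.D.z_sq, one_pow, one_mul])
  · right
    have hx : A.t₀ * y ∈ A.L := by
      have h1 := inv_mem (A.mul_t₀_mem hy hL)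
      rwa [mul_inv_rev, A.t₀_inv, inv_eq_of_mul_eq_one_right (show y * y = 1 from mul_self_of_order_two hyo)] at h1
    refine ⟨⟨_, hx⟩, by rw [← mul_assoc, A.t₀_sq, one_mul], ?_⟩
    obtain ⟨hC, i, hp, hi⟩ := A.exists_pow ⟨_, hx⟩
    obtain ⟨htC, -, -, htp⟩ := A.t₀_spec
    have hyC : y ∈ centralizer {A.z} := (A.mem_pre.1 hy).1
    rw [show (⟨A.t₀ * y, hC⟩ : ↥(centralizer {A.z})) = ⟨A.t₀, htC⟩ * ⟨y, hyC⟩ from rfl, map_mul, htp] at hp
    have hsq : (A.D.τ * A.D.e ^ i) * (A.D.τ * A.D.e ^ i) = 1 := by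
      rw [← hp, ← mul_assoc A.D.τ A.D.τ, A.D.τ_sq, one_mul, ← map_mul, show (⟨y, hyC⟩ : ↥(centralizer {A.z})) *
        ⟨y, hyC⟩ = 1 from Subtype.ext (by simp [mul_self_of_order_two hyo]), map_one]
    rw [A.D.coset_sq, ← orderOf_dvd_iff_pow_eq_one, A.D.ord_z] at hsq
    obtain ⟨l, rfl⟩ := hsq
    rw [hi]
    push_cast
    generalize (l : ZMod 4) = r
    revert r
    decide

theorem coset_invol (x : A.L) (hx : A.lg x = 0 ∨ A.lg x = 2) :
    A.t₀ * x ∈ A.N ∧ orderOf (A.t₀ * (x : G)) = 2 := by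
  refine ⟨mul_mem A.t₀_mem_N (A.L_le_N x.2), ?_⟩
  obtain ⟨hC, i, hp, hi⟩ := A.exists_pow x
  obtain ⟨htC, hto, htz, htp⟩ := A.t₀_spec
  set y : ↥(centralizer {A.z}) := ⟨A.t₀, htC⟩ * ⟨x, hC⟩ with hy
  have hev : Even i := by
    rw [hi] at hx
    rcases hx with h | h
    · rw [ZMod.natCast_eq_zero_iff _ 4] at h
      exact even_iff_two_dvd.2 (dvd_trans ⟨2, rfl⟩ h)
    · rw [show (2 : ZMod 4) = ((2 : ℕ) : ZMod 4) from rfl, ZMod.natCast_eq_natCast_iff'] at h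
      exact Nat.even_iff.2 (by omega)
  have hpy : A.p y = A.D.τ * A.D.e ^ i := by rw [hy, map_mul, htp, hp]
  have hsq : (A.D.τ * A.D.e ^ i) * (A.D.τ * A.D.e ^ i) = 1 := by
    rw [A.D.coset_sq]
    obtain ⟨l, rfl⟩ := hev
    rw [← two_mul, pow_mul, A.D.z_sq, one_pow]
  have hne1 : A.D.τ * A.D.e ^ i ≠ 1 := fun h => A.D.τ_not_mem
    ((eq_inv_of_mul_eq_one_left h) ▸ inv_mem (pow_mem (Subgroup.mem_zpowers _) i))
  have hout : A.D.IsOuter (A.p y) := by
    rw [hpy]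
    refine ⟨orderOf_eq_prime (by rw [sq, hsq]) hne1, fun h => A.D.τ_not_mem ?_⟩
    rw [eq_mul_inv_of_mul_eq h, ← A.D.e_pow_k]
    exact mul_mem (pow_mem (Subgroup.mem_zpowers _) _) (inv_mem (pow_mem (Subgroup.mem_zpowers _) i))
  -- lifts of outer involutions are involutions
  obtain ⟨t, ht, htz', htp'⟩ := A.exists_lift hout
  have hk : A.p (t⁻¹ * y) = 1 := by rw [map_mul, map_inv, htp', inv_mul_cancel]
  have hinv := A.invert ht htz' hk
  have hy2 : y * y = 1 := by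
    have htt : t * t = 1 := mul_self_of_order_two ht
    calc y * y = (t * (t⁻¹ * y) * t⁻¹) * (t * t) * (t⁻¹ * y) := by group
      _ = 1 := by rw [hinv, htt, mul_one, inv_mul_cancel]
  refine orderOf_eq_prime ?_ ?_
  · rw [sq]
    exact congrArg Subtype.val hy2
  · intro h
    refine A.D.τ_not_mem ?_
    have : y = 1 := Subtype.ext h
    rw [this, map_one] at hpy
    exact absurd hpy.symm hne1

/-- **the class algebra functional** -/
theorem qfun_psi {w : ZMod 4 → ℂ} (hw : w 0 = 0) :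
    (Nat.card G : ℂ) * qfun A.z (A.psi w) =
      (Nat.card (centralizer ({A.z} : Set G)) : ℂ) ^ 2 * ((A.o : ℂ) * A.D.k / 4) * w 2 := by
  classical
  haveI := Fintype.ofFinite A.N
  haveI := Fintype.ofFinite A.L
  set φ : A.N → ℂ := fun x => A.ext w (x : G) + A.ext (opp w) (x : G) with hφ
  have hloc : ∀ x : A.N, φ x ≠ 0 → ∀ y y' : G, IsConj A.z y → IsConj A.z y' → y * y' = (x : G) → y ∈ A.N := by
    intro x hx y y' hy hy' hyy
    have hyo : orderOf y = 2 := by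
      obtain ⟨c, rfl⟩ := isConj_iff.1 hy
      rw [← MulAut.conj_apply, MulEquiv.orderOf_eq, A.hz]
    have hy'o : orderOf y' = 2 := by
      obtain ⟨c, rfl⟩ := isConj_iff.1 hy'
      rw [← MulAut.conj_apply, MulEquiv.orderOf_eq, A.hz]
    have hsp : A.Sp x := by
      by_cases h1 : A.ext w (x : G) = 0
      · refine A.sp_of_ext (w := opp w) (by simp [opp, hw]) fun h2 => hx ?_
        simp [hφ, h1, h2]
      · exact A.sp_of_ext hw h1
    have hc : y * (x : G) * y⁻¹ = (x : G)⁻¹ := by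
      rw [← hyy, mul_inv_rev, inv_eq_of_mul_eq_one_right (show y' * y' = 1 from mul_self_of_order_two hy'o),
        ← mul_assoc, show y * y = 1 from mul_self_of_order_two hyo, one_mul]
    exact A.mem_N_of_sp hsp (hc ▸ A.sp_inv hsp)
  obtain ⟨Cst, -, hCst, hq⟩ := qfun_indFun A.N A.z φ hloc
  -- the involutions of `N` are `z` and the even elements of the coset
  have hsum : ∑ᶠ p : {y : A.N // IsConj A.z (y : G)} × {y : A.N // IsConj A.z (y : G)}, φ (p.1.1 * p.2.1) =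
      ((A.o : ℂ) * A.D.k) ^ 2 * w 2 := by
    rw [finsum_eq_sum_of_fintype]
    let ev : {x : A.L // A.lg x = 0 ∨ A.lg x = 2} → {y : A.N // IsConj A.z (y : G)} := fun x =>
      ⟨⟨A.t₀ * x.1, (A.coset_invol x.1 x.2).1⟩, A.conj _ (A.coset_invol x.1 x.2).2⟩
    have hzN : A.z ∈ A.N := A.L_le_N (A.mem_pre.2 ⟨A.commute_z.2 (Commute.refl _),
      by rw [show (⟨A.z, _⟩ : ↥(centralizer {A.z})) = A.zC from rfl, A.p_z, ← A.D.e_pow_k];
         exact pow_mem (Subgroup.mem_zpowers _) _⟩)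
    set z' : {y : A.N // IsConj A.z (y : G)} := ⟨⟨A.z, hzN⟩, IsConj.refl _⟩
    have hinj : Function.Injective ev := fun a b h => by
      have h' := congrArg (fun q : {y : A.N // IsConj A.z (y : G)} => ((q.1 : A.N) : G)) h
      exact Subtype.ext (Subtype.ext (mul_left_cancel h'))
    have hcov : ∀ y, y = z' ∨ ∃ x, ev x = y := fun y => by
      have hyo : orderOf ((y.1 : A.N) : G) = 2 := by
        obtain ⟨c, hc⟩ := isConj_iff.1 y.2
        rw [← hc, ← MulAut.conj_apply, MulEquiv.orderOf_eq, A.hz]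
      rcases A.invol_cases y.1.2 hyo with h | ⟨x, hx, hx'⟩
      · exact Or.inl (Subtype.ext (Subtype.ext h))
      · exact Or.inr ⟨⟨x, hx'⟩, Subtype.ext (Subtype.ext hx.symm)⟩
    have hout : ∀ u, u ∉ A.L → A.ext w u + A.ext (opp w) u = 0 := fun u hu => by
      rw [A.ext_not_mem w hu, A.ext_not_mem (opp w) hu, add_zero]
    have hzL : A.z ∈ A.L := A.mem_pre.2 ⟨A.commute_z.2 (Commute.refl _),
      by rw [show (⟨A.z, _⟩ : ↥(centralizer {A.z})) = A.zC from rfl, A.p_z, ← A.D.e_pow_k];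
         exact pow_mem (Subgroup.mem_zpowers _) _⟩
    have hpair : ∀ a b : {x : A.L // A.lg x = 0 ∨ A.lg x = 2},
        φ ((ev a).1 * (ev b).1) = w (A.lg b.1 - A.lg a.1) + w (A.lg a.1 - A.lg b.1) := by
      intro a b
      have he : A.t₀ * (a.1 : G) * (A.t₀ * b.1) = ((a.1⁻¹ * b.1 : A.L) : G) := by
        have h1 : (A.t₀ * (a.1 : G))⁻¹ = A.t₀ * a.1 := inv_eq_of_mul_eq_one_right (mul_self_of_order_two (A.coset_invol a.1 a.2).2)
        conv_lhs => arg 1; rw [← h1]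
        rw [Subgroup.coe_mul, InvMemClass.coe_inv]
        group
      show A.ext w (A.t₀ * (a.1 : G) * (A.t₀ * b.1)) + A.ext (opp w) (A.t₀ * (a.1 : G) * (A.t₀ * b.1)) = _
      rw [he, A.ext_apply w (Subtype.prop _), A.ext_apply (opp w) (Subtype.prop _), Subtype.coe_eta, lg_mul, lg_inv]
      show w _ + w (-_) = _
      rw [show -A.lg a.1 + A.lg b.1 = A.lg b.1 - A.lg a.1 by ring, neg_sub]
    have hzl : ∀ y : {y : A.N // IsConj A.z (y : G)}, φ (z'.1 * y.1) = 0 ∧ φ (y.1 * z'.1) = 0 := by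
      intro y
      rcases hcov y with rfl | ⟨x, rfl⟩
      · have hzz : A.z * A.z = 1 := mul_self_of_order_two A.hz
        have : φ (z'.1 * z'.1) = 0 := by
          show A.ext w (A.z * A.z) + A.ext (opp w) (A.z * A.z) = 0
          rw [hzz, A.ext_apply w (one_mem _), A.ext_apply (opp w) (one_mem _),
            show (⟨1, _⟩ : A.L) = 1 from rfl, lg_one]
          simp [opp, hw]
        exact ⟨this, this⟩
      · refine ⟨hout _ fun h => A.t₀_not_mem_L ?_, hout _ fun h => A.t₀_not_mem_L ?_⟩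
        · exact (Subgroup.mul_mem_cancel_right _ x.1.2).1 ((Subgroup.mul_mem_cancel_left _ hzL).1 h)
        · exact (Subgroup.mul_mem_cancel_right _ x.1.2).1 ((Subgroup.mul_mem_cancel_right _ hzL).1 h)
    have hzev : ∀ x, ev x ≠ z' := fun x h => A.t₀_not_mem_L (by
      have h' : A.t₀ * (x.1 : G) = A.z := congrArg (fun q : {y : A.N // IsConj A.z (y : G)} => ((q.1 : A.N) : G)) h
      exact (Subgroup.mul_mem_cancel_right _ x.1.2).1 (h'.symm ▸ hzL))
    have hsplit : ∀ f : {y : A.N // IsConj A.z (y : G)} → ℂ, f z' = 0 → ∑ y, f y = ∑ x, f (ev x) := by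
      intro f hf
      rw [← Finset.sum_image (g := ev) (f := f) hinj.injOn]
      refine (Finset.sum_subset (Finset.subset_univ _) fun y _ hy => ?_).symm
      rcases hcov y with rfl | ⟨x, rfl⟩
      · exact hf
      · exact absurd (Finset.mem_image_of_mem ev (Finset.mem_univ x)) hy
    rw [Fintype.sum_prod_type, hsplit _ (Finset.sum_eq_zero fun y _ => (hzl y).1),
      Finset.sum_congr rfl fun a _ => hsplit _ (hzl (ev a)).2,
      Finset.sum_congr rfl fun a _ => Finset.sum_congr rfl fun b _ => hpair a b]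
    have hs2 : ∀ g : ZMod 4 → ℂ, (4 : ℂ) * ∑ x : {x : A.L // A.lg x = 0 ∨ A.lg x = 2}, g (A.lg x.1) =
        (Nat.card A.L : ℂ) * (g 0 + g 2) := by
      intro g
      rw [← Finset.sum_subtype (s := Finset.univ.filter fun x : A.L => A.lg x = 0 ∨ A.lg x = 2)
        (fun x => by simp) fun x => g (A.lg x), Finset.sum_filter]
      rw [A.sum_L fun r => if r = 0 ∨ r = 2 then g r else 0]
      congr 1
      rw [show (Finset.univ : Finset (ZMod 4)) = {0, 1, 2, 3} by decide, Finset.sum_insert (by decide),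
        Finset.sum_insert (by decide), Finset.sum_pair (by decide)]
      simp [show (1 : ZMod 4) ≠ 0 by decide, show (1 : ZMod 4) ≠ 2 by decide,
        show (3 : ZMod 4) ≠ 0 by decide, show (3 : ZMod 4) ≠ 2 by decide]
    have hrow : ∀ a : {x : A.L // A.lg x = 0 ∨ A.lg x = 2},
        (4 : ℂ) * ∑ b : {x : A.L // A.lg x = 0 ∨ A.lg x = 2},
          (w (A.lg b.1 - A.lg a.1) + w (A.lg a.1 - A.lg b.1)) = (Nat.card A.L : ℂ) * (2 * w 2) := by
      intro a
      rw [hs2 fun r => w (r - A.lg a.1) + w (A.lg a.1 - r)]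
      rcases a.2 with h | h <;> rw [h] <;>
        simp [hw, show (-2 : ZMod 4) = 2 by decide, show (2 : ZMod 4) - 2 = 0 by decide] <;> ring
    have hfin := hs2 fun _ => (1 : ℂ)
    simp only [Finset.sum_const, nsmul_eq_mul, mul_one] at hfin
    have htot : (4 : ℂ) * ∑ a : {x : A.L // A.lg x = 0 ∨ A.lg x = 2}, ∑ b : {x : A.L // A.lg x = 0 ∨ A.lg x = 2},
        (w (A.lg b.1 - A.lg a.1) + w (A.lg a.1 - A.lg b.1)) =
        (Finset.univ : Finset {x : A.L // A.lg x = 0 ∨ A.lg x = 2}).card * ((Nat.card A.L : ℂ) * (2 * w 2)) := by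
      rw [Finset.mul_sum, Finset.sum_congr rfl fun a _ => hrow a, Finset.sum_const, nsmul_eq_mul]
    have hL : (Nat.card A.L : ℂ) = (A.o : ℂ) * (2 * A.D.k) := by rw [A.card_L]; push_cast; ring
    rw [hL] at hfin htot
    linear_combination (1 / 4 : ℂ) * htot + (1 / 4 : ℂ) * ((A.o : ℂ) * A.D.k) * w 2 * hfin
  rw [A.psi_eq_indN, hq, hsum, hCst, A.card_N, A.card_L]
  have hk0 : (A.D.k : ℂ) ≠ 0 := by exact_mod_cast A.D.k_pos.ne'
  have ho0 : (A.o : ℂ) ≠ 0 := by exact_mod_cast A.odd_o.pos.ne'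
  have hn0 : (Nat.card {x : G // IsConj A.z x} : ℂ) ≠ 0 := by
    haveI : Nonempty {x : G // IsConj A.z x} := ⟨⟨A.z, IsConj.refl _⟩⟩
    exact_mod_cast Nat.card_pos.ne'
  have hc := congrArg (fun n : ℕ => (n : ℂ)) (card_isConj_mul_centralizer A.z)
  simp only [Nat.cast_mul] at hc
  rw [← hc]
  push_cast
  field_simp
  ring

end Setup

end CfsgLib.OddCyc
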