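import Cfsg.Agent.Lib.OddCyc.PairTI
import Cfsg.Agent.Lib.OddCyc.Psi

/-!
# Centralisers in the centraliser of the involution and the two exponent functions
-/

set_option autoImplicit false
set_option linter.unusedSectionVars false
set_option linter.style.haveILetI false

open scoped ComplexConjugate

namespace CfsgLib.OddCyc

open Subgroup Cfsg CfsgLib.Char CfsgLib.Char.Signed

universe u

namespace Setup

variable {G : Type u} [Group G] [Finite G] {F : Type} [Field F] [Fintype F] (A : Setup G F)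

/-- the chosen outer involution inside the centraliser -/
noncomputable def T : ↥(centralizer {A.z}) := ⟨A.t₀, A.t₀_spec.choose⟩

theorem ord_T : orderOf A.T = 2 := by rw [T, Subgroup.orderOf_mk, A.t₀_spec.choose_spec.1]

theorem T_ne : A.T ≠ A.zC := A.t₀_spec.choose_spec.2.1

theorem p_T : A.p A.T = A.D.τ := A.t₀_spec.choose_spec.2.2

/-- two elements centralising an outer involution with the same image are equal -/
theorem eq_of_p_eq {t x y : ↥(centralizer {A.z})} (ht : orderOf t = 2) (htz : t ≠ A.zC) (h : A.p x = A.p y)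
    (hx : Commute t x) (hy : Commute t y) : x = y :=
  inv_mul_eq_one.1 (A.fixed_eq_one ht htz (by rw [map_mul, map_inv, h, inv_mul_cancel]) (hx.inv_right.mul_right hy))

/-- an element whose image centralises `τ` differs by the core from one centralising `T` -/
theorem exists_commute_T {x : ↥(centralizer {A.z})} (hx : Commute (A.p x) A.D.τ) :
    ∃ k, A.p k = 1 ∧ Commute A.T (k * x) := by
  obtain ⟨k, hk, he⟩ := A.conj_fibre (t := x * A.T * x⁻¹) (u := A.T)
    (by rw [← MulAut.conj_apply, MulEquiv.orderOf_eq, A.ord_T]) A.ord_T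
    (by rw [map_mul, map_mul, map_inv, A.p_T, hx.eq, mul_inv_cancel_right])
  refine ⟨k, hk, ?_⟩
  have h1 : k * x * A.T * (k * x)⁻¹ = A.T := by
    calc k * x * A.T * (k * x)⁻¹ = k * (x * A.T * x⁻¹) * k⁻¹ := by group
      _ = A.T := he
  exact (mul_inv_eq_iff_eq_mul.1 h1).symm

/-- **the centraliser of the outer involution in the centraliser of `z`** -/
theorem exists_cent_T : ∃ c w : ↥(centralizer {A.z}), orderOf c = A.D.m ∧ w * A.T * w⁻¹ = A.T * A.zC ∧
    Commute A.T c ∧ w * c * w⁻¹ = c⁻¹ ∧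
    (∀ x, Commute A.T x → ∃ i : ℕ, x = c ^ i ∨ x = c ^ i * A.zC ∨ x = c ^ i * A.T ∨ x = c ^ i * A.T * A.zC) ∧
    (∀ x, ∀ i : ℕ, c ^ i ≠ 1 → Commute x (c ^ i) → ∃ k, A.p k = 1 ∧ Commute A.T (k * x)) := by
  obtain ⟨c', w', hc', hw', hτc', hwc', hlist, hcc⟩ := A.D.exists_cent
  obtain ⟨c₀, hc₀⟩ := A.p_surj c'
  obtain ⟨k₁, hk₁, hTc⟩ := A.exists_commute_T (x := c₀) (by rw [hc₀]; exact hτc'.symm)
  set c := k₁ * c₀ with hc
  have hpc : A.p c = c' := by rw [hc, map_mul, hk₁, one_mul, hc₀]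
  have hcm : c ^ A.D.m = 1 := A.eq_of_p_eq A.ord_T A.T_ne
    (by rw [map_pow, hpc, ← hc', pow_orderOf_eq_one, map_one]) (hTc.pow_right _) (Commute.one_right _)
  have hco : orderOf c = A.D.m :=
    Nat.dvd_antisymm (orderOf_dvd_of_pow_eq_one hcm) (by rw [← hc', ← hpc]; exact orderOf_map_dvd _ _)
  obtain ⟨w₀, hw₀⟩ := A.p_surj w'
  have hTz : orderOf (A.T * A.zC) = 2 := by
    refine orderOf_eq_prime ?_ fun h => A.T_ne ?_
    · rw [(A.zC_comm A.T).symm.mul_pow, sq_of_order_two A.ord_T, sq_of_order_two A.ord_zC, mul_one]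
    · rw [mul_eq_one_iff_eq_inv, inv_eq_of_mul_eq_one_right (mul_self_of_order_two A.ord_zC)] at h
      exact h
  obtain ⟨k₂, hk₂, hw⟩ := A.conj_fibre (t := w₀ * A.T * w₀⁻¹) (u := A.T * A.zC)
    (by rw [← MulAut.conj_apply, MulEquiv.orderOf_eq, A.ord_T]) hTz
    (by rw [map_mul, map_mul, map_mul, map_inv, hw₀, A.p_T, A.p_z, hw'])
  set w := k₂ * w₀ with hwdef
  have hwT : w * A.T * w⁻¹ = A.T * A.zC := by
    rw [← hw, hwdef]
    group
  have hpw : A.p w = w' := by rw [hwdef, map_mul, hk₂, one_mul, hw₀]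
  have hwc : w * c * w⁻¹ = c⁻¹ := by
    refine A.eq_of_p_eq A.ord_T A.T_ne (by rw [map_mul, map_mul, map_inv, map_inv, hpw, hpc, hwc']) ?_ hTc.inv_right
    have h1 : Commute (w * A.T * w⁻¹) (w * c * w⁻¹) := hTc.map (MulAut.conj w).toMonoidHom
    rw [hwT] at h1
    have h2 := h1.mul_left (A.zC_comm (w * c * w⁻¹))
    rwa [mul_assoc, mul_self_of_order_two A.ord_zC, mul_one] at h2
  refine ⟨c, w, hco, hwT, hTc, hwc, fun x hx => ?_, fun x i hi hx => ?_⟩
  · obtain ⟨i, hi⟩ := hlist (A.p x) (by rw [← A.p_T]; exact (hx.map A.p).symm)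
    have hz : Commute A.T A.zC := (A.zC_comm A.T).symm
    refine ⟨i, ?_⟩
    rcases hi with h | h | h | h
    · exact Or.inl (A.eq_of_p_eq A.ord_T A.T_ne (by rw [map_pow, hpc, h]) hx (hTc.pow_right i))
    · exact Or.inr (Or.inl (A.eq_of_p_eq A.ord_T A.T_ne (by rw [map_mul, map_pow, hpc, A.p_z, h]) hx
        ((hTc.pow_right i).mul_right hz)))
    · exact Or.inr (Or.inr (Or.inl (A.eq_of_p_eq A.ord_T A.T_ne (by rw [map_mul, map_pow, hpc, A.p_T, h]) hx
        ((hTc.pow_right i).mul_right (Commute.refl _)))))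
    · exact Or.inr (Or.inr (Or.inr (A.eq_of_p_eq A.ord_T A.T_ne
        (by rw [map_mul, map_mul, map_pow, hpc, A.p_T, A.p_z, h]) hx
        (((hTc.pow_right i).mul_right (Commute.refl _)).mul_right hz))))
  · refine A.exists_commute_T (hcc (A.p x) i (fun h => hi ?_) (by rw [← hpc, ← map_pow]; exact hx.map A.p))
    exact A.eq_of_p_eq A.ord_T A.T_ne (by rw [map_pow, hpc, h, map_one]) (hTc.pow_right i) (Commute.one_right _)

end Setup

/-- the powers of the imaginary unit -/
noncomputable def iPow (r : ZMod 4) : ℂ := Complex.I ^ r.val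

theorem iPow_add (r s : ZMod 4) : iPow (r + s) = iPow r * iPow s := by
  rw [iPow, iPow, iPow, ZMod.val_add, ← pow_add, ← pow_mod_orderOf, ← pow_mod_orderOf Complex.I (r.val + s.val)]
  congr 1
  have h : orderOf Complex.I ∣ 4 := orderOf_dvd_of_pow_eq_one Complex.I_pow_four
  exact Nat.mod_mod_of_dvd _ h

theorem iPow_zero : iPow 0 = 1 := by simp [iPow]

theorem iPow_one : iPow 1 = Complex.I := by rw [iPow, show (1 : ZMod 4).val = 1 from rfl, pow_one]

theorem iPow_two : iPow 2 = -1 := by rw [iPow, show (2 : ZMod 4).val = 2 from rfl, Complex.I_sq]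

theorem iPow_three : iPow 3 = -Complex.I := by rw [iPow, show (3 : ZMod 4).val = 3 from rfl, Complex.I_pow_three]

/-- `1 - iʳ` -/
noncomputable def w0 (r : ZMod 4) : ℂ := 1 - iPow r

/-- `(-1)ʳ - iʳ` -/
noncomputable def w1 (r : ZMod 4) : ℂ := iPow (r + r) - iPow r

theorem w0_zero : w0 0 = 0 := by simp [w0, iPow_zero]

theorem w1_zero : w1 0 = 0 := by simp [w1, iPow_zero]

theorem w0_two : w0 2 = 2 := by rw [w0, iPow_two]; norm_num

theorem w1_two : w1 2 = 2 := by rw [w1, show (2 : ZMod 4) + 2 = 0 by decide, iPow_zero, iPow_two]; norm_num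

theorem sum_zmod_four (f : ZMod 4 → ℂ) : ∑ r : ZMod 4, f r = f 0 + f 1 + f 2 + f 3 := by
  rw [show (Finset.univ : Finset (ZMod 4)) = {0, 1, 2, 3} by decide, Finset.sum_insert (by decide),
    Finset.sum_insert (by decide), Finset.sum_pair (by decide)]
  ring

namespace Setup

variable {G : Type u} [Group G] [Fintype G] {F : Type} [Field F] [Fintype F] (A : Setup G F)

/-- the exponents as a character of `L` -/
noncomputable def lgHom : A.L →* ℂˣ :=
  MonoidHom.toHomUnits
    { toFun := fun x => iPow (A.lg x)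
      map_one' := by rw [lg_one, iPow_zero]
      map_mul' := fun x y => by rw [lg_mul, iPow_add] }

theorem lgHom_apply (x : A.L) : (A.lgHom x : ℂ) = iPow (A.lg x) := rfl

theorem gen_psi0 : Gen (A.psi w0) := by
  haveI := Fintype.ofFinite A.L
  refine isGeneralizedCharacter_indFun A.L ?_
  exact isGeneralizedCharacter_sub (isGen_hom (1 : A.L →* ℂˣ)) (isGen_hom A.lgHom)

theorem gen_psi1 : Gen (A.psi w1) := by
  haveI := Fintype.ofFinite A.L
  refine isGeneralizedCharacter_indFun A.L ?_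
  have h : (fun x : A.L => w1 (A.lg x)) = fun x => ((A.lgHom * A.lgHom) x : ℂ) - (A.lgHom x : ℂ) := by
    funext x
    rw [w1, iPow_add, MonoidHom.mul_apply, Units.val_mul, lgHom_apply]
  rw [h]
  exact isGeneralizedCharacter_sub (isGen_hom _) (isGen_hom _)

theorem psi0_one : classInner (A.psi w0) (fun _ => (1 : ℂ)) = 1 := by
  rw [inner_psi_one, sum_zmod_four]
  simp [w0, iPow_zero, iPow_one, iPow_two, iPow_three]
  ring

theorem psi1_one : classInner (A.psi w1) (fun _ => (1 : ℂ)) = 0 := by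
  rw [inner_psi_one, sum_zmod_four]
  simp [w1, show (2 : ZMod 4) + 2 = 0 by decide, show (1 : ZMod 4) + 1 = 2 by decide,
    show (3 : ZMod 4) + 3 = 2 by decide, iPow_zero, iPow_one, iPow_two, iPow_three]
  ring

theorem psi0_psi0 : classInner (A.psi w0) (A.psi w0) = 3 := by
  rw [A.inner_psi w0_zero w0_zero, sum_zmod_four]
  simp [w0, show -(1 : ZMod 4) = 3 by decide, show -(2 : ZMod 4) = 2 by decide, show -(3 : ZMod 4) = 1 by decide,
    iPow_zero, iPow_one, iPow_two, iPow_three]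
  linear_combination (0 : ℂ) * Complex.I_sq

theorem psi1_psi1 : classInner (A.psi w1) (A.psi w1) = 3 := by
  rw [A.inner_psi w1_zero w1_zero, sum_zmod_four]
  simp [w1, show -(1 : ZMod 4) = 3 by decide, show -(2 : ZMod 4) = 2 by decide, show -(3 : ZMod 4) = 1 by decide,
    show (2 : ZMod 4) + 2 = 0 by decide, show (1 : ZMod 4) + 1 = 2 by decide,
    show (3 : ZMod 4) + 3 = 2 by decide, iPow_zero, iPow_one, iPow_two, iPow_three]
  linear_combination (0 : ℂ) * Complex.I_sq

theorem psi1_psi0 : classInner (A.psi w1) (A.psi w0) = 1 := by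
  rw [A.inner_psi w1_zero w0_zero, sum_zmod_four]
  simp [w1, w0, show -(1 : ZMod 4) = 3 by decide, show -(2 : ZMod 4) = 2 by decide, show -(3 : ZMod 4) = 1 by decide,
    show (2 : ZMod 4) + 2 = 0 by decide, show (1 : ZMod 4) + 1 = 2 by decide,
    show (3 : ZMod 4) + 3 = 2 by decide, iPow_zero, iPow_one, iPow_two, iPow_three]
  linear_combination (0 : ℂ) * Complex.I_sq

end Setup

end CfsgLib.OddCyc
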