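import Cfsg.Agent.Lib.OddCyc.FrameDef

/-!
# The torus, the outer involutions and their centralisers in a semidihedral frame
-/

set_option autoImplicit false
set_option linter.unusedSectionVars false
set_option linter.style.haveILetI false

namespace CfsgLib.OddCyc

open Subgroup CfsgLib.Perm.Dickson CfsgLib.GW

theorem sq_of_order_two {K : Type*} [Monoid K] {g : K} (h : orderOf g = 2) : g ^ 2 = 1 := by
  rw [← orderOf_dvd_iff_pow_eq_one, h]

theorem mul_self_of_order_two {K : Type*} [Monoid K] {g : K} (h : orderOf g = 2) : g * g = 1 := by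
  rw [← sq, sq_of_order_two h]

theorem pairFix_comm {F : Type*} [Field F] [Finite F] {a b : P2 (Kc F)} (hab : a ≠ b) {g h : G2 F}
    (hg : g ∈ pairFix a b) (hh : h ∈ pairFix a b) : g * h = h * g := by
  haveI := isCyclic_pairFix (F := F) hab
  exact congrArg Subtype.val (IsCyclic.commGroup.mul_comm (⟨g, hg⟩ : pairFix a b) ⟨h, hh⟩)

theorem cent_eq_pairSet {F : Type*} [Field F] [Finite F] {a b : P2 (Kc F)} (hab : a ≠ b) {g : G2 F}
    (hm : g ∈ pairFix a b) (hg : orderOf g = 2) : centralizer {g} = pairSet a b := by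
  have hg1 : g ≠ 1 := fun h => by rw [h, orderOf_one] at hg; omega
  ext v
  rw [Subgroup.mem_centralizer_singleton_iff]
  constructor
  · exact fun h => mem_pairSet_of_conj hab hm hm hg1 h
  · intro hv
    by_cases hf : v ∈ pairFix a b
    · exact pairFix_comm hab hf hm
    · have h := swap_conj hab hv hf hm
      rw [inv_eq_of_mul_eq_one_right (mul_self_of_order_two hg)] at h
      exact mul_inv_eq_iff_eq_mul.1 h

theorem card_pairSet {F : Type*} [Field F] [Finite F] {a b : P2 (Kc F)} (hgood : GoodPair a b) :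
    Nat.card (pairSet a b) = 2 * Nat.card (pairFix a b) := by
  obtain ⟨w, -, hws, hwf⟩ := CfsgLib.Perm.Dickson.exists_swap hgood
  have h := (dihedral_of_le hgood.1 (isCyclic_pairFix hgood.1) (H := pairSet a b) le_rfl fun h => hwf (h hws)).1
  rwa [inf_eq_right.2 (pairFix_le_pairSet a b)] at h

theorem outer_inv_prod {F : Type*} [Field F] [Finite F] (ho : Odd (Nat.card F)) :
    invCard (Nat.card F) * outerCard (Nat.card F) = (Nat.card F - 1) * (Nat.card F + 1) := by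
  obtain ⟨j, hj⟩ := ho
  have := (Finite.one_lt_card : 1 < Nat.card F)
  unfold invCard outerCard
  split_ifs <;> first | omega | ring

/-- the outer involutions form a class -/
theorem isConj_outer {F : Type*} [Field F] [Finite F] (ho : Odd (Nat.card F)) {g g' : G2 F} (hg : orderOf g = 2)
    (hgn : g ∉ psl F) (hg' : orderOf g' = 2) (hgn' : g' ∉ psl F) : IsConj g g' := by
  classical
  haveI := finite_G2 (F := F)
  obtain ⟨a, b, hgood, hm, -, houter⟩ := exists_invol_torus ho hg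
  set O := MulAction.orbit (ConjAct (G2 F)) g
  have hidx := (MulAction.stabilizer (ConjAct (G2 F)) g).card_mul_index
  have hst : Nat.card (MulAction.stabilizer (ConjAct (G2 F)) g) = 2 * outerCard (Nat.card F) := by
    rw [ConjAct.stabilizer_eq_centralizer, ← houter hgn, ← card_pairSet hgood, ← cent_eq_pairSet hgood.1 hm hg]
    rfl
  rw [MulAction.index_stabilizer, hst, Nat.card_congr ConjAct.ofConjAct.toEquiv, card_G2, mul_assoc (Nat.card F),
    ← outer_inv_prod ho, ← Nat.card_coe_set_eq] at hidx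
  have hn := ncard_outer (F := F) ho
  rw [← Nat.card_coe_set_eq] at hn
  have hsub : O ⊆ {v : G2 F | orderOf v = 2 ∧ v ∉ psl F} := by
    rintro v ⟨c, rfl⟩
    show orderOf (c • g) = 2 ∧ c • g ∉ psl F
    rw [ConjAct.smul_def]
    refine ⟨by rw [← MulAut.conj_apply, MulEquiv.orderOf_eq, hg], fun h => hgn ?_⟩
    simpa [mul_assoc] using (psl_normal F).conj_mem _ h (ConjAct.ofConjAct c)⁻¹
  have hpos : 0 < outerCard (Nat.card F) := Nat.pos_of_ne_zero fun h =>
    outer_not_four ho (by rw [h]; exact dvd_zero 4)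
  have heq : O = {v : G2 F | orderOf v = 2 ∧ v ∉ psl F} := by
    refine Set.eq_of_subset_of_ncard_le hsub ?_ (Set.toFinite _)
    rw [← Nat.card_coe_set_eq, ← Nat.card_coe_set_eq]
    refine le_of_eq (Nat.eq_of_mul_eq_mul_left (mul_pos two_pos hpos) ?_)
    rw [hidx, mul_assoc 2, mul_left_comm 2, hn]
    ring
  obtain ⟨c, hc⟩ : g' ∈ O := heq ▸ ⟨hg', hgn'⟩
  exact isConj_iff.2 ⟨ConjAct.ofConjAct c, by rw [← ConjAct.smul_def]; exact hc⟩

variable {H : Type*} [Group H] [Finite H] {F : Type} [Field F] [Fintype F] (D : Frame H F)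

namespace Frame

/-- `q + ε` -/
noncomputable def k (_ : Frame H F) : ℕ := invCard (Nat.card F)

/-- half of `q - ε` -/
noncomputable def m (_ : Frame H F) : ℕ := outerCard (Nat.card F) / 2

theorem four_dvd_k : 4 ∣ D.k := invCard_four D.odd

theorem k_pos : 0 < D.k := by
  obtain ⟨j, hj⟩ := D.odd
  have := (Finite.one_lt_card : 1 < Nat.card F)
  unfold k invCard
  split_ifs <;> omega

theorem outer_eq : outerCard (Nat.card F) = 2 * D.m := by
  obtain ⟨j, hj⟩ := D.odd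
  unfold m outerCard
  split_ifs <;> omega

theorem odd_m : Odd D.m := by
  rw [← Nat.not_even_iff_odd]
  rintro ⟨a, ha⟩
  exact outer_not_four D.odd ⟨a, by rw [D.outer_eq, ha]; ring⟩

theorem m_pos : 0 < D.m := D.odd_m.pos

theorem z_central : D.z ∈ Subgroup.center H := by
  have hn : (zpowers D.z).Normal := D.ker_eq ▸ MonoidHom.normal_ker _
  refine Subgroup.mem_center_iff.2 fun g => ?_
  obtain ⟨l, hl⟩ := mem_zpowers_iff.1 (hn.conj_mem _ (mem_zpowers D.z) g)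
  rcases Int.even_or_odd l with ⟨a, ha⟩ | ⟨a, ha⟩
  · rw [ha, ← two_mul, zpow_mul, zpow_ofNat, show D.z ^ 2 = 1 from D.ord_z ▸ pow_orderOf_eq_one D.z, one_zpow] at hl
    have h1 : orderOf D.z = 1 := by
      rw [← MulEquiv.orderOf_eq (MulAut.conj g), MulAut.conj_apply, ← hl, orderOf_one]
    rw [D.ord_z] at h1
    omega
  · rw [ha, zpow_add_one, zpow_mul, zpow_ofNat, show D.z ^ 2 = 1 from D.ord_z ▸ pow_orderOf_eq_one D.z, one_zpow,
      one_mul] at hl
    exact (mul_inv_eq_iff_eq_mul.1 hl.symm)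

theorem z_comm (g : H) : Commute D.z g := (Subgroup.mem_center_iff.1 D.z_central g).symm

theorem z_sq : D.z ^ 2 = 1 := D.ord_z ▸ pow_orderOf_eq_one D.z

theorem z_ne : D.z ≠ 1 := fun h => by
  have := D.ord_z
  rw [h, orderOf_one] at this
  omega

theorem π_z : D.π D.z = 1 := by
  rw [← MonoidHom.mem_ker, D.ker_eq]
  exact mem_zpowers _

theorem eq_of_π_eq {a b : H} (h : D.π a = D.π b) : b = a ∨ b = a * D.z := by
  have h1 : a⁻¹ * b ∈ D.π.ker := by rw [MonoidHom.mem_ker, map_mul, map_inv, h, inv_mul_cancel]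
  rw [D.ker_eq] at h1
  obtain ⟨l, hl⟩ := mem_zpowers_iff.1 h1
  rcases Int.even_or_odd l with ⟨c, hc⟩ | ⟨c, hc⟩
  · rw [hc, ← two_mul, zpow_mul, zpow_ofNat, D.z_sq, one_zpow] at hl
    exact Or.inl (inv_mul_eq_one.1 hl.symm).symm
  · rw [hc, zpow_add_one, zpow_mul, zpow_ofNat, D.z_sq, one_zpow, one_mul] at hl
    exact Or.inr (by rw [hl, mul_inv_cancel_left])

theorem card_comap (K : Subgroup (G2 F)) : Nat.card (K.comap D.π) = 2 * Nat.card K := by
  have h1 := (D.π.subgroupComap K).ker.card_mul_index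
  rw [Subgroup.index_ker, MonoidHom.range_eq_top.2 (fun y => by
    obtain ⟨x, hx⟩ := D.surj y.1
    exact ⟨⟨x, by rw [Subgroup.mem_comap, hx]; exact y.2⟩, Subtype.ext hx⟩), Subgroup.card_top] at h1
  have hk : Nat.card (D.π.subgroupComap K).ker = 2 := by
    rw [show (D.π.subgroupComap K).ker = D.π.ker.subgroupOf (K.comap D.π) by
      ext x; exact ⟨fun h => congrArg Subtype.val h, fun h => Subtype.ext h⟩]
    rw [Nat.card_congr (Subgroup.subgroupOfEquivOfLe (Subgroup.ker_le_comap _ _)).toEquiv, D.ker_eq,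
      Nat.card_zpowers, D.ord_z]
  rw [← h1, hk]

theorem card_H : Nat.card H = 4 * Nat.card F * D.k * D.m := by
  have h := D.card_comap ⊤
  rw [Subgroup.comap_top, Subgroup.card_top, Subgroup.card_top, card_G2, mul_assoc (Nat.card F),
    ← outer_inv_prod D.odd, D.outer_eq] at h
  rw [h, k]
  ring

theorem not_dvd_k : ¬ 2 * 2 ^ D.j ∣ D.k := fun h => D.not_dvd (by
  rw [D.card_H, show 8 * 2 ^ D.j = 4 * (2 * 2 ^ D.j) by ring, show 4 * Nat.card F * D.k * D.m =
    4 * (D.k * (Nat.card F * D.m)) by ring]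
  exact Nat.mul_dvd_mul_left 4 (h.mul_right _))

theorem τ_sq : D.τ * D.τ = 1 := by rw [← sq, ← D.ord_τ, pow_orderOf_eq_one]

theorem τ_inv : D.τ⁻¹ = D.τ := inv_eq_of_mul_eq_one_right D.τ_sq

theorem orderOf_π_σ : orderOf (D.π D.σ) = 2 ^ D.j := by
  obtain ⟨i, hi, he⟩ := (Nat.dvd_prime_pow Nat.prime_two).1 (orderOf_dvd_of_pow_eq_one
    (show D.π D.σ ^ 2 ^ D.j = 1 by rw [← map_pow, D.σ_pow, D.π_z]))
  rw [he]
  rcases hi.lt_or_eq with hlt | rfl
  swap
  · rfl
  exfalso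
  have h1 : D.π (D.σ ^ 2 ^ i) = D.π 1 := by rw [map_pow, ← he, pow_orderOf_eq_one, map_one]
  have h2 : (D.σ ^ 2 ^ i) ^ 2 = 1 := by
    rcases D.eq_of_π_eq h1 with h | h
    · rw [← h, one_pow]
    · have : D.σ ^ 2 ^ i = D.z⁻¹ := eq_inv_of_mul_eq_one_left h.symm
      rw [this, inv_pow, D.z_sq, inv_one]
  rw [← pow_mul, ← pow_succ] at h2
  have h3 := orderOf_dvd_of_pow_eq_one h2
  rw [D.ord_σ, ← pow_succ', Nat.pow_dvd_pow_iff_le_right (by norm_num)] at h3
  omega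

theorem exists_gen : ∃ (e : H) (a b : P2 (Kc F)), GoodPair a b ∧ orderOf e = 2 * D.k ∧
    (pairFix a b).comap D.π = zpowers e ∧ e ^ D.k = D.z ∧ D.τ * e * D.τ⁻¹ = D.z * e⁻¹ ∧
    D.π D.τ ∈ pairSet a b ∧ D.π D.τ ∉ pairFix a b ∧ e ∉ commutator H := by
  classical
  haveI := finite_G2 (F := F)
  obtain ⟨a, b, hgood, hσ, hcard⟩ := exists_inner_torus D.odd D.orderOf_π_σ D.hj
  haveI := isCyclic_pairFix (F := F) hgood.1
  obtain ⟨c, hc⟩ := IsCyclic.exists_ofOrder_eq_natCard (α := pairFix a b)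
  obtain ⟨e, he⟩ := D.surj (c : G2 F)
  have heo : orderOf (D.π e) = D.k := by rw [he, Subgroup.orderOf_coe, hc, hcard]; rfl
  have hE : ∀ x, x ∈ (pairFix a b).comap D.π → ∃ i : ℕ, x = e ^ i ∨ x = e ^ i * D.z := by
    intro x hx
    obtain ⟨i, hi⟩ : (⟨D.π x, hx⟩ : pairFix a b) ∈ Submonoid.powers c := by
      rw [mem_powers_iff_mem_zpowers, Subgroup.eq_top_of_card_eq (zpowers c) (by rw [Nat.card_zpowers, hc])]
      trivial
    refine ⟨i, D.eq_of_π_eq ?_⟩
    rw [map_pow, he]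
    exact congrArg Subtype.val hi
  obtain ⟨a4, ha4⟩ := D.four_dvd_k
  have hk0 := D.k_pos
  have hek : e ^ D.k = D.z := by
    rcases D.eq_of_π_eq (a := 1) (b := e ^ D.k) (by rw [map_one, map_pow, ← heo, pow_orderOf_eq_one]) with h | h
    · exfalso
      refine D.not_dvd_k ?_
      rw [← D.ord_σ]
      refine orderOf_dvd_of_pow_eq_one ?_
      obtain ⟨i, hi | hi⟩ := hE D.σ hσ
      · rw [hi, ← pow_mul, mul_comm, pow_mul, h, one_pow]
      · rw [hi, (D.z_comm _).symm.mul_pow, ← pow_mul, mul_comm, pow_mul, h, one_pow, one_mul, ha4,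
          show 4 * a4 = 2 * (2 * a4) by ring, pow_mul, D.z_sq, one_pow]
    · rw [h, one_mul]
  have heord : orderOf e = 2 * D.k := by
    obtain ⟨l, hl⟩ : D.k ∣ orderOf e := heo ▸ orderOf_map_dvd _ e
    have h2 : orderOf e ∣ 2 * D.k := orderOf_dvd_of_pow_eq_one (by rw [mul_comm, pow_mul, hek, D.z_sq])
    rw [hl, mul_comm 2] at h2
    rcases (Nat.dvd_prime Nat.prime_two).1 ((Nat.mul_dvd_mul_iff_left hk0).1 h2) with rfl | rfl
    · exfalso
      rw [mul_one] at hl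
      exact D.z_ne (by rw [← hek, ← hl, pow_orderOf_eq_one])
    · rw [hl, mul_comm]
  have hEe : (pairFix a b).comap D.π = zpowers e := by
    refine le_antisymm (fun x hx => ?_) (zpowers_le.2 (by rw [Subgroup.mem_comap, he]; exact c.2))
    obtain ⟨i, hi | hi⟩ := hE x hx <;> rw [hi]
    · exact pow_mem (mem_zpowers e) i
    · exact mul_mem (pow_mem (mem_zpowers e) i) (hek ▸ pow_mem (mem_zpowers e) _)
  -- the outer involution swaps
  have hτc : D.π D.τ * D.π D.σ = D.π D.σ ^ (2 ^ D.j - 1) * D.π D.τ := by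
    rw [← map_pow, ← map_mul, ← map_mul, ← D.conj, inv_mul_cancel_right]
  have hj4 : 4 ≤ 2 ^ D.j := le_trans (by norm_num) (Nat.pow_le_pow_right two_pos D.hj : 2 ^ 2 ≤ 2 ^ D.j)
  have hτs : D.π D.τ ∈ pairSet a b := mem_pairSet_of_conj hgood.1 hσ (pow_mem hσ _)
    (pow_ne_one_of_lt_orderOf (by omega) (by rw [D.orderOf_π_σ]; omega)) hτc
  have hτn : D.π D.τ ∉ pairFix a b := fun h => by
    rw [pairFix_comm hgood.1 h hσ, mul_right_cancel_iff] at hτc
    have h1 : D.π D.σ ^ (2 ^ D.j - 2) = 1 := by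
      refine mul_left_cancel (a := D.π D.σ) ?_
      rw [← pow_succ', show 2 ^ D.j - 2 + 1 = 2 ^ D.j - 1 by omega, ← hτc, mul_one]
    exact pow_ne_one_of_lt_orderOf (by omega) (by rw [D.orderOf_π_σ]; omega) h1
  have hτe : D.τ * e * D.τ⁻¹ = D.z * e⁻¹ := by
    have h1 : D.π (e⁻¹) = D.π (D.τ * e * D.τ⁻¹) := by
      rw [map_inv, map_mul, map_mul, map_inv, swap_conj hgood.1 hτs hτn (he ▸ c.2)]
    rcases D.eq_of_π_eq h1 with h | h
    · exfalso
      obtain ⟨i, hi⟩ := mem_zpowers_iff.1 (hEe ▸ (show D.σ ∈ (pairFix a b).comap D.π from hσ))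
      have h2 : D.τ * D.σ * D.τ⁻¹ = D.σ⁻¹ := by rw [← hi, ← conj_zpow, h, inv_zpow]
      rw [D.conj, ← mul_eq_one_iff_eq_inv, ← pow_succ, Nat.sub_add_cancel (by omega), D.σ_pow] at h2
      exact D.z_ne h2
    · rw [h, (D.z_comm _).symm.eq]
  refine ⟨e, a, b, hgood, heord, hEe, hek, hτe, hτs, hτn, fun h => ?_⟩
  obtain ⟨v, hv, hvn⟩ := exists_not_mem_psl D.odd hgood
  rw [D.comm_eq, Subgroup.mem_comap] at h
  obtain ⟨x, rfl⟩ := D.surj v
  obtain ⟨i, hi⟩ := mem_zpowers_iff.1 (hEe ▸ (show x ∈ (pairFix a b).comap D.π from hv))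
  exact hvn (by rw [← hi, map_zpow]; exact zpow_mem h i)

/-- a generator of the cyclic group over the torus -/
noncomputable def e : H := D.exists_gen.choose

theorem gen_spec : ∃ a b : P2 (Kc F), GoodPair a b ∧ orderOf D.e = 2 * D.k ∧
    (pairFix a b).comap D.π = zpowers D.e ∧ D.e ^ D.k = D.z ∧ D.τ * D.e * D.τ⁻¹ = D.z * D.e⁻¹ ∧
    D.π D.τ ∈ pairSet a b ∧ D.π D.τ ∉ pairFix a b ∧ D.e ∉ commutator H := D.exists_gen.choose_spec

theorem ord_e : orderOf D.e = 2 * D.k := by obtain ⟨a, b, -, h, -⟩ := D.gen_spec; exact h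

theorem e_pow_k : D.e ^ D.k = D.z := by obtain ⟨a, b, -, -, -, h, -⟩ := D.gen_spec; exact h

theorem conj_e : D.τ * D.e * D.τ⁻¹ = D.z * D.e⁻¹ := by obtain ⟨a, b, -, -, -, -, h, -⟩ := D.gen_spec; exact h

theorem e_not_mem : D.e ∉ commutator H := by obtain ⟨a, b, -, -, -, -, -, -, -, h⟩ := D.gen_spec; exact h

theorem conj_e_pow (i : ℕ) : D.τ * D.e ^ i * D.τ⁻¹ = D.z ^ i * (D.e ^ i)⁻¹ := by
  rw [← conj_pow, D.conj_e, (D.z_comm _).mul_pow, inv_pow]

theorem τ_not_mem : D.τ ∉ zpowers D.e := fun h => by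
  obtain ⟨a, b, -, -, hE, -, -, -, hτn, -⟩ := D.gen_spec
  exact hτn (Subgroup.mem_comap.1 (hE ▸ h))

include D in
theorem index_comm : (commutator H).index = 2 := by
  rw [D.comm_eq, Subgroup.index_comap_of_surjective _ D.surj, index_psl_eq, gcd_odd D.odd]

theorem e_pow_mem (i : ℕ) : D.e ^ i ∈ commutator H ↔ Even i :=
  pow_mem_iff_of_index_two D.index_comm D.e_not_mem i

theorem e_pow_eq_one {i : ℕ} : D.e ^ i = 1 ↔ 2 * D.k ∣ i := by rw [← orderOf_dvd_iff_pow_eq_one, D.ord_e]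

theorem π_e_pow_ne {i : ℕ} (hi : ¬ D.k ∣ i) : D.π (D.e ^ i) ≠ 1 := fun h => hi (by
  rcases D.eq_of_π_eq (a := 1) (b := D.e ^ i) (by rw [h, map_one]) with h1 | h1
  · exact (dvd_mul_left _ 2).trans (D.e_pow_eq_one.1 h1)
  · rw [one_mul, ← D.e_pow_k, pow_eq_pow_iff_modEq, D.ord_e] at h1
    exact (Nat.ModEq.dvd_iff h1 (dvd_mul_left _ _)).2 dvd_rfl)

/-- elements conjugating into the cyclic group stay in its normaliser -/
theorem mem_of_conj {g : H} {i : ℕ} (hi : ¬ D.k ∣ i) (h : g * D.e ^ i * g⁻¹ ∈ zpowers D.e) :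
    g ∈ zpowers D.e ∨ ∃ x ∈ zpowers D.e, g = D.τ * x := by
  obtain ⟨a, b, hgood, -, hE, -, -, hτs, hτn, -⟩ := D.gen_spec
  rw [← hE] at h ⊢
  have hm : D.e ^ i ∈ (pairFix a b).comap D.π := hE.symm ▸ pow_mem (mem_zpowers D.e) i
  have hs : D.π g ∈ pairSet a b := mem_pairSet_of_conj hgood.1 (Subgroup.mem_comap.1 hm) (Subgroup.mem_comap.1 h)
    (by rw [map_mul, map_mul, map_inv, Ne, conj_eq_one_iff]; exact D.π_e_pow_ne hi)
    (by rw [← map_mul, ← map_mul, inv_mul_cancel_right])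
  by_cases hf : D.π g ∈ pairFix a b
  · exact Or.inl hf
  · refine Or.inr ⟨D.τ⁻¹ * g, ?_, (mul_inv_cancel_left _ _).symm⟩
    rw [Subgroup.mem_comap, map_mul, map_inv]
    exact mul_swap_mem hτs hτn hs hf

/-- the centraliser of a power of `e` -/
theorem commute_e_pow {g : H} {i : ℕ} (hi : ¬ D.k ∣ i) (h : Commute g (D.e ^ i)) : g ∈ zpowers D.e := by
  have hm : g * D.e ^ i * g⁻¹ ∈ zpowers D.e := by rw [h.eq, mul_inv_cancel_right]; exact pow_mem (mem_zpowers _) _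
  rcases D.mem_of_conj hi hm with h1 | ⟨x, hx, rfl⟩
  · exact h1
  exfalso
  have h2 : D.τ * D.e ^ i * D.τ⁻¹ = D.e ^ i := by
    have hxc : Commute x (D.e ^ i) := by
      obtain ⟨l, rfl⟩ := mem_zpowers_iff.1 hx
      exact ((Commute.refl D.e).zpow_left l).pow_right i
    calc D.τ * D.e ^ i * D.τ⁻¹ = D.τ * (x * D.e ^ i * x⁻¹) * D.τ⁻¹ := by rw [hxc.eq, mul_inv_cancel_right]
      _ = D.τ * x * D.e ^ i * (D.τ * x)⁻¹ := by group
      _ = D.e ^ i := by rw [h.eq, mul_inv_cancel_right]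
  rw [D.conj_e_pow, mul_inv_eq_iff_eq_mul, ← D.e_pow_k, ← pow_mul, ← pow_add, pow_eq_pow_iff_modEq, D.ord_e,
    Nat.modEq_iff_dvd] at h2
  obtain ⟨c, hc⟩ := h2
  obtain ⟨a, ha⟩ := D.four_dvd_k
  push_cast at hc
  refine hi ?_
  rw [← Int.natCast_dvd_natCast, ha]
  rw [ha] at hc
  push_cast at hc ⊢
  refine ⟨(a : ℤ) * i - (-c) * (2 * a + 1), ?_⟩
  have hc' : (i : ℤ) - 2 * a * i = 4 * a * c := by linarith
  linear_combination (2 * (a : ℤ) + 1) * hc'

/-- the involutions of the coset of the cyclic group -/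
theorem coset_sq (l : ℕ) : (D.τ * D.e ^ l) * (D.τ * D.e ^ l) = D.z ^ l := by
  calc (D.τ * D.e ^ l) * (D.τ * D.e ^ l) = (D.τ * D.e ^ l * D.τ⁻¹) * (D.τ * D.τ) * D.e ^ l := by group
    _ = D.z ^ l := by rw [D.conj_e_pow, D.τ_sq, mul_one, inv_mul_cancel_right]

/-- outer involutions are conjugate to `τ` -/
theorem z_twist : ∃ w : H, w * D.τ * w⁻¹ = D.τ * D.z := by
  obtain ⟨b, hb⟩ : ∃ b, 2 ^ D.j = 4 * b := ⟨2 ^ (D.j - 2), by
    rw [show (4 : ℕ) = 2 ^ 2 by norm_num, ← pow_add, show 2 + (D.j - 2) = D.j by have := D.hj; omega]⟩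
  have hb0 : 0 < b := by have := Nat.one_le_two_pow (n := D.j); omega
  refine ⟨D.σ ^ (2 * b), ?_⟩
  have hc : D.τ⁻¹ * D.σ ^ (2 * b) * D.τ = D.σ ^ ((4 * b - 1) * (2 * b)) := by
    rw [D.τ_inv, pow_mul D.σ (4 * b - 1), ← hb, ← D.conj, conj_pow, D.τ_inv]
  calc D.σ ^ (2 * b) * D.τ * (D.σ ^ (2 * b))⁻¹
      = D.τ * ((D.τ⁻¹ * D.σ ^ (2 * b) * D.τ) * (D.σ ^ (2 * b))⁻¹) := by group
    _ = D.τ * D.z := by
      rw [hc, ← D.σ_pow]
      congr 1
      rw [mul_inv_eq_iff_eq_mul, ← pow_add, pow_eq_pow_iff_modEq, D.ord_σ, hb, Nat.modEq_iff_dvd]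
      refine ⟨1 - b, ?_⟩
      push_cast [Nat.cast_sub (show 1 ≤ 4 * b by omega)]
      ring

/-- the involutions other than `z` -/
def IsOuter (t : H) : Prop := orderOf t = 2 ∧ t ≠ D.z

theorem isOuter_τ : D.IsOuter D.τ := ⟨D.ord_τ, D.τ_ne⟩

theorem IsOuter.π_spec {t : H} (ht : D.IsOuter t) : orderOf (D.π t) = 2 ∧ D.π t ∉ psl F := by
  have hn : D.π t ∉ psl F := fun h => ht.2 (D.invol t ht.1 h)
  refine ⟨orderOf_eq_prime ?_ fun h => hn (h ▸ one_mem _), hn⟩
  rw [← map_pow, sq_of_order_two ht.1, map_one]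

theorem isOuter_conj {t : H} (ht : D.IsOuter t) (g : H) : D.IsOuter (g * t * g⁻¹) := by
  refine ⟨by rw [← MulAut.conj_apply, MulEquiv.orderOf_eq, ht.1], fun h => ht.2 ?_⟩
  calc t = g⁻¹ * (g * t * g⁻¹) * g := by group
    _ = D.z := by rw [h, (D.z_comm g⁻¹).symm.eq, inv_mul_cancel_right]

theorem exists_conj {t : H} (ht : orderOf (D.π t) = 2 ∧ D.π t ∉ psl F) : ∃ g : H, g * D.τ * g⁻¹ = t := by
  obtain ⟨c, hc⟩ := isConj_iff.1 (isConj_outer D.odd (IsOuter.π_spec D D.isOuter_τ).1 (IsOuter.π_spec D D.isOuter_τ).2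
    ht.1 ht.2)
  obtain ⟨g, rfl⟩ := D.surj c
  obtain ⟨w, hw⟩ := D.z_twist
  rw [← map_inv, ← map_mul, ← map_mul] at hc
  rcases D.eq_of_π_eq hc with h | h
  · exact ⟨g, h.symm⟩
  · refine ⟨g * w, ?_⟩
    rw [h, show g * w * D.τ * (g * w)⁻¹ = g * (w * D.τ * w⁻¹) * g⁻¹ by group, hw]
    calc g * (D.τ * D.z) * g⁻¹ = g * D.τ * (D.z * g⁻¹) := by group
      _ = g * D.τ * g⁻¹ * D.z := by rw [(D.z_comm g⁻¹).eq]; group

theorem isOuter_iff {t : H} : D.IsOuter t ↔ orderOf (D.π t) = 2 ∧ D.π t ∉ psl F := by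
  refine ⟨IsOuter.π_spec D, fun h => ?_⟩
  obtain ⟨g, rfl⟩ := D.exists_conj h
  exact D.isOuter_conj D.isOuter_τ g

theorem isOuter.isConj {t : H} (ht : D.IsOuter t) : ∃ g : H, g * D.τ * g⁻¹ = t :=
  D.exists_conj (IsOuter.π_spec D ht)

/-- the number of outer involutions -/
theorem card_outer : Nat.card {t : H // D.IsOuter t} = Nat.card F * D.k := by
  classical
  haveI := finite_G2 (F := F)
  have hn := ncard_outer (F := F) D.odd
  rw [← Nat.card_coe_set_eq] at hn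
  show _ = Nat.card F * invCard (Nat.card F)
  rw [← hn]
  set T : Set (G2 F) := {g | orderOf g = 2 ∧ g ∉ psl F} with hT
  choose s hs using fun v : T => D.surj v.1
  have hfin : Nat.card (T × Fin 2) = 2 * Nat.card T := by rw [Nat.card_prod, Nat.card_fin, mul_comm]
  rw [← hfin]
  refine (Nat.card_eq_of_bijective (fun p : T × Fin 2 => (⟨s p.1 * D.z ^ (p.2 : ℕ), D.isOuter_iff.2 ?_⟩ :
    {t : H // D.IsOuter t})) ⟨?_, ?_⟩).symm
  · rw [map_mul, map_pow, D.π_z, one_pow, mul_one, hs]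
    exact p.1.2
  · rintro ⟨v, i⟩ ⟨v', i'⟩ h
    have h' : s v * D.z ^ (i : ℕ) = s v' * D.z ^ (i' : ℕ) := congrArg Subtype.val h
    have hv : v = v' := Subtype.ext (by
      have := congrArg D.π h'
      rwa [map_mul, map_mul, map_pow, map_pow, D.π_z, one_pow, one_pow, mul_one, mul_one, hs, hs] at this)
    subst hv
    have h2 := mul_left_cancel h'
    rw [pow_eq_pow_iff_modEq, D.ord_z] at h2
    have : i = i' := by
      refine Fin.ext ?_
      have h3 := i.2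
      have h4 := i'.2
      rw [Nat.ModEq] at h2
      omega
    rw [this]
  · rintro ⟨t, ht⟩
    have ht' := IsOuter.π_spec D ht
    rcases D.eq_of_π_eq (hs ⟨D.π t, ht'⟩) with h | h
    · exact ⟨(⟨D.π t, ht'⟩, 0), Subtype.ext (by simpa using h.symm)⟩
    · exact ⟨(⟨D.π t, ht'⟩, 1), Subtype.ext (by simpa using h.symm)⟩

/-- **the centraliser of an outer involution** -/
theorem exists_cent : ∃ c w : H, orderOf c = D.m ∧ w * D.τ * w⁻¹ = D.τ * D.z ∧ Commute D.τ c ∧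
    w * c * w⁻¹ = c⁻¹ ∧
    (∀ x, Commute x D.τ → ∃ i : ℕ, x = c ^ i ∨ x = c ^ i * D.z ∨ x = c ^ i * D.τ ∨ x = c ^ i * D.τ * D.z) ∧
    (∀ x, ∀ i : ℕ, c ^ i ≠ 1 → Commute x (c ^ i) → Commute x D.τ) := by
  classical
  haveI := finite_G2 (F := F)
  obtain ⟨w, hw⟩ := D.z_twist
  obtain ⟨hto, htn⟩ := IsOuter.π_spec D D.isOuter_τ
  obtain ⟨a, b, hgood, hm, -, houter⟩ := exists_invol_torus D.odd hto
  have hcard : Nat.card (pairFix a b) = 2 * D.m := (houter htn).trans D.outer_eq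
  haveI := isCyclic_pairFix (F := F) hgood.1
  obtain ⟨v, hv⟩ := IsCyclic.exists_ofOrder_eq_natCard (α := pairFix a b)
  obtain ⟨b₀, hb₀⟩ := D.surj (v : G2 F)
  have hb2 : orderOf (D.π b₀) = 2 * D.m := by rw [hb₀, Subgroup.orderOf_coe, hv, hcard]
  -- the preimage of the torus is abelian
  have hgen : ∀ x, D.π x ∈ pairFix a b → ∃ i : ℕ, x = b₀ ^ i ∨ x = b₀ ^ i * D.z := by
    intro x hx
    obtain ⟨i, hi⟩ : (⟨D.π x, hx⟩ : pairFix a b) ∈ Submonoid.powers v := by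
      rw [mem_powers_iff_mem_zpowers, Subgroup.eq_top_of_card_eq (zpowers v) (by rw [Nat.card_zpowers, hv])]
      trivial
    refine ⟨i, D.eq_of_π_eq ?_⟩
    rw [map_pow, hb₀]
    exact congrArg Subtype.val hi
  have habel : ∀ x y, D.π x ∈ pairFix a b → D.π y ∈ pairFix a b → Commute x y := by
    intro x y hx hy
    obtain ⟨i, hi⟩ := hgen x hx
    obtain ⟨l, hl⟩ := hgen y hy
    have hbb : Commute (b₀ ^ i) (b₀ ^ l) := (Commute.refl b₀).pow_pow i l
    rcases hi with rfl | rfl <;> rcases hl with rfl | rfl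
    · exact hbb
    · exact hbb.mul_right (D.z_comm _).symm
    · exact hbb.mul_left (D.z_comm _)
    · exact (hbb.mul_right (D.z_comm _).symm).mul_left (D.z_comm _)
  have hws : D.π w ∈ pairSet a b := by
    rw [← cent_eq_pairSet hgood.1 hm hto, Subgroup.mem_centralizer_singleton_iff, ← map_mul, ← map_mul,
      mul_inv_eq_iff_eq_mul.1 hw, map_mul, map_mul, map_mul, D.π_z, mul_one]
  have hwn : D.π w ∉ pairFix a b := fun h => by
    rw [(habel w D.τ h hm).eq, mul_inv_cancel_right, eq_comm, mul_eq_left] at hw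
    exact D.z_ne hw
  have hcent : ∀ x, Commute x D.τ → D.π x ∈ pairFix a b := by
    intro x hx
    have hxs : D.π x ∈ pairSet a b := by
      rw [← cent_eq_pairSet hgood.1 hm hto, Subgroup.mem_centralizer_singleton_iff, ← map_mul, ← map_mul, hx.eq]
    by_contra hxn
    have hxw : Commute (x * w) D.τ := habel _ _
      (by rw [map_mul]; exact mul_mem_of_swap hxs hxn hws hwn) hm
    have hwc : Commute w D.τ := by
      have := (Commute.inv_left hx).mul_left hxw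
      rwa [inv_mul_cancel_left] at this
    rw [hwc.eq, mul_inv_cancel_right, eq_comm, mul_eq_left] at hw
    exact D.z_ne hw
  set c := b₀ ^ 4 with hc
  have hπc : orderOf (D.π c) = D.m := by
    rw [hc, map_pow, orderOf_pow' _ (by norm_num), hb2]
    have hg : Nat.gcd (2 * D.m) 4 = 2 := by
      rw [show (4 : ℕ) = 2 * 2 by norm_num, Nat.gcd_mul_left, (Nat.coprime_two_right.2 D.odd_m).gcd_eq_one]
    rw [hg, Nat.mul_div_cancel_left _ two_pos]
  have hcm : c ^ D.m = 1 := by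
    rw [hc, ← pow_mul, show 4 * D.m = 2 * D.m * 2 by ring, pow_mul]
    rcases D.eq_of_π_eq (a := 1) (b := b₀ ^ (2 * D.m)) (by rw [map_one, map_pow, ← hb2, pow_orderOf_eq_one])
      with h | h <;> rw [h]
    · rw [one_pow]
    · rw [one_mul, D.z_sq]
  have hco : orderOf c = D.m :=
    Nat.dvd_antisymm (orderOf_dvd_of_pow_eq_one hcm) (hπc ▸ orderOf_map_dvd _ c)
  have hcB : D.π c ∈ pairFix a b := by rw [hc, map_pow, hb₀]; exact pow_mem v.2 4
  have hcτ : Commute D.τ c := habel _ _ hm hcB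
  refine ⟨c, w, hco, hw, hcτ, ?_, ?_, ?_⟩
  · -- inversion
    have h1 : D.π (c⁻¹) = D.π (w * c * w⁻¹) := by
      rw [map_inv, map_mul, map_mul, map_inv, swap_conj hgood.1 hws hwn hcB]
    rcases D.eq_of_π_eq h1 with h | h
    · exact h
    · exfalso
      have h2 : (w * c * w⁻¹) ^ D.m = 1 := by rw [conj_pow, hcm, mul_one, mul_inv_cancel]
      rw [h, (D.z_comm _).symm.mul_pow, inv_pow, hcm, inv_one, one_mul] at h2
      obtain ⟨l, hl⟩ := D.odd_m
      rw [hl, pow_succ, pow_mul, D.z_sq, one_pow, one_mul] at h2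
      exact D.z_ne h2
  · intro x hx
    have hord : orderOf (D.π (c * D.τ)) = 2 * D.m := by
      rw [map_mul, (hcτ.symm.map D.π).orderOf_mul_eq_mul_orderOf_of_coprime
        (by rw [hπc, hto]; exact Nat.coprime_two_right.2 D.odd_m), hπc, hto, mul_comm]
    have hmem : D.π (c * D.τ) ∈ pairFix a b := by rw [map_mul]; exact mul_mem hcB hm
    have htop : (zpowers (D.π (c * D.τ))) = pairFix a b :=
      Subgroup.eq_of_le_of_card_ge (zpowers_le.2 hmem) (by rw [Nat.card_zpowers, hord, hcard])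
    obtain ⟨i, hi⟩ := mem_powers_iff_mem_zpowers.2 (htop.symm ▸ hcent x hx)
    refine ⟨i, ?_⟩
    simp only at hi
    rw [← map_pow, hcτ.symm.mul_pow] at hi
    rcases Nat.even_or_odd i with ⟨l, hl⟩ | ⟨l, hl⟩
    · rw [show D.τ ^ i = 1 by rw [hl, ← two_mul, pow_mul, sq, D.τ_sq, one_pow], mul_one] at hi
      rcases D.eq_of_π_eq hi with h | h
      · exact Or.inl h
      · exact Or.inr (Or.inl h)
    · rw [show D.τ ^ i = D.τ by rw [hl, pow_succ, pow_mul, sq, D.τ_sq, one_pow, one_mul]] at hi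
      rcases D.eq_of_π_eq hi with h | h
      · exact Or.inr (Or.inr (Or.inl h))
      · exact Or.inr (Or.inr (Or.inr h))
  · intro x i hi hx
    have hne : D.π (c ^ i) * D.π (c ^ i) ≠ 1 := by
      rw [map_pow, ← pow_add, Ne, ← orderOf_dvd_iff_pow_eq_one, hπc, ← two_mul]
      intro hd
      exact hi (orderOf_dvd_iff_pow_eq_one.1 (hco ▸ (Nat.coprime_two_right.2 D.odd_m).dvd_of_dvd_mul_left hd))
    exact habel x D.τ (mem_pairFix_of_commute hgood.1 (by rw [map_pow]; exact pow_mem hcB i) hne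
      ((hx.map D.π).symm)) hm

end Frame

end CfsgLib.OddCyc
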