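import Cfsg.Agent.Lib.OddCyc.Torus
import Cfsg.Agent.Lib.GW.XCount
import Cfsg.Prelude.Def_CaseTheorems

/-!
# Groups over `PGL(2, q)` with central kernel of order two and semidihedral Sylow 2-subgroups: the data
-/

set_option autoImplicit false

namespace CfsgLib.OddCyc

open Subgroup Matrix CfsgLib.Perm.Dickson CfsgLib.GW

/-- a group with semidihedral Sylow 2-subgroups over `PGL(2, q)`, `q` an odd prime -/
structure Frame (H : Type*) [Group H] (F : Type) [Field F] [Fintype F] where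
  π : H →* G2 F
  surj : Function.Surjective π
  z : H
  ord_z : orderOf z = 2
  ker_eq : π.ker = zpowers z
  prime : (Nat.card F).Prime
  odd : Odd (Nat.card F)
  comm_eq : commutator H = (psl F).comap π
  invol : ∀ t : H, orderOf t = 2 → π t ∈ psl F → t = z
  σ : H
  τ : H
  j : ℕ
  hj : 2 ≤ j
  ord_σ : orderOf σ = 2 * 2 ^ j
  σ_pow : σ ^ 2 ^ j = z
  ord_τ : orderOf τ = 2
  τ_ne : τ ≠ z
  conj : τ * σ * τ⁻¹ = σ ^ (2 ^ j - 1)
  not_dvd : ¬ 8 * 2 ^ j ∣ Nat.card H

end CfsgLib.OddCyc
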