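import Cfsg.Agent.Lib.OddCyc.FrameDef
import Cfsg.Agent.Lib.GW.XCount
import Cfsg.Agent.Lib.GW.QGroupBase
import Cfsg.Agent.Lib.GW.Setting
import Cfsg.Prelude.Def_CaseTheorems
import Cfsg.Agent.Lib.Classical.SLBasic
import Cfsg.Agent.Lib.Classical.SL2Sylow

/-!
# Groups over `PGL(2, q)` with central kernel of order two and semidihedral Sylow 2-subgroups
-/

set_option autoImplicit false
set_option linter.unusedSectionVars false
set_option linter.style.haveILetI false

namespace CfsgLib.OddCyc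

open Subgroup CfsgLib.Perm.Dickson CfsgLib.GW
open scoped MatrixGroups commutatorElement

theorem card_center_sl_le {F : Type*} [Field F] [Fintype F] : Nat.card (Subgroup.center SL(2, F)) ≤ 2 := by
  rw [CfsgLib.Classical.card_center_sl (by norm_num)]
  exact Nat.le_of_dvd two_pos (Nat.gcd_dvd_left _ _)

variable {H : Type*} [Group H] [Finite H]

/-- a central involution and the semidihedral relations -/
theorem semidihedral_facts {S : Subgroup H} {x y : H} {j : ℕ} (hj : 2 ≤ j) (hx : orderOf x = 2 * 2 ^ j)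
    (hy : orderOf y = 2) (hconj : y * x * y⁻¹ = x ^ (2 ^ j - 1)) (hxS : x ∈ S) (hyS : y ∈ S)
    (hcard : Nat.card S = 2 * (2 * 2 ^ j)) :
    y ∉ zpowers x ∧ x ^ 2 ∈ commutator H ∧
      (∀ w ∈ zpowers x, w ^ 4 = 1 → w ∈ commutator H) ∧
      (∀ u ∈ S, u ∉ zpowers x → ¬ Commute u (x ^ 2)) ∧
      (∀ u ∈ S, orderOf u = 2 → Commute u (x ^ 2) → u = x ^ 2 ^ j) := by
  obtain ⟨a, ha⟩ : ∃ a, 2 ^ j = 4 * a := ⟨2 ^ (j - 2), by
    rw [show (4 : ℕ) = 2 ^ 2 by norm_num, ← pow_add, show 2 + (j - 2) = j by omega]⟩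
  have ha0 : 0 < a := by have := Nat.one_le_two_pow (n := j); omega
  have hc8 : (orderOf x : ℤ) = 8 * (a : ℤ) := by rw [hx, ha]; push_cast; ring
  have hconj' : y * x * y⁻¹ = x ^ (4 * (a : ℤ) - 1) := by
    rw [hconj, ha, ← zpow_natCast, Nat.cast_sub (by omega : 1 ≤ 4 * a)]
    push_cast
    ring_nf
  have hz : ∀ l : ℤ, y * x ^ l * y⁻¹ = x ^ ((4 * (a : ℤ) - 1) * l) := fun l => by
    rw [← conj_zpow, hconj', ← zpow_mul]
  have hyx : y ∉ zpowers x := fun h => by
    obtain ⟨l, hl⟩ := mem_zpowers_iff.1 h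
    have h1 : y * x * y⁻¹ = x := by
      rw [← hl, ← zpow_add_one, ← zpow_neg, ← zpow_add]
      simp
    rw [hconj', ← mul_inv_eq_one, ← zpow_sub_one, ← orderOf_dvd_iff_zpow_eq_one, hc8] at h1
    obtain ⟨c, hc⟩ := h1
    have : (2 : ℤ) = 4 * ((a : ℤ) - 2 * a * c) := by linear_combination (-1 : ℤ) * hc
    omega
  -- the square of `x` is a product of commutators
  have hsq : x ^ 2 ∈ commutator H := by
    have h1 : x ^ (4 * (a : ℤ) - 2) ∈ commutator H := by
      have e : x ^ (4 * (a : ℤ) - 2) = ⁅y, x⁆ := by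
        rw [commutatorElement_def, hconj', ← zpow_sub_one]
        ring_nf
      rw [e]
      exact Subgroup.commutator_mem_commutator (mem_top y) (mem_top x)
    have h2 := zpow_mem h1 (-(2 * (a : ℤ) + 1))
    rw [← zpow_mul, show (4 * (a : ℤ) - 2) * -(2 * (a : ℤ) + 1) = 2 + (8 * (a : ℤ)) * (-a) by ring, zpow_add,
      zpow_mul x (8 * (a : ℤ)), ← hc8, zpow_natCast, pow_orderOf_eq_one, one_zpow, mul_one] at h2
    exact_mod_cast h2
  refine ⟨hyx, hsq, fun w hw hw4 => ?_, ?_, ?_⟩
  · obtain ⟨l, rfl⟩ := mem_zpowers_iff.1 hw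
    rw [← zpow_natCast, ← zpow_mul, ← orderOf_dvd_iff_zpow_eq_one, hc8] at hw4
    obtain ⟨c, hc⟩ := hw4
    push_cast at hc
    rw [show l = ((2 : ℕ) : ℤ) * ((a : ℤ) * c) by push_cast; linarith, zpow_mul, zpow_natCast]
    exact zpow_mem hsq _
  · -- outside the cyclic subgroup
    intro u hu hux hc
    have hidx : ((zpowers x).subgroupOf S).index = 2 := by
      have hle : zpowers x ≤ S := zpowers_le.2 hxS
      have h1 := ((zpowers x).subgroupOf S).card_mul_index
      rw [Nat.card_congr (Subgroup.subgroupOfEquivOfLe hle).toEquiv, Nat.card_zpowers, hx, hcard,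
        mul_comm 2 (2 * 2 ^ j)] at h1
      exact Nat.eq_of_mul_eq_mul_left (by positivity) h1
    have hmem := (Subgroup.mul_mem_iff_of_index_two hidx (a := ⟨y, hyS⟩) (b := ⟨u, hu⟩)).2
      (iff_of_false hyx hux)
    obtain ⟨l, hl⟩ := mem_zpowers_iff.1 (Subgroup.mem_subgroupOf.1 hmem)
    have hu' : u = y⁻¹ * x ^ l := by rw [hl]; simp
    have h1 : Commute y (x ^ (2 : ℤ)) := by
      have h2 : Commute (x ^ l) (x ^ (2 : ℤ)) := (Commute.refl x).zpow_zpow l 2
      have h3 : Commute (u * (x ^ l)⁻¹) (x ^ (2 : ℤ)) := Commute.mul_left (by exact_mod_cast hc) h2.inv_left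
      rw [hu', mul_inv_cancel_right] at h3
      exact Commute.inv_left_iff.1 h3
    have h2 := hz 2
    rw [h1.eq, mul_inv_cancel_right, ← mul_inv_eq_one, ← zpow_neg, ← zpow_add, ← orderOf_dvd_iff_zpow_eq_one,
      hc8] at h2
    obtain ⟨c, hc'⟩ := h2
    have : (4 : ℤ) = 8 * ((a : ℤ) + a * c) := by linear_combination hc'
    omega
  · intro u hu huo hc
    have hux : u ∈ zpowers x := by
      by_contra hux
      have hidx : ((zpowers x).subgroupOf S).index = 2 := by
        have hle : zpowers x ≤ S := zpowers_le.2 hxS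
        have h1 := ((zpowers x).subgroupOf S).card_mul_index
        rw [Nat.card_congr (Subgroup.subgroupOfEquivOfLe hle).toEquiv, Nat.card_zpowers, hx, hcard,
          mul_comm 2 (2 * 2 ^ j)] at h1
        exact Nat.eq_of_mul_eq_mul_left (by positivity) h1
      have hmem := (Subgroup.mul_mem_iff_of_index_two hidx (a := ⟨y, hyS⟩) (b := ⟨u, hu⟩)).2
        (iff_of_false hyx hux)
      obtain ⟨l, hl⟩ := mem_zpowers_iff.1 (Subgroup.mem_subgroupOf.1 hmem)
      have hu' : u = y⁻¹ * x ^ l := by rw [hl]; simp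
      have h1 : Commute y (x ^ (2 : ℤ)) := by
        have h2 : Commute (x ^ l) (x ^ (2 : ℤ)) := (Commute.refl x).zpow_zpow l 2
        have h3 : Commute (u * (x ^ l)⁻¹) (x ^ (2 : ℤ)) :=
          Commute.mul_left (by exact_mod_cast hc) h2.inv_left
        rw [hu', mul_inv_cancel_right] at h3
        exact Commute.inv_left_iff.1 h3
      have h2 := hz 2
      rw [h1.eq, mul_inv_cancel_right, ← mul_inv_eq_one, ← zpow_neg, ← zpow_add, ← orderOf_dvd_iff_zpow_eq_one,
        hc8] at h2
      obtain ⟨c, hc'⟩ := h2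
      have : (4 : ℤ) = 8 * ((a : ℤ) + a * c) := by linear_combination hc'
      omega
    obtain ⟨l, rfl⟩ := mem_zpowers_iff.1 hux
    have h2 : (x ^ l) ^ 2 = 1 := by rw [← huo, pow_orderOf_eq_one]
    rw [← zpow_natCast, ← zpow_mul, ← orderOf_dvd_iff_zpow_eq_one, hc8] at h2
    obtain ⟨c, hc'⟩ := h2
    push_cast at hc'
    have hl : l = (4 * (a : ℤ)) * c := by linarith
    obtain ⟨d, hd⟩ : ∃ d, c = 2 * d + 1 := by
      rcases Int.even_or_odd c with ⟨d, hd⟩ | hd
      · exfalso
        rw [hl, hd, show 4 * (a : ℤ) * (d + d) = 8 * (a : ℤ) * d by ring, zpow_mul, ← hc8, zpow_natCast,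
          pow_orderOf_eq_one, one_zpow, orderOf_one] at huo
        omega
      · exact hd
    rw [hl, hd, show 4 * (a : ℤ) * (2 * d + 1) = 4 * a + 8 * (a : ℤ) * d by ring, zpow_add, zpow_mul x (8 * (a : ℤ)),
      ← hc8, zpow_natCast, pow_orderOf_eq_one, one_zpow, mul_one, ha]
    exact_mod_cast rfl

/-- **the frame of a centraliser of an involution modulo its odd core** -/
theorem exists_frame {F : Type} [Field F] [Fintype F] (ho : Odd (Fintype.card F)) (hp : (Fintype.card F).Prime)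
    (hO : Cfsg.oddCore H = ⊥) (e : commutator H ≃* SL(2, F)) (z : H) (hz : orderOf z = 2)
    (hzc : z ∈ Subgroup.center H) (S : Sylow 2 H) (hS : Cfsg.IsQuasiDihedral (S : Subgroup H)) :
    ∃ D : Frame H F, D.z = z := by
  classical
  haveI : Fact (Nat.Prime 2) := ⟨Nat.prime_two⟩
  obtain ⟨n, hn, hcard, x₀, y₀, hx₀, hy₀, hconj₀⟩ := hS
  obtain ⟨j, rfl⟩ : ∃ j, n = j + 1 := ⟨n - 1, by omega⟩
  have hj : 2 ≤ j := by omega
  set x : H := x₀.1 with hx
  set y : H := y₀.1 with hy
  have hxo : orderOf x = 2 * 2 ^ j := by rw [hx, Subgroup.orderOf_coe, hx₀, pow_succ']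
  have hyo : orderOf y = 2 := by rw [hy, Subgroup.orderOf_coe, hy₀]
  have hconj : y * x * y⁻¹ = x ^ (2 ^ j - 1) := by
    have := congrArg Subtype.val hconj₀
    simpa using this
  have hSc : Nat.card (S : Subgroup H) = 2 * (2 * 2 ^ j) := by rw [hcard, pow_succ', pow_succ']
  obtain ⟨hyx, hsq, hfour, hout, hinv⟩ := semidihedral_facts hj hxo hyo hconj x₀.2 y₀.2 hSc
  -- normal two-subgroups lie in `S`
  have hnormal : ∀ N : Subgroup H, N.Normal → IsPGroup 2 N → N ≤ (S : Subgroup H) := fun N hN hNp => by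
    haveI := hN
    rw [← S.is_maximal' (hNp.to_sup_of_normal_left S.2) le_sup_right]
    exact le_sup_left
  haveI hZn : (zpowers z).Normal := ⟨fun v hv g => by
    obtain ⟨l, rfl⟩ := mem_zpowers_iff.1 hv
    rw [Subgroup.mem_center_iff.1 (zpow_mem hzc l) g, mul_inv_cancel_right]
    exact zpow_mem (mem_zpowers z) l⟩
  have hzS : z ∈ (S : Subgroup H) := hnormal _ hZn
    (IsPGroup.of_card (n := 1) (by rw [Nat.card_zpowers, hz, pow_one])) (mem_zpowers z)
  have hzx : z = x ^ 2 ^ j := hinv z hzS hz ((Subgroup.mem_center_iff.1 hzc (x ^ 2)).symm)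
  have hzL : z ∈ commutator H := by
    refine hfour z (by rw [hzx]; exact pow_mem (mem_zpowers x) _) ?_
    rw [show 4 = 2 * 2 by norm_num, pow_mul, show z ^ 2 = 1 from hz ▸ pow_orderOf_eq_one z, one_pow]
  set L := commutator H with hL
  have hL2 : ∀ M : Subgroup L, M.index ≠ 2 :=
    equiv_no_index_two e (sl2_no_index_two (two_ne_zero_of_odd (by rwa [Nat.card_eq_fintype_card])))
  -- the centre of the linear group
  have hcen : ∀ d : L, d ∈ Subgroup.center L → (d : H) ∈ zpowers z := by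
    intro d hd
    have hle : zpowers (⟨z, hzL⟩ : L) ≤ Subgroup.center L := zpowers_le.2
      (Subgroup.mem_center_iff.2 fun w => Subtype.ext (Subgroup.mem_center_iff.1 hzc w))
    have hc : Nat.card (Subgroup.center L) ≤ 2 :=
      (Nat.card_congr (Subgroup.centerCongr e).toEquiv).trans_le card_center_sl_le
    have heq := Subgroup.eq_of_le_of_card_ge hle (by
      rw [Nat.card_zpowers, Subgroup.orderOf_mk, hz]; exact hc)
    rw [← heq] at hd
    obtain ⟨l, rfl⟩ := mem_zpowers_iff.1 hd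
    exact ⟨l, by simp⟩
  -- the centraliser of the linear group
  set D := centralizer (L : Set H) with hD
  haveI hDn : D.Normal := Subgroup.normal_centralizer
  have hDL : ∀ d ∈ D, d ∈ L → d ∈ zpowers z := fun d hd hdL => hcen ⟨d, hdL⟩
    (Subgroup.mem_center_iff.2 fun w => Subtype.ext (Subgroup.mem_centralizer_iff.1 hd w w.2))
  have hDcomm : ∀ d ∈ D, ∀ d' ∈ D, Odd (orderOf d') → Commute d d' := by
    intro d hd d' hd' hodd
    obtain ⟨l, hl⟩ := mem_zpowers_iff.1 (hDL ⁅d, d'⁆
      (mul_mem (mul_mem (mul_mem hd hd') (inv_mem hd)) (inv_mem hd'))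
      (Subgroup.commutator_mem_commutator (mem_top d) (mem_top d')))
    have hcc : Commute (z ^ l) d' := (Commute.zpow_left (Subgroup.mem_center_iff.1 hzc d').symm l)
    have h1 : d * d' * d⁻¹ = z ^ l * d' := by rw [hl, commutatorElement_def, inv_mul_cancel_right]
    have h2 : (z ^ l) ^ orderOf d' = 1 := by
      have h3 : (d * d' * d⁻¹) ^ orderOf d' = 1 := by rw [conj_pow, pow_orderOf_eq_one, mul_one, mul_inv_cancel]
      rwa [h1, hcc.mul_pow, pow_orderOf_eq_one, mul_one] at h3
    have h4 : z ^ l = 1 := by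
      refine orderOf_eq_one_iff.1 (Nat.eq_one_of_dvd_coprimes (Nat.coprime_two_left.2 hodd) ?_
        (orderOf_dvd_of_pow_eq_one h2))
      rw [← hz]
      exact orderOf_dvd_of_mem_zpowers (zpow_mem (mem_zpowers z) l)
    rw [hl] at h4
    exact commutatorElement_eq_one_iff_commute.1 h4
  let K : Subgroup H :=
    { carrier := {d | d ∈ D ∧ Odd (orderOf d)}
      one_mem' := ⟨one_mem D, by simp⟩
      mul_mem' := fun {a b} ha hb => ⟨mul_mem ha.1 hb.1,
        (ha.2.mul hb.2).of_dvd_nat (((hDcomm a ha.1 b hb.1 hb.2).orderOf_mul_dvd_mul_orderOf))⟩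
      inv_mem' := fun {a} ha => ⟨inv_mem ha.1, by rw [orderOf_inv]; exact ha.2⟩ }
  haveI hKn : K.Normal := ⟨fun d hd g => ⟨hDn.conj_mem _ hd.1 g, by
    rw [← MulAut.conj_apply, MulEquiv.orderOf_eq]; exact hd.2⟩⟩
  have hKodd : Odd (Nat.card K) := by
    rw [← Nat.not_even_iff_odd, even_iff_two_dvd]
    intro h
    obtain ⟨d, hd⟩ := exists_prime_orderOf_dvd_card' 2 h
    have h2 := d.2.2
    rw [Subgroup.orderOf_coe, hd] at h2
    exact Nat.not_even_iff_odd.2 h2 even_two
  have hK1 : ∀ d ∈ D, Odd (orderOf d) → d = 1 := fun d hd ho' =>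
    Subgroup.mem_bot.1 (hO ▸ le_oddCore hKodd (show d ∈ K from ⟨hd, ho'⟩))
  have hDp : IsPGroup 2 D := fun d => by
    obtain ⟨c, o, ho', hco⟩ := Nat.exists_eq_two_pow_mul_odd (n := orderOf (d : H)) (orderOf_pos _).ne'
    refine ⟨c, Subtype.ext ?_⟩
    push_cast
    refine hK1 _ (pow_mem d.2 _) ?_
    rw [orderOf_pow' _ (pow_ne_zero _ two_ne_zero), hco, Nat.gcd_eq_right (Dvd.intro o rfl),
      Nat.mul_div_cancel_left _ (by positivity)]
    exact ho'
  have hDz : ∀ d ∈ D, d ∈ zpowers z := by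
    intro d hd
    have hdS := hnormal D hDn hDp hd
    have hdx : d ∈ zpowers x := by
      by_contra hdx
      exact hout d hdS hdx (Subgroup.mem_centralizer_iff.1 hd _ hsq).symm
    by_contra hdz
    obtain ⟨c, hc⟩ := hDp ⟨d, hd⟩
    obtain ⟨c', -, hc'⟩ := (Nat.dvd_prime_pow Nat.prime_two).1
      (orderOf_dvd_of_pow_eq_one (show d ^ 2 ^ c = 1 from congrArg Subtype.val hc))
    have hc2 : 2 ≤ c' := by
      by_contra hlt
      push Not at hlt
      interval_cases c'
      · exact hdz (by rw [orderOf_eq_one_iff.1 (show orderOf d = 1 by simpa using hc')]; exact one_mem _)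
      · refine hdz ?_
        rw [hinv d hdS (by simpa using hc') (Subgroup.mem_centralizer_iff.1 hd _ hsq).symm, ← hzx]
        exact mem_zpowers z
    set w := d ^ 2 ^ (c' - 2) with hw
    have hwo : orderOf w = 4 := by
      rw [hw, orderOf_pow' _ (pow_ne_zero _ two_ne_zero), hc', Nat.gcd_eq_right (pow_dvd_pow 2 (by omega)),
        Nat.pow_div (by omega) two_pos, show c' - (c' - 2) = 2 by omega]
      norm_num
    have h1 := hDL w (pow_mem hd _) (hfour w (pow_mem hdx _) (hwo ▸ pow_orderOf_eq_one w))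
    have h2 := orderOf_dvd_of_mem_zpowers h1
    rw [hwo, hz] at h2
    norm_num at h2
  -- the quotient
  set mk := QuotientGroup.mk' (zpowers z) with hmk
  have hmks : Function.Surjective mk := QuotientGroup.mk'_surjective _
  haveI : (L.map mk).Normal := (inferInstance : L.Normal).map _ hmks
  have hker : (mk.subgroupMap L).ker = Subgroup.center L := by
    ext d
    rw [MonoidHom.mem_ker, Subgroup.mem_center_iff, Subtype.ext_iff]
    show QuotientGroup.mk' (zpowers z) (d : H) = 1 ↔ _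
    rw [QuotientGroup.mk'_apply, QuotientGroup.eq_one_iff]
    refine ⟨fun h w => Subtype.ext ?_, fun h => hcen d (Subgroup.mem_center_iff.2 h)⟩
    obtain ⟨l, hl⟩ := mem_zpowers_iff.1 h
    simp only [Subgroup.coe_mul]
    rw [← hl]
    exact Subgroup.mem_center_iff.1 (zpow_mem hzc l) w
  let e1 : ↥(L.map mk) ≃* Matrix.ProjectiveSpecialLinearGroup (Fin 2) F :=
    ((QuotientGroup.quotientKerEquivOfSurjective _ (mk.subgroupMap_surjective L)).symm.trans
      (QuotientGroup.quotientMulEquivOfEq hker)).trans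
      (QuotientGroup.congr _ _ e (by
        ext v
        constructor
        · rintro ⟨u, hu, rfl⟩
          exact (Subgroup.centerCongr e ⟨u, hu⟩).2
        · intro hv
          exact ⟨e.symm v, (Subgroup.centerCongr e.symm ⟨v, hv⟩).2, e.apply_symm_apply v⟩))
  have h2F : (2 : F) ≠ 0 := two_ne_zero_of_odd (by rwa [Nat.card_eq_fintype_card])
  have hCM : Subgroup.centralizer ((L.map mk : Subgroup (H ⧸ zpowers z)) : Set (H ⧸ zpowers z)) = ⊥ := by
    refine (Subgroup.eq_bot_iff_forall _).2 fun v hv => ?_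
    obtain ⟨g, rfl⟩ := hmks v
    rw [hmk, QuotientGroup.mk'_apply, QuotientGroup.eq_one_iff]
    have hcomm : ∀ l : L, ⁅g, (l : H)⁆ ∈ zpowers z := fun l => by
      rw [← QuotientGroup.eq_one_iff, ← QuotientGroup.mk'_apply, ← hmk, map_commutatorElement,
        commutatorElement_eq_one_iff_mul_comm]
      exact (Subgroup.mem_centralizer_iff.1 hv (mk l) (Subgroup.mem_map_of_mem mk l.2)).symm
    let f : L →* zpowers z :=
      { toFun := fun l => ⟨_, hcomm l⟩
        map_one' := Subtype.ext (by simp)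
        map_mul' := fun a b => Subtype.ext (by
          show ⁅g, (a : H) * b⁆ = ⁅g, (a : H)⁆ * ⁅g, (b : H)⁆
          obtain ⟨l, hl⟩ := mem_zpowers_iff.1 (hcomm b)
          have h := Subgroup.mem_center_iff.1 (zpow_mem hzc l) (a : H)
          rw [hl] at h
          calc ⁅g, (a : H) * b⁆ = ⁅g, (a : H)⁆ * ((a : H) * ⁅g, (b : H)⁆ * (a : H)⁻¹) := by
                simp only [commutatorElement_def]; group
            _ = _ := by rw [h, mul_inv_cancel_right]) }
    have hf : f.ker = ⊤ := by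
      rw [← Subgroup.index_eq_one]
      have hd : f.ker.index ∣ 2 := by
        rw [Subgroup.index_ker]
        exact (Subgroup.card_subgroup_dvd_card _).trans (by rw [Nat.card_zpowers, hz])
      exact ((Nat.dvd_prime Nat.prime_two).1 hd).resolve_right (hL2 _)
    refine hDz g (Subgroup.mem_centralizer_iff.2 fun l hl => ?_)
    have h3 : f ⟨l, hl⟩ = 1 := MonoidHom.mem_ker.1 (hf.symm ▸ mem_top _ : (⟨l, hl⟩ : L) ∈ f.ker)
    have h4 : ⁅g, l⁆ = 1 := congrArg Subtype.val h3
    exact (commutatorElement_eq_one_iff_mul_comm.1 h4).symm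
  have key : ∀ v v' : SL(2, F), orderOf v = 2 → orderOf v' = 2 → v = v' := by
    have key' : ∀ v : SL(2, F), orderOf v = 2 → v.1 = -1 := fun v hv =>
      CfsgLib.Classical.involution_eq_neg_one h2F (fun h1 : v = 1 => by rw [h1, orderOf_one] at hv; omega)
        ((sq v).symm.trans (orderOf_dvd_iff_pow_eq_one.1 hv.dvd))
    exact fun v v' hv hv' => Subtype.ext ((key' v hv).trans (key' v' hv').symm)
  have hd1 : CfsgLib.GW.diagPart (L.map mk) e1 = ⊤ := by
    haveI := ringAut_subsingleton hp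
    rw [← Subgroup.index_eq_one]
    refine Nat.dvd_one.1 ?_
    have := CfsgLib.GW.index_diagPart_dvd (L.map mk) e1
    rwa [Nat.card_unique] at this
  have hM2 : (L.map mk).index = 2 * (CfsgLib.GW.diagPart (L.map mk) e1).index := by
    refine (CfsgLib.GW.index_cases (L.map mk) e1 hCM h2F).resolve_left fun h => ?_
    rw [hd1, Subgroup.index_top, Subgroup.index_eq_one] at h
    -- an involution outside the linear group
    have hyL : y ∈ L := by
      obtain ⟨l, hl, hly⟩ : mk y ∈ L.map mk := h ▸ mem_top _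
      rw [hmk, QuotientGroup.mk'_apply, QuotientGroup.mk'_apply, QuotientGroup.eq] at hly
      obtain ⟨i, hi⟩ := mem_zpowers_iff.1 hly
      rw [show y = l * z ^ i by rw [hi, mul_inv_cancel_left]]
      exact mul_mem hl (zpow_mem hzL i)
    have huniq : ∀ a b : L, orderOf a = 2 → orderOf b = 2 → a = b := by
      intro a b ha hb
      exact e.injective (key _ _ (by rw [MulEquiv.orderOf_eq, ha]) (by rw [MulEquiv.orderOf_eq, hb]))
    have : y = z := congrArg Subtype.val (huniq ⟨y, hyL⟩ ⟨z, hzL⟩ (by rw [Subgroup.orderOf_mk, hyo])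
      (by rw [Subgroup.orderOf_mk, hz]))
    exact hyx (by rw [this, hzx]; exact pow_mem (mem_zpowers x) _)
  let emb : H →* ↥(CfsgLib.GW.diagPart (L.map mk) e1) := mk.codRestrict _ fun g => hd1 ▸ mem_top _
  have hembs : Function.Surjective emb := fun v => by
    obtain ⟨g, hg⟩ := hmks v.1
    exact ⟨g, Subtype.ext hg⟩
  set π := (CfsgLib.GW.toG (L.map mk) e1).comp emb with hπ
  have hπs : Function.Surjective π := (CfsgLib.GW.toG_bijective _ e1 hCM h2F hM2).2.comp hembs
  have hmem : ∀ g : H, g ∈ L ↔ π g ∈ psl F := fun g => by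
    rw [hπ, MonoidHom.comp_apply, ← CfsgLib.GW.mem_iff_toG _ e1 hCM h2F]
    show g ∈ L ↔ mk g ∈ L.map mk
    rw [← Subgroup.mem_comap, Subgroup.comap_map_eq, hmk, QuotientGroup.ker_mk',
      sup_eq_left.2 (zpowers_le.2 hzL)]
  have hπk : π.ker = zpowers z := by
    ext g
    rw [MonoidHom.mem_ker, hπ, MonoidHom.comp_apply,
      map_eq_one_iff _ (CfsgLib.GW.toG_injective _ e1 hCM), Subtype.ext_iff]
    show mk g = 1 ↔ _
    rw [hmk, QuotientGroup.mk'_apply, QuotientGroup.eq_one_iff]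
  refine ⟨{ π := π, surj := hπs, z := z, ord_z := hz, ker_eq := hπk,
            prime := by rwa [Nat.card_eq_fintype_card], odd := by rwa [Nat.card_eq_fintype_card],
            comm_eq := Subgroup.ext fun g => (hmem g).trans Iff.rfl, invol := ?_, σ := x, τ := y, j := j,
            hj := hj, ord_σ := hxo, σ_pow := hzx.symm, ord_τ := hyo,
            τ_ne := fun h => hyx (h ▸ hzx ▸ pow_mem (mem_zpowers x) _), conj := hconj, not_dvd := ?_ }, rfl⟩
  · intro t ht htp
    exact congrArg Subtype.val (e.injective (key (e ⟨t, (hmem t).2 htp⟩) (e ⟨z, hzL⟩)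
      (by rw [MulEquiv.orderOf_eq, Subgroup.orderOf_mk, ht]) (by rw [MulEquiv.orderOf_eq, Subgroup.orderOf_mk, hz])))
  · intro h
    refine S.not_dvd_index ?_
    rw [← (S : Subgroup H).card_mul_index, hSc, show 8 * 2 ^ j = 2 * (2 * 2 ^ j) * 2 by ring] at h
    exact Nat.dvd_of_mul_dvd_mul_left (by positivity) h

end CfsgLib.OddCyc
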