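import Cfsg.Agent.Lib.OddCyc.Frame
import Cfsg.Agent.Lib.Invol.InvolCentralizer
import Mathlib.GroupTheory.FixedPointFree

/-!
# The centraliser of an involution in a minimal counterexample with semidihedral Sylow 2-subgroups
-/

set_option autoImplicit false
set_option linter.unusedSectionVars false
set_option linter.style.haveILetI false

namespace CfsgLib.OddCyc

open Subgroup
open scoped commutatorElement

universe u

/-- an element normalising a subgroup of odd prime order, of that order, lies in it -/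
theorem OddCyclic.mem_zpowers_of_normalizes {G : Type*} [Group G] [Finite G] (hG : OddCyclic G) {r : ℕ}
    (hr : r.Prime) (h2 : r ≠ 2) {x y : G} (hx : orderOf x = r) (hy : y ^ r = 1)
    (hn : y ∈ normalizer (zpowers x : Set G)) : y ∈ zpowers x := by
  haveI := Fact.mk hr
  have hpx : IsPGroup r (zpowers x) := IsPGroup.of_card (n := 1) (by rw [Nat.card_zpowers, hx, pow_one])
  have hpy : IsPGroup r (zpowers y) := by
    obtain ⟨i, -, hi⟩ := (Nat.dvd_prime_pow hr).1 ((orderOf_dvd_of_pow_eq_one hy).trans (pow_one r).symm.dvd)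
    exact IsPGroup.of_card (n := i) (by rw [Nat.card_zpowers, hi])
  haveI := hG r hr h2 _ (hpx.to_sup_of_normal_left' hpy (zpowers_le.2 hn))
  refine hG.mem_zpowers_of_commute hr h2 hx hy ?_
  exact congrArg Subtype.val (IsCyclic.commGroup.mul_comm
    (⟨x, le_sup_left (a := zpowers x) (Subgroup.mem_zpowers x)⟩ : (zpowers x ⊔ zpowers y : Subgroup G))
    ⟨y, le_sup_right (a := zpowers x) (Subgroup.mem_zpowers y)⟩)

/-- elements of odd order lie in every subgroup of index two -/
theorem mem_of_odd_of_index_two {K : Type*} [Group K] {M : Subgroup K} (h : M.index = 2) {x : K}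
    (hx : Odd (orderOf x)) : x ∈ M := by
  by_contra hn
  exact Nat.not_even_iff_odd.2 hx
    ((pow_mem_iff_of_index_two h hn _).1 (by rw [pow_orderOf_eq_one]; exact one_mem M))

/-- the data of a minimal counterexample -/
structure Setup (G : Type u) [Group G] [Finite G] (F : Type) [Field F] [Fintype F] where
  hG : OddCyclic G
  simple : IsSimpleGroup G
  below : ∀ K : Subgroup G, K ≠ ⊤ → (∀ M : Subgroup K, M.index ≠ 2) → ∀ T : Sylow 2 K,
    ¬ Cfsg.IsQuasiDihedral ↥(T : Subgroup K)
  S : Sylow 2 G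
  hS : Cfsg.IsQuasiDihedral ↥(S : Subgroup G)
  z : G
  hz : orderOf z = 2
  hzS : (S : Subgroup G) ≤ centralizer {z}
  conj : ∀ t : G, orderOf t = 2 → IsConj z t
  D : Frame (↥(centralizer {z}) ⧸ Cfsg.oddCore ↥(centralizer {z})) F
  hDz : D.z = QuotientGroup.mk' _ (⟨z, mem_centralizer_singleton_iff.2 rfl⟩ : ↥(centralizer {z}))

namespace Setup

variable {G : Type u} [Group G] [Finite G] {F : Type} [Field F] [Fintype F] (A : Setup G F)

/-- the involution inside its centraliser -/
def zC : ↥(centralizer {A.z}) := ⟨A.z, mem_centralizer_singleton_iff.2 rfl⟩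

/-- the map onto the frame -/
def p : ↥(centralizer {A.z}) →* ↥(centralizer {A.z}) ⧸ Cfsg.oddCore ↥(centralizer {A.z}) :=
  QuotientGroup.mk' _

theorem p_surj : Function.Surjective A.p := QuotientGroup.mk'_surjective _

theorem p_ker : A.p.ker = Cfsg.oddCore ↥(centralizer {A.z}) := QuotientGroup.ker_mk' _

theorem p_z : A.p A.zC = A.D.z := A.hDz.symm

/-- the order of the core -/
noncomputable def o : ℕ := Nat.card (Cfsg.oddCore ↥(centralizer {A.z}))

theorem odd_o : Odd A.o := GW.odd_oddCore _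

theorem ord_zC : orderOf A.zC = 2 := by rw [zC, Subgroup.orderOf_mk, A.hz]

theorem zC_comm (x : ↥(centralizer {A.z})) : Commute A.zC x :=
  Subtype.ext (mem_centralizer_singleton_iff.1 x.2).symm

theorem commute_z {x : G} : x ∈ centralizer {A.z} ↔ Commute x A.z := mem_centralizer_singleton_iff

theorem odd_orderOf_core {x : ↥(centralizer {A.z})} (hx : A.p x = 1) : Odd (orderOf x) := by
  rw [← MonoidHom.mem_ker, p_ker] at hx
  exact A.odd_o.of_dvd_nat (Subgroup.orderOf_dvd_natCard _ hx)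

theorem p_ne_one {t : ↥(centralizer {A.z})} (ht : orderOf t = 2) : A.p t ≠ 1 := fun h => by
  have := A.odd_orderOf_core h
  rw [ht] at this
  exact Nat.not_even_iff_odd.2 this even_two

/-- the involutions over the central one -/
theorem eq_z {t : ↥(centralizer {A.z})} (ht : orderOf t = 2) (hp : A.p t = A.D.z) : t = A.zC := by
  by_contra hne
  refine A.p_ne_one (t := A.zC * t) ?_ ?_
  · refine orderOf_eq_prime ?_ fun h => hne ?_
    · rw [(A.zC_comm t).mul_pow, sq_of_order_two A.ord_zC, sq_of_order_two ht, mul_one]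
    · rw [mul_eq_one_iff_inv_eq, inv_eq_of_mul_eq_one_right
        (show A.zC * A.zC = 1 from mul_self_of_order_two A.ord_zC)] at h
      exact h.symm
  · rw [map_mul, hp, A.p_z, ← sq, A.D.z_sq]

theorem isOuter_p {t : ↥(centralizer {A.z})} (ht : orderOf t = 2) (hne : t ≠ A.zC) : A.D.IsOuter (A.p t) := by
  refine ⟨orderOf_eq_prime ?_ (A.p_ne_one ht), fun h => hne (A.eq_z ht h)⟩
  rw [← map_pow, sq_of_order_two ht, map_one]

/-- involutions with the same image are conjugate by the core -/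
theorem conj_fibre {t u : ↥(centralizer {A.z})} (ht : orderOf t = 2) (hu : orderOf u = 2) (h : A.p t = A.p u) :
    ∃ k, A.p k = 1 ∧ k * t * k⁻¹ = u := by
  have htt : t⁻¹ = t := inv_eq_of_mul_eq_one_right (mul_self_of_order_two ht)
  have huu : u⁻¹ = u := inv_eq_of_mul_eq_one_right (mul_self_of_order_two hu)
  set x := t * u with hx
  have hx1 : A.p x = 1 := by rw [hx, map_mul, ← h, ← map_mul, mul_self_of_order_two ht, map_one]
  obtain ⟨l, hl⟩ := A.odd_orderOf_core hx1
  have htx : t * x * t⁻¹ = x⁻¹ := by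
    rw [hx, htt, mul_inv_rev, htt, huu, ← mul_assoc, mul_self_of_order_two ht, one_mul]
  refine ⟨x ^ l, by rw [map_pow, hx1, one_pow], ?_⟩
  have h1 : t * (x ^ l)⁻¹ * t⁻¹ = x ^ l := by rw [← inv_pow, ← conj_pow, ← MulAut.conj_apply, map_inv, MulAut.conj_apply, htx, inv_inv]
  calc x ^ l * t * (x ^ l)⁻¹ = x ^ l * (t * (x ^ l)⁻¹ * t⁻¹) * t := by group
    _ = x ^ (2 * l) * t := by rw [h1, two_mul, pow_add]
    _ = x⁻¹ * t := by
      congr 1
      refine eq_inv_of_mul_eq_one_left ?_
      rw [← pow_succ, ← hl, pow_orderOf_eq_one]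
    _ = u := by rw [hx, mul_inv_rev, huu, inv_mul_cancel_right]

/-- every outer involution of the frame lifts -/
theorem exists_lift {a : ↥(centralizer {A.z}) ⧸ Cfsg.oddCore ↥(centralizer {A.z})} (ha : A.D.IsOuter a) :
    ∃ t : ↥(centralizer {A.z}), orderOf t = 2 ∧ t ≠ A.zC ∧ A.p t = a := by
  obtain ⟨x, hx⟩ := A.p_surj a
  obtain ⟨b, l, hl, hbl⟩ := Nat.exists_eq_two_pow_mul_odd (n := orderOf x) (orderOf_pos x).ne'
  have hpx : A.p (x ^ l) = a := by
    obtain ⟨c, rfl⟩ := hl
    rw [map_pow, hx, pow_succ, pow_mul, sq_of_order_two ha.1, one_pow, one_mul]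
  have hord : orderOf (x ^ l) = 2 ^ b := by
    rw [orderOf_pow' _ hl.pos.ne', hbl, Nat.gcd_eq_right (Dvd.intro_left _ rfl), Nat.mul_div_cancel _ hl.pos]
  have h2 : (x ^ l) ^ 2 = 1 := by
    have hk : A.p ((x ^ l) ^ 2) = 1 := by rw [map_pow, hpx, sq_of_order_two ha.1]
    refine orderOf_eq_one_iff.1 (Nat.eq_one_of_dvd_coprimes
      (Nat.Coprime.pow_left b (Nat.coprime_two_left.2 (A.odd_orderOf_core hk))) ?_ dvd_rfl)
    rw [← hord]
    exact orderOf_pow_dvd 2
  have hne : x ^ l ≠ 1 := fun h => by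
    rw [h, map_one] at hpx
    have := ha.1
    rw [← hpx, orderOf_one] at this
    omega
  exact ⟨x ^ l, orderOf_eq_prime h2 hne, fun h => ha.2 (by rw [← hpx, h, A.p_z]), hpx⟩

/-- the involutions of the centraliser other than `z` form a class -/
theorem conj_invol {t u : ↥(centralizer {A.z})} (ht : orderOf t = 2) (htz : t ≠ A.zC) (hu : orderOf u = 2)
    (huz : u ≠ A.zC) : ∃ c, c * t * c⁻¹ = u := by
  obtain ⟨g, hg⟩ := Frame.isOuter.isConj A.D (A.isOuter_p ht htz)
  obtain ⟨g', hg'⟩ := Frame.isOuter.isConj A.D (A.isOuter_p hu huz)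
  obtain ⟨c, hc⟩ := A.p_surj (g' * g⁻¹)
  obtain ⟨k, -, hk⟩ := A.conj_fibre (t := c * t * c⁻¹) (u := u)
    (by rw [← MulAut.conj_apply, MulEquiv.orderOf_eq, ht]) hu (by
      rw [map_mul, map_mul, map_inv, hc, ← hg, ← hg']
      group)
  exact ⟨k * c, by rw [← hk]; group⟩

/-- an element exchanging `z` with another involution of its centraliser -/
theorem exists_swap {t : G} (ht : orderOf t = 2) (hc : Commute t A.z) (hne : t ≠ A.z) :
    ∃ ρ : G, ρ * t * ρ⁻¹ = A.z ∧ ρ * A.z * ρ⁻¹ = t := by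
  obtain ⟨g, hg⟩ := isConj_iff.1 (A.conj t ht)
  have hgi : g⁻¹ * t * g = A.z := by rw [← hg]; group
  set u := g⁻¹ * A.z * g with hu
  have hu2 : orderOf u = 2 := by
    rw [hu, show g⁻¹ * A.z * g = MulAut.conj g⁻¹ A.z by simp, MulEquiv.orderOf_eq, A.hz]
  have huc : Commute u A.z := by
    have := (hc.symm).map (MulAut.conj g⁻¹).toMonoidHom
    change Commute (g⁻¹ * A.z * (g⁻¹)⁻¹) (g⁻¹ * t * (g⁻¹)⁻¹) at this
    rwa [inv_inv, hgi] at this
  have huz : u ≠ A.z := fun h => hne (by
    calc t = g * u * g⁻¹ := by rw [h, hg]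
      _ = A.z := by rw [hu]; group)
  obtain ⟨c, hcu⟩ := A.conj_invol (t := ⟨u, A.commute_z.2 huc⟩) (u := ⟨t, A.commute_z.2 hc⟩)
    (by rw [Subgroup.orderOf_mk, hu2]) (fun h => huz (congrArg Subtype.val h))
    (by rw [Subgroup.orderOf_mk, ht]) (fun h => hne (congrArg Subtype.val h))
  have hcu' : (c : G) * u * (c : G)⁻¹ = t := congrArg Subtype.val hcu
  refine ⟨c * g⁻¹, ?_, ?_⟩
  · calc (c : G) * g⁻¹ * t * ((c : G) * g⁻¹)⁻¹ = c * (g⁻¹ * t * g) * (c : G)⁻¹ := by group
      _ = A.z := by rw [hgi, (A.commute_z.1 c.2).eq, mul_inv_cancel_right]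
  · calc (c : G) * g⁻¹ * A.z * ((c : G) * g⁻¹)⁻¹ = c * u * (c : G)⁻¹ := by rw [hu]; group
      _ = t := hcu'

theorem four_h : Nat.card (A.S : Subgroup G) ∣
    Nat.card (↥(centralizer {A.z}) ⧸ Cfsg.oddCore ↥(centralizer {A.z})) := by
  obtain ⟨i, hi⟩ := A.S.2.exists_card_eq
  have h1 := (Cfsg.oddCore ↥(centralizer {A.z})).card_eq_card_quotient_mul_card_subgroup
  rw [hi]
  refine Nat.Coprime.dvd_of_dvd_mul_right (Nat.Coprime.pow_left i (Nat.coprime_two_left.2 A.odd_o)) ?_
  rw [show Nat.card (↥(centralizer {A.z}) ⧸ Cfsg.oddCore ↥(centralizer {A.z})) * A.o =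
    Nat.card ↥(centralizer {A.z}) from h1.symm, ← hi]
  exact Subgroup.card_dvd_of_le A.hzS

/-- **an outer involution fixes no non-trivial element of the core** -/
theorem fixed_eq_one {t x : ↥(centralizer {A.z})} (ht : orderOf t = 2) (htz : t ≠ A.zC) (hx : A.p x = 1)
    (hc : Commute t x) : x = 1 := by
  classical
  by_contra hx1
  haveI : Fact (Nat.Prime 2) := ⟨Nat.prime_two⟩
  set O := (Cfsg.oddCore ↥(centralizer {A.z})).map (centralizer {A.z}).subtype with hO
  set T₀ := O ⊓ centralizer {(t : G)} with hT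
  have hOodd : Odd (Nat.card O) := by
    rw [hO, Subgroup.card_map_of_injective (centralizer {A.z}).subtype_injective]
    exact A.odd_o
  have hTodd : Odd (Nat.card T₀) := hOodd.of_dvd_nat (Subgroup.card_dvd_of_le inf_le_left)
  haveI := A.hG.isZGroup hTodd
  have hT0 : T₀ ≠ ⊥ := fun h => hx1 (Subtype.ext (Subgroup.mem_bot.1 (h ▸ (⟨⟨x, by
      rw [← A.p_ker]; exact hx, rfl⟩, Subgroup.mem_centralizer_singleton_iff.2 (congrArg Subtype.val hc.eq).symm⟩ :
      (x : G) ∈ T₀))))
  have hnorm : ∀ c : G, Commute c A.z → Commute c (t : G) → ∀ v ∈ T₀, c * v * c⁻¹ ∈ T₀ := by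
    rintro c hcz hct v ⟨⟨v', hv', rfl⟩, hvt⟩
    refine ⟨⟨⟨c, A.commute_z.2 hcz⟩ * v' * ⟨c, A.commute_z.2 hcz⟩⁻¹, ?_, rfl⟩, ?_⟩
    · haveI := CfsgLib.Coprime.pPrimeCore_characteristic (G := ↥(centralizer {A.z})) 2
      exact (inferInstance : (Cfsg.oddCore ↥(centralizer {A.z})).Normal).conj_mem _ hv' _
    · exact Subgroup.mem_centralizer_singleton_iff.2
        (Commute.mul_left (Commute.mul_left hct (Subgroup.mem_centralizer_singleton_iff.1 hvt)) hct.inv_left).eq
  -- a cyclic non-trivial subgroup stable under the centraliser of `t`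
  obtain ⟨B, hB, hBT, hBc, hBn⟩ : ∃ B : Subgroup G, B ≠ ⊥ ∧ B ≤ T₀ ∧ IsCyclic B ∧
      ∀ c : G, Commute c A.z → Commute c (t : G) → ∀ v ∈ B, c * v * c⁻¹ ∈ B := by
    by_cases hab : commutator T₀ = ⊥
    · refine ⟨T₀, hT0, le_rfl, ?_, hnorm⟩
      have : IsCyclic (↥T₀ ⧸ commutator ↥T₀) := inferInstanceAs (IsCyclic (Abelianization ↥T₀))
      exact ((QuotientGroup.quotientMulEquivOfEq hab).trans QuotientGroup.quotientBot).isCyclic.1 this
    · refine ⟨(commutator T₀).map T₀.subtype, fun h => hab ((Subgroup.map_eq_bot_iff_of_injective _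
        T₀.subtype_injective).1 h), Subgroup.map_subtype_le _,
        ((commutator T₀).equivMapOfInjective _ T₀.subtype_injective).isCyclic.1 (IsZGroup.isCyclic_commutator _),
        fun c hcz hct v hv => ?_⟩
      have hmap : T₀.map (MulAut.conj c).toMonoidHom = T₀ := by
        refine Subgroup.eq_of_le_of_card_ge ?_ (Subgroup.card_map_of_injective (MulAut.conj c).injective).ge
        rintro _ ⟨v, hv, rfl⟩
        exact hnorm c hcz hct v hv
      rw [Subgroup.map_subtype_commutator] at hv ⊢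
      have := Subgroup.mem_map_of_mem (MulAut.conj c).toMonoidHom hv
      rwa [Subgroup.map_commutator, hmap] at this
  obtain ⟨r, hr, hrB⟩ := Nat.exists_prime_and_dvd (n := Nat.card B) fun h => hB (Subgroup.card_eq_one.1 h)
  haveI := Fact.mk hr
  obtain ⟨y, hy⟩ := exists_prime_orderOf_dvd_card' r hrB
  have hyo : orderOf (y : G) = r := by rw [Subgroup.orderOf_coe, hy]
  have hr2 : r ≠ 2 := fun h => Nat.not_even_iff_odd.2 hTodd
    (even_iff_two_dvd.2 (h ▸ hrB.trans (Subgroup.card_dvd_of_le hBT)))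
  set R := zpowers (y : G) with hR
  have hRnorm : ∀ c : G, Commute c A.z → Commute c (t : G) → c ∈ normalizer (R : Set G) := by
    intro c hcz hct
    refine mem_normalizer_iff_map_conj_eq.2 ?_
    rw [hR, MonoidHom.map_zpowers]
    refine Subgroup.eq_of_le_of_card_ge (zpowers_le.2 ?_) (le_of_eq ?_)
    · refine A.hG.mem_zpowers_of_commute hr hr2 hyo ?_ ?_
      · rw [← orderOf_dvd_iff_pow_eq_one]
        exact (orderOf_map_dvd _ _).trans hyo.dvd
      · haveI := hBc
        exact congrArg Subtype.val (IsCyclic.commGroup.mul_comm y (⟨_, hBn c hcz hct y y.2⟩ : B))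
    · rw [Nat.card_zpowers, Nat.card_zpowers, MonoidHom.coe_coe, MulEquiv.orderOf_eq]
  obtain ⟨⟨y', hy', hy'e⟩, hyt⟩ := hBT y.2
  change (y' : G) = (y : G) at hy'e
  have hyt' : Commute (y : G) (t : G) := Subgroup.mem_centralizer_singleton_iff.1 hyt
  have hyz : Commute (y : G) A.z := hy'e ▸ A.commute_z.1 y'.2
  -- the normaliser covers the frame
  set H' := normalizer (R : Set G) with hH'
  have hcover : ∀ v, ∃ c : ↥(centralizer {A.z}), (c : G) ∈ H' ∧ A.p c = v := by
    haveI := CfsgLib.Coprime.pPrimeCore_characteristic (G := ↥(centralizer {A.z})) 2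
    have hy'o : orderOf (⟨y', hy'⟩ : Cfsg.oddCore ↥(centralizer {A.z})) = r := by
      rw [← hyo, Subgroup.orderOf_mk, ← Subgroup.orderOf_coe, hy'e]
    obtain ⟨P, hP⟩ := (IsPGroup.of_card (n := 1) (by rw [Nat.card_zpowers, hy'o, pow_one]) :
      IsPGroup r (zpowers (⟨y', hy'⟩ : Cfsg.oddCore ↥(centralizer {A.z})))).exists_le_sylow
    haveI : IsCyclic (P : Subgroup (Cfsg.oddCore ↥(centralizer {A.z}))) :=
      OddCyclic.subgroup (OddCyclic.subgroup A.hG (centralizer {A.z})) (Cfsg.oddCore ↥(centralizer {A.z})) r hr hr2 P P.2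
    intro v
    obtain ⟨c, rfl⟩ := A.p_surj v
    have hc' : c ∈ normalizer ((P : Subgroup (Cfsg.oddCore ↥(centralizer {A.z}))).map (Cfsg.oddCore ↥(centralizer {A.z})).subtype : Set ↥(centralizer {A.z})) ⊔
        Cfsg.oddCore ↥(centralizer {A.z}) := by
      rw [Sylow.normalizer_sup_eq_top P]
      trivial
    rw [Subgroup.mem_sup_of_normal_right] at hc'
    obtain ⟨n, hn, k, hk, rfl⟩ := hc'
    refine ⟨n, ?_, by rw [map_mul, show A.p k = 1 from (A.p_ker.symm ▸ hk : k ∈ A.p.ker), mul_one]⟩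
    rw [hH', mem_normalizer_iff_map_conj_eq, hR, MonoidHom.map_zpowers]
    refine Subgroup.eq_of_le_of_card_ge (zpowers_le.2 ?_) (le_of_eq ?_)
    · have hy1 : (⟨y', hy'⟩ : Cfsg.oddCore ↥(centralizer {A.z})) ∈ (P : Subgroup (Cfsg.oddCore ↥(centralizer {A.z}))) := hP (Subgroup.mem_zpowers _)
      obtain ⟨w, hw, hwe⟩ := (Subgroup.mem_normalizer_iff.1 hn y').1 ⟨_, hy1, rfl⟩
      refine A.hG.mem_zpowers_of_commute hr hr2 hyo ?_ ?_
      · rw [← orderOf_dvd_iff_pow_eq_one]
        exact (orderOf_map_dvd _ _).trans hyo.dvd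
      · have h1 := congrArg (fun q : ↥(P : Subgroup (Cfsg.oddCore ↥(centralizer {A.z}))) => (((q : Cfsg.oddCore ↥(centralizer {A.z})) : ↥(centralizer {A.z})) : G))
          (IsCyclic.commGroup.mul_comm (⟨_, hy1⟩ : ↥(P : Subgroup (Cfsg.oddCore ↥(centralizer {A.z})))) ⟨w, hw⟩)
        have h2 : ((w : ↥(centralizer {A.z})) : G) = n * y * (n : G)⁻¹ := by
          rw [← hy'e]
          exact congrArg Subtype.val hwe
        simp only [Subgroup.coe_mul, MonoidHom.coe_coe, MulAut.conj_apply] at h1 ⊢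
        rw [hy'e, h2] at h1
        exact h1
    · rw [Nat.card_zpowers, Nat.card_zpowers, MonoidHom.coe_coe, MulEquiv.orderOf_eq]
  set N' := H'.comap (centralizer {A.z}).subtype with hN'
  have hN's : Function.Surjective (A.p.comp N'.subtype) := fun v => by
    obtain ⟨c, hc, hv⟩ := hcover v
    exact ⟨⟨c, hc⟩, hv⟩
  have hN'd : Nat.card (A.S : Subgroup G) ∣ Nat.card N' := A.four_h.trans (Subgroup.card_dvd_of_surjective _ hN's)
  have hN'H : Nat.card N' ∣ Nat.card H' := Subgroup.card_dvd_of_injective ((centralizer {A.z}).subtype.subgroupComap H')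
    fun a b h => Subtype.ext (Subtype.ext (congrArg (fun q : H' => (q : G)) h))
  -- the exchange of `z` and `t`
  obtain ⟨ρ, hρt, hρz⟩ := A.exists_swap (t := (t : G)) (by rw [Subgroup.orderOf_coe, ht])
    (A.commute_z.1 t.2) fun h => htz (Subtype.ext h)
  have hρ : ρ ∈ H' := by
    refine mem_normalizer_iff_map_conj_eq.2 ?_
    rw [hR, MonoidHom.map_zpowers]
    refine Subgroup.eq_of_le_of_card_ge (zpowers_le.2 ?_) (le_of_eq ?_)
    · refine A.hG.mem_zpowers_of_normalizes hr hr2 hyo ?_ (hRnorm _ ?_ ?_)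
      · rw [← orderOf_dvd_iff_pow_eq_one]
        exact (orderOf_map_dvd _ _).trans hyo.dvd
      · simpa [hρt] using hyt'.map (MulAut.conj ρ).toMonoidHom
      · simpa [hρz] using hyz.map (MulAut.conj ρ).toMonoidHom
    · rw [Nat.card_zpowers, Nat.card_zpowers, MonoidHom.coe_coe, MulEquiv.orderOf_eq]
  have hzH : A.z ∈ H' := hRnorm _ (Commute.refl _) (A.commute_z.1 t.2).symm
  have htH : (t : G) ∈ H' := hRnorm _ (A.commute_z.1 t.2) (Commute.refl _)
  have hne2 : ∀ K : Subgroup G, Nat.card (A.S : Subgroup G) ∣ Nat.card K → ¬ 2 * Nat.card K ∣ Nat.card G := by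
    intro K hK hd
    refine A.S.not_dvd_index (Nat.dvd_of_mul_dvd_mul_left
      (Nat.card_pos : 0 < Nat.card (A.S : Subgroup G)) ?_)
    rw [(A.S : Subgroup G).card_mul_index, mul_comm]
    exact (Nat.mul_dvd_mul_left 2 hK).trans hd
  -- no subgroup of index two
  have hidx : ∀ M : Subgroup H', M.index ≠ 2 := by
    intro M hM
    haveI := Subgroup.normal_of_index_eq_two hM
    let f : N' →* H' := (centralizer {A.z}).subtype.subgroupComap H'
    have hMp : ∀ v : N', A.p v.1 ∈ commutator _ → f v ∈ M := by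
      intro v hv
      have h1 : (commutator N').map (A.p.comp N'.subtype) = commutator _ := by
        rw [_root_.commutator_def, Subgroup.map_commutator, ← MonoidHom.range_eq_map,
          MonoidHom.range_eq_top.2 hN's, ← _root_.commutator_def]
      obtain ⟨w, hw, hwv⟩ : A.p v.1 ∈ (commutator N').map (A.p.comp N'.subtype) := h1.symm ▸ hv
      have hwM : f w ∈ M := by
        have hle : commutator N' ≤ M.comap f := Subgroup.commutator_le.2 fun a _ b _ => by
          rw [Subgroup.mem_comap, map_commutatorElement, commutatorElement_def,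
            Subgroup.mul_mem_iff_of_index_two hM, Subgroup.mul_mem_iff_of_index_two hM,
            Subgroup.mul_mem_iff_of_index_two hM, inv_mem_iff, inv_mem_iff]
          tauto
        exact hle hw
      have hq : Odd (orderOf (f (w⁻¹ * v))) := by
        refine (A.odd_orderOf_core (x := ((w⁻¹ * v : N') : ↥(centralizer {A.z}))) ?_).of_dvd_nat ?_
        · rw [Subgroup.coe_mul, map_mul, InvMemClass.coe_inv, map_inv, show A.p w.1 = A.p v.1 from hwv, inv_mul_cancel]
        · rw [Subgroup.orderOf_coe]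
          exact orderOf_map_dvd f _
      have := mul_mem hwM (mem_of_odd_of_index_two hM hq)
      rwa [map_mul, map_inv, mul_inv_cancel_left] at this
    have hzL : A.D.z ∈ commutator _ := by
      rw [A.D.comm_eq, Subgroup.mem_comap, A.D.π_z]
      exact one_mem _
    have hzM : (⟨A.z, hzH⟩ : H') ∈ M := hMp ⟨A.zC, hzH⟩ (A.p_z ▸ hzL)
    have htM : (⟨(t : G), htH⟩ : H') ∈ M := by
      have := (inferInstance : M.Normal).conj_mem _ hzM ⟨ρ, hρ⟩
      rwa [show (⟨ρ, hρ⟩ : H') * ⟨A.z, hzH⟩ * ⟨ρ, hρ⟩⁻¹ = ⟨(t : G), htH⟩ from Subtype.ext hρz] at this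
    have htn : A.p t ∉ commutator _ := fun h => by
      rw [A.D.comm_eq, Subgroup.mem_comap] at h
      exact (A.D.isOuter_iff.1 (A.isOuter_p ht htz)).2 h
    have hall : ∀ v : N', f v ∈ M := by
      intro v
      by_cases hv : A.p v.1 ∈ commutator _
      · exact hMp v hv
      · have h := hMp (v * ⟨t, htH⟩) (by
          rw [Subgroup.coe_mul, map_mul]
          exact (Subgroup.mul_mem_iff_of_index_two A.D.index_comm).2 (iff_of_false hv htn))
        rw [map_mul] at h
        exact (Subgroup.mul_mem_cancel_right M htM).1 h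
    have hMd : Nat.card (A.S : Subgroup G) ∣ Nat.card M := hN'd.trans (Subgroup.card_dvd_of_injective
      (f.codRestrict M hall) fun a b h => Subtype.ext (Subtype.ext (congrArg (fun q : M => ((q : H') : G)) h)))
    refine hne2 (M.map H'.subtype) ?_ ?_
    · rwa [Subgroup.card_map_of_injective H'.subtype_injective]
    · rw [Subgroup.card_map_of_injective H'.subtype_injective, mul_comm, ← hM, M.card_mul_index]
      exact Subgroup.card_subgroup_dvd_card H'
  have htop : H' ≠ ⊤ := fun h => by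
    haveI := A.simple
    haveI : R.Normal := normalizer_eq_top_iff.1 h
    rcases IsSimpleGroup.eq_bot_or_eq_top_of_normal R inferInstance with h1 | h1
    · rw [hR, zpowers_eq_bot] at h1
      rw [h1, orderOf_one] at hyo
      exact hr.one_lt.ne hyo
    · have h2 : A.z ∈ R := h1 ▸ mem_top _
      have := orderOf_dvd_of_mem_zpowers h2
      rw [A.hz, hyo] at this
      exact hr2 ((Nat.prime_dvd_prime_iff_eq Nat.prime_two hr).1 this).symm
  -- a Sylow subgroup of the normaliser is semidihedral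
  obtain ⟨T⟩ : Nonempty (Sylow 2 H') := inferInstance
  obtain ⟨i, hi⟩ := A.S.2.exists_card_eq
  have hTd : Nat.card (A.S : Subgroup G) ∣ Nat.card (T : Subgroup H') := by
    refine Nat.Coprime.dvd_of_dvd_mul_right ?_ ((T : Subgroup H').card_mul_index.symm ▸ hN'd.trans hN'H)
    rw [hi]
    exact Nat.Coprime.pow_left i (Nat.prime_two.coprime_iff_not_dvd.2 T.not_dvd_index)
  obtain ⟨S', hS'⟩ := (T.2.map H'.subtype).exists_le_sylow
  have heq : (T : Subgroup H').map H'.subtype = (S' : Subgroup G) := Subgroup.eq_of_le_of_card_ge hS' (by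
    rw [Subgroup.card_map_of_injective H'.subtype_injective]
    exact (Nat.card_congr (Sylow.equiv S' A.S).toEquiv).trans_le (Nat.le_of_dvd Nat.card_pos hTd))
  refine A.below H' htop hidx T (CfsgLib.Invol.isQuasiDihedral_congr ?_ A.hS)
  exact (Sylow.equiv A.S S').trans ((MulEquiv.subgroupCongr heq.symm).trans
    ((T : Subgroup H').equivMapOfInjective _ H'.subtype_injective).symm)

/-- outer involutions invert the core -/
theorem invert {t x : ↥(centralizer {A.z})} (ht : orderOf t = 2) (htz : t ≠ A.zC) (hx : A.p x = 1) :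
    t * x * t⁻¹ = x⁻¹ := by
  let φ : A.p.ker →* A.p.ker :=
    { toFun := fun v => ⟨t * v * t⁻¹, (MonoidHom.normal_ker A.p).conj_mem _ v.2 t⟩
      map_one' := Subtype.ext (by simp)
      map_mul' := fun a b => Subtype.ext (by simp [mul_assoc]) }
  have htt : t⁻¹ = t := inv_eq_of_mul_eq_one_right (mul_self_of_order_two ht)
  have hfp : MonoidHom.FixedPointFree φ := fun v hv => Subtype.ext (A.fixed_eq_one ht htz v.2
    (mul_inv_eq_iff_eq_mul.1 (congrArg Subtype.val hv)))
  have hinv : Function.Involutive φ := fun v => Subtype.ext (by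
    show t * (t * (v : ↥(centralizer {A.z})) * t⁻¹) * t⁻¹ = v
    rw [htt]
    calc t * (t * (v : ↥(centralizer {A.z})) * t) * t = (t * t) * v * (t * t) := by group
      _ = v := by rw [mul_self_of_order_two ht, one_mul, mul_one])
  exact congrArg Subtype.val (congrFun (MonoidHom.FixedPointFree.coe_eq_inv_of_involutive hfp hinv) ⟨x, hx⟩)

/-- the core is abelian -/
theorem core_comm {x y : ↥(centralizer {A.z})} (hx : A.p x = 1) (hy : A.p y = 1) : Commute x y := by
  obtain ⟨t, ht, htz, -⟩ := A.exists_lift A.D.isOuter_τ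
  have h := A.invert ht htz (show A.p (x * y) = 1 by rw [map_mul, hx, hy, one_mul])
  rw [show t * (x * y) * t⁻¹ = (t * x * t⁻¹) * (t * y * t⁻¹) by group, A.invert ht htz hx, A.invert ht htz hy,
    mul_inv_rev] at h
  exact (Commute.inv_inv_iff.1 h)

/-- the linear part centralises the core -/
theorem comm_core {x c : ↥(centralizer {A.z})} (hx : A.p x = 1) (hc : A.p c ∈ commutator _) : Commute c x := by
  haveI : IsCyclic A.p.ker := by
    haveI : IsZGroup A.p.ker := (A.hG.subgroup _).isZGroup (by rw [p_ker]; exact A.odd_o)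
    have hb : commutator A.p.ker = ⊥ := by
      rw [_root_.commutator_def, Subgroup.commutator_eq_bot_iff_le_centralizer]
      exact fun a _ => Subgroup.mem_centralizer_iff.2 fun b _ => Subtype.ext (A.core_comm b.2 a.2).eq
    have : IsCyclic (A.p.ker ⧸ commutator A.p.ker) := inferInstanceAs (IsCyclic (Abelianization A.p.ker))
    exact ((QuotientGroup.quotientMulEquivOfEq hb).trans QuotientGroup.quotientBot).isCyclic.1 this
  have h1 : (commutator ↥(centralizer {A.z})).map A.p = commutator _ := by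
    rw [_root_.commutator_def, Subgroup.map_commutator, ← MonoidHom.range_eq_map,
      MonoidHom.range_eq_top.2 A.p_surj, ← _root_.commutator_def]
  obtain ⟨w, hw, hwc⟩ : A.p c ∈ (commutator ↥(centralizer {A.z})).map A.p := h1.symm ▸ hc
  have h2 : Commute w x := commute_cyclic A.p.ker hw hx
  have h3 : Commute (w⁻¹ * c) x := A.core_comm (by rw [map_mul, map_inv, hwc, inv_mul_cancel]) hx
  simpa using h2.mul_left h3

end Setup

end CfsgLib.OddCyc
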