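import Cfsg.Agent.Lib.OddCyc.CaseBig
import Cfsg.Agent.Lib.OddCyc.CaseThree
import Cfsg.Agent.Lib.OddCyc.FrameExists
import Cfsg.Agent.Lib.OddCyc.Assembly
import Cfsg.Agent.Lib.Invol.SimpleNormal
import Cfsg.Agent.Lib.GW.QGroupRows

/-!
# Semidihedral Sylow 2-subgroups do not occur with cyclic Sylow subgroups of odd order
-/

set_option autoImplicit false
set_option linter.unusedSectionVars false
set_option linter.style.haveILetI false

namespace CfsgLib.OddCyc

open Subgroup CfsgLib.Invol
open scoped MatrixGroups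

universe u

/-- **a group with cyclic Sylow subgroups of odd order and semidihedral Sylow 2-subgroups has a subgroup of
index two** -/
theorem noSemidihedral : NoSemidihedral.{u} := by
  classical
  haveI : Fact (Nat.Prime 2) := ⟨Nat.prime_two⟩
  suffices h : ∀ (n : ℕ) (H : Type u) [Group H] [Finite H], Nat.card H = n → OddCyclic H →
      (∀ M : Subgroup H, M.index ≠ 2) → ∀ S : Sylow 2 H, ¬ Cfsg.IsQuasiDihedral ↥(S : Subgroup H) from
    fun H _ _ => h _ H rfl
  intro n
  induction n using Nat.strong_induction_on with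
  | _ n ih =>
  intro G _ _ hcard hoc hG S hS
  subst hcard
  haveI := Fintype.ofFinite G
  -- the odd core is trivial
  have hO : Cfsg.oddCore G = ⊥ := by
    by_contra hne
    have hcop : (Nat.card (Cfsg.oddCore G)).Coprime 2 := CfsgLib.Coprime.pPrimeCore_coprime Nat.prime_two
    obtain ⟨T, ⟨e⟩⟩ := exists_sylow_quotient_equiv (Cfsg.oddCore G) hcop S
    refine ih (Nat.card (G ⧸ Cfsg.oddCore G)) ?_ _ rfl (hoc.quotient _) (fun M hM => ?_) T
      (isQuasiDihedral_congr e hS)
    · rw [← Subgroup.index_eq_card]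
      have h1 := (Cfsg.oddCore G).card_mul_index
      have h2 : 1 < Nat.card (Cfsg.oddCore G) := (Subgroup.one_lt_card_iff_ne_bot _).2 hne
      have h3 : 0 < (Cfsg.oddCore G).index := Nat.pos_of_ne_zero Subgroup.index_ne_zero_of_finite
      nlinarith
    · exact hG (M.comap (QuotientGroup.mk' _))
        (by rw [Subgroup.index_comap_of_surjective M (QuotientGroup.mk'_surjective _), hM])
  have below : ∀ K : Subgroup G, K ≠ ⊤ → (∀ M : Subgroup K, M.index ≠ 2) → ∀ T : Sylow 2 K,
      ¬ Cfsg.IsQuasiDihedral ↥(T : Subgroup K) := fun K hK hKi T =>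
    ih (Nat.card K) ((Subgroup.card_le_card_group K).lt_of_ne fun h => hK (Subgroup.card_eq_iff_eq_top K |>.1 h))
      K rfl (hoc.subgroup K) hKi T
  -- fusion
  obtain ⟨k, a, b, -, -, Q⟩ := exists_qdFrame hS
  have h2 : FusedTwo a b ((2 : ℤ) ^ (k - 2)) := by
    by_contra h
    obtain ⟨H, hH, -⟩ := Q.exists_index_two_two h
    exact hG H hH
  have h4 : FusedFour a b ((2 : ℤ) ^ (k - 2)) := by
    by_contra h
    obtain ⟨H, hH, -⟩ := Q.exists_index_two_four h
    exact hG H hH
  set z : G := rotG a (2 * 2 ^ (k - 2)) with hz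
  have hz2 : orderOf z = 2 := Q.orderOf_centerG
  have hconj : ∀ t : G, orderOf t = 2 → IsConj z t := fun t ht => by
    rcases Q.invol_conj_cases ht with h | h
    · exact h.symm
    · exact (h.trans (Q.fusedTwo_iff.1 h2)).symm
  have hzS : (S : Subgroup G) ≤ centralizer {z} := fun s hs =>
    mem_centralizer_singleton_iff.2 (Q.commute_center hs)
  -- simplicity
  obtain ⟨L, hLn, hLodd, hLs, hLnc⟩ := exists_simple_normal S hO (rotG_mem a _) hz2
    (fun u hu huo => (Q.centerImg_cases hu).resolve_left (invol_ne_one huo))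
    (fun H hH ht => by haveI := hH; exact Q.sylow_le_of_center_mem h2 h4 H ht)
    ⟨_, rotG_mem a (2 ^ (k - 2)), _, refG_mem a b 0, fun hh => by
      have h6 := Q.rot_ref_commute_iff.1 (Subtype.ext hh)
      have := Q.two_le
      have := Int.le_of_dvd (by omega) h6
      omega⟩
  have hLtop : L = ⊤ := by
    by_contra hne
    haveI := hLn
    haveI := hLs
    obtain ⟨m, hm⟩ := hLodd
    have hzL : z ∈ L := by
      have h := L.pow_index_mem z
      rwa [hm, pow_succ, pow_mul, ← hz2, pow_orderOf_eq_one, one_pow, one_mul] at h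
    have hSL : (S : Subgroup G) ≤ L := Q.sylow_le_of_center_mem h2 h4 L hzL
    refine below L hne (fun M hM => ?_) (S.subtype hSL)
      (isQuasiDihedral_congr (Subgroup.subgroupOfEquivOfLe hSL).symm hS)
    haveI := Subgroup.normal_of_index_eq_two hM
    rcases IsSimpleGroup.eq_bot_or_eq_top_of_normal M inferInstance with h | h
    · rw [h, Subgroup.index_bot] at hM
      haveI : IsCyclic L := isCyclic_of_prime_card hM
      exact hLnc ⟨⟨fun x y => IsCyclic.commGroup.mul_comm x y⟩⟩
    · rw [h, Subgroup.index_top] at hM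
      exact absurd hM (by norm_num)
  subst hLtop
  haveI := hLs
  haveI : Nontrivial G := ⟨⟨z, 1, invol_ne_one hz2⟩⟩
  have hsimple : IsSimpleGroup G := IsSimpleGroup.isSimpleGroup_of_surjective
    (Subgroup.topEquiv (G := G)).toMonoidHom Subgroup.topEquiv.surjective
  have hna : ∃ a b : G, a * b ≠ b * a := by
    by_contra! h
    exact hLnc ⟨⟨fun x y => Subtype.ext (h x y)⟩⟩
  -- the frame
  obtain ⟨F, iF, jF, ho, ⟨e⟩⟩ :=
    GW.centralizer_mod_core S (Or.inl hS) hG z hz2 (GW.gwBelow _)
  have hp : (Fintype.card F).Prime :=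
    card_prime_sl ho (((hoc.subgroup (centralizer {z})).quotient _).subgroup _) e
  set C := centralizer ({z} : Set G) with hC
  set zC : C := ⟨z, mem_centralizer_singleton_iff.2 rfl⟩ with hzC
  have hzC2 : orderOf zC = 2 := by rw [hzC, Subgroup.orderOf_mk, hz2]
  have hz' : orderOf (QuotientGroup.mk' (Cfsg.oddCore C) zC) = 2 := by
    refine orderOf_eq_prime (by rw [← map_pow, sq_of_order_two hzC2, map_one]) fun h => ?_
    have := (GW.odd_oddCore C).of_dvd_nat (Subgroup.orderOf_dvd_natCard _ ((QuotientGroup.eq_one_iff zC).1 h))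
    rw [hzC2] at this
    exact Nat.not_even_iff_odd.2 this even_two
  have hzc : QuotientGroup.mk' (Cfsg.oddCore C) zC ∈ Subgroup.center (C ⧸ Cfsg.oddCore C) := by
    refine Subgroup.mem_center_iff.2 fun w => ?_
    obtain ⟨w, rfl⟩ := QuotientGroup.mk'_surjective _ w
    rw [← map_mul, ← map_mul]
    exact congrArg _ (Subtype.ext (mem_centralizer_singleton_iff.1 w.2))
  obtain ⟨T, ⟨eT⟩⟩ := exists_sylow_quotient_equiv (Cfsg.oddCore C)
    (CfsgLib.Coprime.pPrimeCore_coprime Nat.prime_two) (S.subtype hzS)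
  obtain ⟨D, hD⟩ := exists_frame ho hp (CfsgLib.Coprime.pPrimeCore_quotient_eq_bot Nat.prime_two) e
    (QuotientGroup.mk' (Cfsg.oddCore C) zC) hz' hzc T
    (isQuasiDihedral_congr ((Subgroup.subgroupOfEquivOfLe hzS).symm.trans eT) hS)
  let A : Setup G F := ⟨hoc, hsimple, below, S, hS, z, hz2, hzS, hconj, D, hD⟩
  rcases Nat.lt_or_ge (Fintype.card F) 5 with h5 | h5
  · exact A.false_of_three (by
      have := hp.two_le
      rw [Nat.odd_iff] at ho
      omega) hna
  · exact A.false_of_five h5

end CfsgLib.OddCyc
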