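import Cfsg.Agent.Lib.Char.SignedIrr

/-!
# Induced functions from a subgroup of index two in the normaliser of a trivial intersection set
-/

set_option autoImplicit false
set_option linter.unusedSectionVars false
set_option linter.style.haveILetI false

open scoped ComplexConjugate

namespace CfsgLib.OddCyc

open Subgroup Cfsg CfsgLib.Char CfsgLib.Char.Signed

universe u

/-- an abelian quotient of a subgroup of index two, inverted outside, with trivial intersection support -/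
structure PairTI (G : Type u) [Group G] (Λ : Type u) [CommGroup Λ] where
  X : Subgroup G
  N : Subgroup G
  le : X ≤ N
  θ : X →* Λ
  surj : Function.Surjective θ
  odd : Odd (Nat.card Λ)
  t : G
  t_mem : t ∈ N
  t_not : t ∉ X
  two : ∀ g ∈ N, g ∉ X → g * t⁻¹ ∈ X
  inv : ∀ x : X, ∃ h : t * (x : G) * t⁻¹ ∈ X, θ ⟨_, h⟩ = (θ x)⁻¹
  ti : ∀ (g : G) (x y : X), θ x ≠ 1 → θ y ≠ 1 → g * (x : G) * g⁻¹ = y → g ∈ N

theorem isGen_hom {K : Type*} [Group K] [Fintype K] (χ : K →* ℂˣ) :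
    IsGeneralizedCharacter K (fun x => (χ x : ℂ)) :=
  isGeneralizedCharacter_of_isCharacter (isCharacter_of_isIrr (isIrrCharacter_lin χ))

theorem sum_hom_eq_zero {K : Type*} [Group K] [Fintype K] {χ : K →* ℂˣ} (h : χ ≠ 1) :
    ∑ x : K, (χ x : ℂ) = 0 := by
  obtain ⟨a, ha⟩ : ∃ a, χ a ≠ 1 := by
    by_contra! hc
    exact h (MonoidHom.ext hc)
  have hs : ∑ x : K, (χ (a * x) : ℂ) = ∑ x : K, (χ x : ℂ) :=
    Fintype.sum_bijective (fun x => a * x) (Group.mulLeft_bijective a) _ _ fun _ => rfl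
  simp only [map_mul, Units.val_mul, ← Finset.mul_sum] at hs
  exact (mul_eq_zero.1 (show ((χ a : ℂ) - 1) * ∑ x : K, (χ x : ℂ) = 0 by linear_combination hs)).resolve_left
    (sub_ne_zero.2 fun hc => ha (Units.ext hc))

theorem conj_hom_apply {K : Type*} [Group K] [Finite K] (χ : K →* ℂˣ) (x : K) :
    conj (χ x : ℂ) = (χ x⁻¹ : ℂ) := by
  rw [map_inv, Units.val_inv_eq_inv_val, Complex.inv_def]
  have h : Complex.normSq (χ x : ℂ) = 1 := by
    have h1 : (χ x : ℂ) ^ orderOf x = 1 := by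
      rw [← Units.val_pow_eq_pow_val, ← map_pow, pow_orderOf_eq_one, map_one, Units.val_one]
    rw [Complex.normSq_eq_norm_sq, Complex.norm_eq_one_of_pow_eq_one h1 (orderOf_pos x).ne', one_pow]
  rw [h, inv_one, Complex.ofReal_one, mul_one]

namespace PairTI

variable {G : Type u} [Group G] {Λ : Type u} [CommGroup Λ] (P : PairTI G Λ)

/-- the function extended by zero -/
noncomputable def ext (v : Λ → ℂ) : G → ℂ := extendByZero P.X fun x => v (P.θ x)

/-- the opposite function -/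
def opp (v : Λ → ℂ) : Λ → ℂ := fun y => v y⁻¹

/-- the support -/
def Sp (x : G) : Prop := ∃ h : x ∈ P.X, P.θ ⟨x, h⟩ ≠ 1

theorem ext_apply (v : Λ → ℂ) {x : G} (h : x ∈ P.X) : P.ext v x = v (P.θ ⟨x, h⟩) :=
  extendByZero_mem P.X _ h

theorem ext_not_mem (v : Λ → ℂ) {x : G} (h : x ∉ P.X) : P.ext v x = 0 := extendByZero_not_mem P.X _ h

theorem sp_of_ext {v : Λ → ℂ} (hv : v 1 = 0) {x : G} (h : P.ext v x ≠ 0) : P.Sp x := by
  by_cases hX : x ∈ P.X
  · refine ⟨hX, fun h0 => h ?_⟩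
    rw [P.ext_apply v hX, h0, hv]
  · exact absurd (P.ext_not_mem v hX) h

theorem mem_N {g x : G} (hx : P.Sp x) (hy : P.Sp (g * x * g⁻¹)) : g ∈ P.N := by
  obtain ⟨h1, h2⟩ := hx
  obtain ⟨h3, h4⟩ := hy
  exact P.ti g ⟨x, h1⟩ ⟨_, h3⟩ h2 h4 rfl

theorem sp_inv {x : G} (h : P.Sp x) : P.Sp x⁻¹ := by
  obtain ⟨hX, hne⟩ := h
  refine ⟨inv_mem hX, ?_⟩
  rw [show (⟨x⁻¹, inv_mem hX⟩ : P.X) = (⟨x, hX⟩ : P.X)⁻¹ from rfl, map_inv, ne_eq, inv_eq_one]
  exact hne

theorem ext_conj_X (v : Λ → ℂ) {g : G} (hg : g ∈ P.X) (x : G) : P.ext v (g⁻¹ * x * g) = P.ext v x := by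
  by_cases hx : x ∈ P.X
  · rw [P.ext_apply v (mul_mem (mul_mem (inv_mem hg) hx) hg), P.ext_apply v hx,
      show (⟨g⁻¹ * x * g, _⟩ : P.X) = (⟨g, hg⟩ : P.X)⁻¹ * ⟨x, hx⟩ * ⟨g, hg⟩ from rfl, map_mul, map_mul, map_inv,
      inv_mul_cancel_comm]
  · rw [P.ext_not_mem v hx, P.ext_not_mem v fun h => hx ?_]
    have := mul_mem (mul_mem hg h) (inv_mem hg)
    simpa [mul_assoc] using this

theorem sq_mem : P.t * P.t ∈ P.X := by
  by_contra h
  have h1 := P.two _ (mul_mem P.t_mem P.t_mem) h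
  rw [mul_inv_cancel_right] at h1
  exact P.t_not h1

theorem conj_mem {x : G} (hx : x ∈ P.X) : P.t⁻¹ * x * P.t ∈ P.X := by
  obtain ⟨h, -⟩ := P.inv ⟨x, hx⟩
  have := mul_mem (mul_mem (inv_mem P.sq_mem) h) P.sq_mem
  rwa [show (P.t * P.t)⁻¹ * (P.t * x * P.t⁻¹) * (P.t * P.t) = P.t⁻¹ * x * P.t by group] at this

theorem θ_conj {x : G} (hx : x ∈ P.X) : P.θ ⟨P.t⁻¹ * x * P.t, P.conj_mem hx⟩ = (P.θ ⟨x, hx⟩)⁻¹ := by
  obtain ⟨h, he⟩ := P.inv ⟨P.t⁻¹ * x * P.t, P.conj_mem hx⟩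
  have hx' : (⟨P.t * (P.t⁻¹ * x * P.t) * P.t⁻¹, h⟩ : P.X) = ⟨x, hx⟩ := Subtype.ext (by group)
  rw [← hx', he, inv_inv]

theorem ext_t (v : Λ → ℂ) (x : G) : P.ext v (P.t⁻¹ * x * P.t) = P.ext (opp v) x := by
  by_cases hx : x ∈ P.X
  · rw [P.ext_apply v (P.conj_mem hx), P.ext_apply (opp v) hx, P.θ_conj hx]
    rfl
  · rw [P.ext_not_mem (opp v) hx, P.ext_not_mem v fun h => hx ?_]
    obtain ⟨h', -⟩ := P.inv ⟨_, h⟩
    rwa [show P.t * (P.t⁻¹ * x * P.t) * P.t⁻¹ = x by group] at h'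

variable [Fintype G]

/-- the induced function -/
noncomputable def ind (v : Λ → ℂ) : G → ℂ := indFun P.X fun x => v (P.θ x)

theorem ind_apply (v : Λ → ℂ) (x : G) :
    P.ind v x = (Nat.card P.X : ℂ)⁻¹ * ∑ g : G, P.ext v (g⁻¹ * x * g) := rfl

theorem ind_eq_zero {v : Λ → ℂ} (hv : v 1 = 0) {x : G} (h : ∀ g : G, ¬ P.Sp (g⁻¹ * x * g)) : P.ind v x = 0 := by
  rw [P.ind_apply, Finset.sum_eq_zero fun g _ => by_contra fun hne => h g (P.sp_of_ext hv hne), mul_zero]

theorem not_sp_sq {x : G} (hx : x * x = 1) : ¬ P.Sp x := by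
  rintro ⟨hX, hne⟩
  refine hne (orderOf_eq_one_iff.1 (Nat.eq_one_of_dvd_coprimes (Nat.coprime_two_left.2 P.odd) ?_ (_root_.orderOf_dvd_natCard _)))
  refine orderOf_dvd_of_pow_eq_one ?_
  rw [← map_pow, show (⟨x, hX⟩ : P.X) ^ 2 = 1 from Subtype.ext (by simp [sq, hx]), map_one]

theorem ind_sq_one {v : Λ → ℂ} (hv : v 1 = 0) {x : G} (hx : x * x = 1) : P.ind v x = 0 :=
  P.ind_eq_zero hv fun g => P.not_sp_sq (by
    rw [show g⁻¹ * x * g * (g⁻¹ * x * g) = g⁻¹ * (x * x) * g by group, hx, mul_one, inv_mul_cancel])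

/-- the values where the conjugations into the support lie in `N` -/
theorem ind_eq {v : Λ → ℂ} (hv : v 1 = 0) {x : G} (h : ∀ g : G, P.Sp (g⁻¹ * x * g) → g ∈ P.N) :
    P.ind v x = P.ext v x + P.ext (opp v) x := by
  classical
  rw [P.ind_apply, ← Finset.sum_subset (s₁ := Finset.univ.filter fun g => g ∈ P.N) (Finset.subset_univ _)
    (fun g _ hg => by
      by_contra hne
      exact hg (Finset.mem_filter.2 ⟨Finset.mem_univ g, h g (P.sp_of_ext hv hne)⟩)),
    ← Finset.sum_filter_add_sum_filter_not (Finset.univ.filter fun g => g ∈ P.N) (fun g => g ∈ P.X)]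
  have h1 : ∑ g ∈ (Finset.univ.filter fun g => g ∈ P.N).filter (fun g => g ∈ P.X), P.ext v (g⁻¹ * x * g) =
      (Nat.card P.X : ℂ) * P.ext v x := by
    rw [Finset.sum_congr rfl fun g hg => P.ext_conj_X v (Finset.mem_filter.1 hg).2 x, Finset.sum_const,
      nsmul_eq_mul, ← Nat.card_eq_finsetCard]
    congr 2
    refine Nat.card_congr (Equiv.subtypeEquivRight fun g => ?_)
    simp only [Finset.mem_filter, Finset.mem_univ, true_and]
    exact ⟨fun h => h.2, fun h => ⟨P.le h, h⟩⟩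
  have h2 : ∑ g ∈ (Finset.univ.filter fun g => g ∈ P.N).filter (fun g => ¬ g ∈ P.X), P.ext v (g⁻¹ * x * g) =
      (Nat.card P.X : ℂ) * P.ext (opp v) x := by
    have hs : ∀ g ∈ (Finset.univ.filter fun g => g ∈ P.N).filter (fun g => ¬ g ∈ P.X),
        P.ext v (g⁻¹ * x * g) = P.ext (opp v) x := by
      intro g hg
      simp only [Finset.mem_filter, Finset.mem_univ, true_and] at hg
      calc P.ext v (g⁻¹ * x * g) = P.ext v (P.t⁻¹ * ((g * P.t⁻¹)⁻¹ * x * (g * P.t⁻¹)) * P.t) := by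
            congr 1
            group
        _ = P.ext (opp v) x := by rw [P.ext_t, P.ext_conj_X _ (P.two g hg.1 hg.2)]
    rw [Finset.sum_congr rfl hs, Finset.sum_const, nsmul_eq_mul, ← Nat.card_eq_finsetCard]
    congr 2
    refine Nat.card_congr
      { toFun := fun g => ⟨g.1 * P.t⁻¹, ?_⟩
        invFun := fun y => ⟨y.1 * P.t, ?_⟩
        left_inv := fun g => Subtype.ext (inv_mul_cancel_right _ _)
        right_inv := fun y => Subtype.ext (mul_inv_cancel_right _ _) }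
    · have hg := g.2
      simp only [Finset.mem_filter, Finset.mem_univ, true_and] at hg
      exact P.two _ hg.1 hg.2
    · simp only [Finset.mem_filter, Finset.mem_univ, true_and]
      exact ⟨mul_mem (P.le y.2) P.t_mem, fun h => P.t_not ((Subgroup.mul_mem_cancel_left _ y.2).1 h)⟩
  rw [h1, h2, ← mul_add, ← mul_assoc, inv_mul_cancel₀ (by exact_mod_cast Nat.card_pos.ne'), one_mul]

theorem ind_of_sp {v : Λ → ℂ} (hv : v 1 = 0) {x : G} (hx : P.Sp x) :
    P.ind v x = P.ext v x + P.ext (opp v) x :=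
  P.ind_eq hv fun g hg => by simpa using inv_mem (P.mem_N (g := g⁻¹) hx (by simpa using hg))

theorem card_fibre (r : Λ) : Nat.card {x : P.X // P.θ x = r} * Nat.card Λ = Nat.card P.X := by
  obtain ⟨x₀, hx₀⟩ := P.surj r
  have he : Nat.card {x : P.X // P.θ x = r} = Nat.card P.θ.ker := by
    refine Nat.card_congr
      { toFun := fun x => ⟨x₀⁻¹ * x.1, by rw [MonoidHom.mem_ker, map_mul, map_inv, hx₀, x.2, inv_mul_cancel]⟩
        invFun := fun x => ⟨x₀ * x.1, by rw [map_mul, hx₀, MonoidHom.mem_ker.1 x.2, mul_one]⟩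
        left_inv := fun x => Subtype.ext (mul_inv_cancel_left _ _)
        right_inv := fun x => Subtype.ext (inv_mul_cancel_left _ _) }
  have h := P.θ.ker.card_mul_index
  rw [Subgroup.index_ker, MonoidHom.range_eq_top.2 P.surj, Subgroup.card_top] at h
  rw [he, h]

variable [Fintype Λ]

theorem sum_X [Fintype P.X] (g : Λ → ℂ) :
    (Nat.card Λ : ℂ) * ∑ x : P.X, g (P.θ x) = (Nat.card P.X : ℂ) * ∑ r : Λ, g r := by
  classical
  rw [← Finset.sum_fiberwise Finset.univ P.θ fun x => g (P.θ x), Finset.mul_sum, Finset.mul_sum]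
  refine Finset.sum_congr rfl fun r _ => ?_
  rw [Finset.sum_congr rfl fun x hx => by rw [(Finset.mem_filter.1 hx).2], Finset.sum_const, nsmul_eq_mul,
    ← Fintype.card_subtype, ← Nat.card_eq_fintype_card (α := {x : P.X // P.θ x = r}), ← P.card_fibre r]
  push_cast
  ring

/-- `1 - χ` -/
def one_sub (χ : Λ →* ℂˣ) : Λ → ℂ := fun y => 1 - (χ y : ℂ)

theorem one_sub_one (χ : Λ →* ℂˣ) : one_sub χ 1 = 0 := by simp [one_sub]

theorem gen_ind (χ : Λ →* ℂˣ) : Gen (P.ind (one_sub χ)) := by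
  haveI := Fintype.ofFinite P.X
  refine isGeneralizedCharacter_indFun P.X ?_
  exact isGeneralizedCharacter_sub (isGen_hom (1 : P.X →* ℂˣ)) (isGen_hom (χ.comp P.θ))

/-- **the inner products** -/
theorem inner_ind (χ χ' : Λ →* ℂˣ) (h1 : χ ≠ 1) (h1' : χ' ≠ 1) :
    classInner (P.ind (one_sub χ)) (P.ind (one_sub χ')) = 2 + (if χ = χ' then (1 : ℂ) else 0) +
      (if χ * χ' = 1 then (1 : ℂ) else 0) := by
  classical
  haveI := Fintype.ofFinite P.X
  change classInner (indFun P.X fun x => one_sub χ (P.θ x)) (P.ind (one_sub χ')) = _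
  rw [classInner_indFun _ _ (P.ind (one_sub χ')) (isClassFunction_indFun _ _)]
  simp only [classInner]
  have h : ∀ x : P.X, one_sub χ (P.θ x) * conj (P.ind (one_sub χ') (x : G)) =
      one_sub χ (P.θ x) * conj (one_sub χ' (P.θ x) + one_sub χ' (P.θ x)⁻¹) := by
    intro x
    by_cases h0 : P.θ x = 1
    · rw [h0, one_sub_one, zero_mul, zero_mul]
    · rw [P.ind_of_sp (one_sub_one χ') ⟨x.2, h0⟩, P.ext_apply _ x.2, P.ext_apply (opp _) x.2]
      rfl
  rw [Finset.sum_congr rfl fun x _ => h x]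
  have h4 := P.sum_X fun y => one_sub χ y * conj (one_sub χ' y + one_sub χ' y⁻¹)
  have hprod : ∀ φ : Λ →* ℂˣ, (∑ y : Λ, (φ y : ℂ)) = if φ = 1 then (Nat.card Λ : ℂ) else 0 := by
    intro φ
    split_ifs with hφ
    · simp [hφ, Nat.card_eq_fintype_card]
    · exact sum_hom_eq_zero hφ
  have hsum : ∑ y : Λ, one_sub χ y * conj (one_sub χ' y + one_sub χ' y⁻¹) =
      (Nat.card Λ : ℂ) * (2 + (if χ = χ' then (1 : ℂ) else 0) + (if χ * χ' = 1 then (1 : ℂ) else 0)) := by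
    have hexp : ∀ y, one_sub χ y * conj (one_sub χ' y + one_sub χ' y⁻¹) = 2 * (((1 : Λ →* ℂˣ) y : ℂˣ) : ℂ) -
        2 * (χ y : ℂ) - (χ'⁻¹ y : ℂ) - (χ' y : ℂ) + ((χ * χ'⁻¹) y : ℂ) + ((χ * χ') y : ℂ) := fun y => by
      simp only [one_sub, map_add, map_sub, map_one, conj_hom_apply, inv_inv]
      simp only [MonoidHom.one_apply,
        MonoidHom.mul_apply, MonoidHom.inv_apply, map_inv, Units.val_mul, Units.val_one]
      ring
    rw [Finset.sum_congr rfl fun y _ => hexp y]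
    simp only [Finset.sum_add_distrib, Finset.sum_sub_distrib, ← Finset.mul_sum, hprod]
    have hninv : χ'⁻¹ ≠ 1 := fun h => h1' (MonoidHom.ext fun y => inv_eq_one.1 (DFunLike.congr_fun h y))
    simp only [if_true, if_neg h1, if_neg hninv, if_neg h1']
    have hiff : χ * χ'⁻¹ = 1 ↔ χ = χ' :=
      ⟨fun h => MonoidHom.ext fun y => mul_inv_eq_one.1 (DFunLike.congr_fun h y),
        fun h => MonoidHom.ext fun y => mul_inv_eq_one.2 (DFunLike.congr_fun h y)⟩
    simp only [hiff]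
    split_ifs <;> ring
  rw [hsum] at h4
  have hX : (Nat.card P.X : ℂ) ≠ 0 := by exact_mod_cast Nat.card_pos.ne'
  have hΛ : (Nat.card Λ : ℂ) ≠ 0 := by exact_mod_cast Nat.card_pos.ne'
  have h5 := mul_left_cancel₀ hΛ (h4.trans (mul_left_comm _ _ _))
  rw [h5, inv_mul_cancel_left₀ hX]

theorem inner_ind_one (χ : Λ →* ℂˣ) (h1 : χ ≠ 1) : classInner (P.ind (one_sub χ)) (fun _ => (1 : ℂ)) = 1 := by
  haveI := Fintype.ofFinite P.X
  change classInner (indFun P.X fun x => one_sub χ (P.θ x)) _ = _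
  rw [classInner_indFun _ _ _ (fun _ _ => rfl)]
  simp only [classInner, map_one, mul_one]
  have h4 := P.sum_X (one_sub χ)
  have hs : ∑ y : Λ, one_sub χ y = (Nat.card Λ : ℂ) := by
    simp [one_sub, Finset.sum_sub_distrib, sum_hom_eq_zero h1, Nat.card_eq_fintype_card]
  rw [hs] at h4
  have hX : (Nat.card P.X : ℂ) ≠ 0 := by exact_mod_cast Nat.card_pos.ne'
  have hΛ : (Nat.card Λ : ℂ) ≠ 0 := by exact_mod_cast Nat.card_pos.ne'
  have h5 := mul_left_cancel₀ hΛ (h4.trans (mul_comm _ _))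
  rw [h5, inv_mul_cancel₀ hX]

theorem card_N : Nat.card P.N = 2 * Nat.card P.X := by
  have hidx : (P.X.subgroupOf P.N).index = 2 := by
    rw [Subgroup.index_eq_two_iff]
    refine ⟨⟨P.t⁻¹, inv_mem P.t_mem⟩, fun b => ?_⟩
    by_cases hb : (b : G) ∈ P.X
    · exact Or.inr ⟨hb, fun h => P.t_not (inv_mem_iff.1 ((Subgroup.mul_mem_cancel_left _ hb).1 h))⟩
    · exact Or.inl ⟨P.two _ b.2 hb, hb⟩
  have h := (P.X.subgroupOf P.N).card_mul_index
  rw [hidx, Nat.card_congr (Subgroup.subgroupOfEquivOfLe P.le).toEquiv] at h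
  rw [← h, mul_comm]

theorem ind_eq_indN (v : Λ → ℂ) :
    P.ind v = indFun P.N fun x => P.ext v (x : G) + P.ext (opp v) (x : G) := by
  funext x
  have hN : ∀ y : G, extendByZero P.N (fun x : P.N => P.ext v (x : G) + P.ext (opp v) (x : G)) y =
      P.ext v y + P.ext (opp v) y := fun y => by
    by_cases hy : y ∈ P.N
    · rw [extendByZero_mem P.N _ hy]
    · rw [extendByZero_not_mem P.N _ hy, P.ext_not_mem v fun h => hy (P.le h),
        P.ext_not_mem (opp v) fun h => hy (P.le h), add_zero]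
  have hshift : ∑ g : G, P.ext (opp v) (g⁻¹ * x * g) = ∑ g : G, P.ext v (g⁻¹ * x * g) := by
    refine Fintype.sum_bijective (fun g => g * P.t) (Group.mulRight_bijective _) _ _ fun g => ?_
    rw [← P.ext_t]
    congr 1
    group
  rw [P.ind_apply, indFun]
  simp only [hN, Finset.sum_add_distrib, hshift, P.card_N, Nat.cast_mul, Nat.cast_ofNat]
  have hX : (Nat.card P.X : ℂ) ≠ 0 := by exact_mod_cast Nat.card_pos.ne'
  field_simp
  ring

/-- the number of involutions of `N` outside `X` -/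
noncomputable def nOut : ℕ := Nat.card {y : G // y ∈ P.N ∧ orderOf y = 2 ∧ y ∉ P.X}

/-- **the class algebra functional** -/
theorem qfun_ind {z : G} (hz : orderOf z = 2) (hconj : ∀ u : G, orderOf u = 2 → IsConj z u) (χ : Λ →* ℂˣ)
    {u : P.X} (hu : χ (P.θ u) ≠ 1) (huinv : ∀ y ∈ P.N, y ∉ P.X → y * (u : G) * y⁻¹ = (u : G)⁻¹) :
    (Nat.card G : ℂ) * qfun z (P.ind (one_sub χ)) =
      (Nat.card (centralizer ({z} : Set G)) : ℂ) ^ 2 * ((P.nOut : ℂ) ^ 2 / (Nat.card P.X : ℂ)) := by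
  classical
  haveI := Fintype.ofFinite P.N
  haveI := Fintype.ofFinite P.X
  set v := one_sub χ with hvdef
  have hv : v 1 = 0 := one_sub_one χ
  set φ : P.N → ℂ := fun x => P.ext v (x : G) + P.ext (opp v) (x : G) with hφ
  have hord : ∀ y, IsConj z y → orderOf y = 2 := fun y hy => by
    obtain ⟨c, rfl⟩ := isConj_iff.1 hy
    rw [← MulAut.conj_apply, MulEquiv.orderOf_eq, hz]
  have hself : ∀ y : G, orderOf y = 2 → y * y = 1 := fun y hy => by
    rw [← sq, ← orderOf_dvd_iff_pow_eq_one, hy]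
  have hinvself : ∀ y : G, orderOf y = 2 → y⁻¹ = y := fun y hy => inv_eq_of_mul_eq_one_right (hself y hy)
  have hloc : ∀ x : P.N, φ x ≠ 0 → ∀ y y' : G, IsConj z y → IsConj z y' → y * y' = (x : G) → y ∈ P.N := by
    intro x hx y y' hy hy' hyy
    have hsp : P.Sp x := by
      by_cases h1 : P.ext v (x : G) = 0
      · refine P.sp_of_ext (v := opp v) (by simp [opp, hv]) fun h2 => hx ?_
        simp [hφ, h1, h2]
      · exact P.sp_of_ext hv h1
    have hc : y * (x : G) * y⁻¹ = (x : G)⁻¹ := by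
      rw [← hyy, mul_inv_rev, hinvself y' (hord y' hy'), ← mul_assoc, hself y (hord y hy), one_mul]
    exact P.mem_N hsp (hc ▸ P.sp_inv hsp)
  obtain ⟨Cst, -, hCst, hq⟩ := qfun_indFun P.N z φ hloc
  set Y := {y : G // y ∈ P.N ∧ orderOf y = 2 ∧ y ∉ P.X}
  haveI : Fintype Y := Fintype.ofFinite Y
  have hprod : ∀ a b : Y, (a : G) * b ∈ P.X := by
    intro a b
    have h1 := P.two a a.2.1 a.2.2.2
    have h2 := inv_mem (P.two b b.2.1 b.2.2.2)
    rw [mul_inv_rev, inv_inv, hinvself _ b.2.2.1] at h2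
    have h3 := mul_mem h1 h2
    rwa [mul_assoc, inv_mul_cancel_left] at h3
  let ev : Y → {y : P.N // IsConj z (y : G)} := fun y => ⟨⟨y, y.2.1⟩, hconj _ y.2.2.1⟩
  have hinj : Function.Injective ev := fun a b h =>
    Subtype.ext (congrArg (fun q : {y : P.N // IsConj z (y : G)} => ((q.1 : P.N) : G)) h)
  have hzero : ∀ a b : {y : P.N // IsConj z (y : G)}, ((a.1 : P.N) : G) ∈ P.X ∨ ((b.1 : P.N) : G) ∈ P.X →
      φ (a.1 * b.1) = 0 := by
    intro a b hab
    by_cases hx : ((a.1 : P.N) : G) * (b.1 : P.N) ∈ P.X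
    · have haX : ((a.1 : P.N) : G) ∈ P.X := hab.elim id fun hb => (Subgroup.mul_mem_cancel_right _ hb).1 hx
      have hbX : ((b.1 : P.N) : G) ∈ P.X := (Subgroup.mul_mem_cancel_left _ haX).1 hx
      have h2 : ∀ y (hy : y ∈ P.X), orderOf y = 2 → P.θ ⟨y, hy⟩ = 1 := fun y hy hyo =>
        not_not.1 fun h => P.not_sp_sq (hself y hyo) ⟨hy, h⟩
      show P.ext v (((a.1 : P.N) : G) * (b.1 : P.N)) + P.ext (opp v) (((a.1 : P.N) : G) * (b.1 : P.N)) = 0
      rw [P.ext_apply v hx, P.ext_apply (opp v) hx, show (⟨_, hx⟩ : P.X) = ⟨_, haX⟩ * ⟨_, hbX⟩ from rfl, map_mul,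
        h2 _ haX (hord _ a.2), h2 _ hbX (hord _ b.2)]
      simp [opp, hv]
    · show P.ext v (((a.1 : P.N) : G) * (b.1 : P.N)) + P.ext (opp v) (((a.1 : P.N) : G) * (b.1 : P.N)) = 0
      rw [P.ext_not_mem v hx, P.ext_not_mem (opp v) hx, add_zero]
  have hsplit : ∀ f : {y : P.N // IsConj z (y : G)} → ℂ,
      (∀ a : {y : P.N // IsConj z (y : G)}, ((a.1 : P.N) : G) ∈ P.X → f a = 0) → ∑ a, f a = ∑ y, f (ev y) := by
    intro f hf
    rw [← Finset.sum_image (g := ev) (f := f) hinj.injOn]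
    refine (Finset.sum_subset (Finset.subset_univ _) fun a _ ha => hf a ?_).symm
    by_contra hn
    exact ha (Finset.mem_image.2 ⟨⟨((a.1 : P.N) : G), a.1.2, hord _ a.2, hn⟩, Finset.mem_univ _, Subtype.ext rfl⟩)
  set S := ∑ a : Y, ∑ b : Y, (χ (P.θ ⟨_, hprod a b⟩) : ℂ) with hS
  -- the shift by `u`
  have hS0 : S = 0 := by
    have hmem : ∀ b : Y, (b : G) * u ∈ P.N ∧ orderOf ((b : G) * u) = 2 ∧ (b : G) * u ∉ P.X := fun b => by
      refine ⟨mul_mem b.2.1 (P.le u.2), ?_, fun h => b.2.2.2 ((Subgroup.mul_mem_cancel_right _ u.2).1 h)⟩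
      have h1 := huinv b b.2.1 b.2.2.2
      rw [hinvself _ b.2.2.1] at h1
      refine orderOf_eq_prime ?_ fun h => b.2.2.2 ?_
      · rw [sq, ← mul_assoc, h1, inv_mul_cancel]
      · rw [eq_inv_of_mul_eq_one_left h]
        exact inv_mem u.2
    have hbij : Function.Bijective fun b : Y => (⟨(b : G) * u, hmem b⟩ : Y) :=
      Finite.injective_iff_bijective.1 fun a b h => Subtype.ext (mul_right_cancel (congrArg Subtype.val h))
    have hrow : ∀ a : Y, (χ (P.θ u) : ℂ) * ∑ b : Y, (χ (P.θ ⟨_, hprod a b⟩) : ℂ) =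
        ∑ b : Y, (χ (P.θ ⟨_, hprod a b⟩) : ℂ) := by
      intro a
      rw [Finset.mul_sum]
      refine Fintype.sum_bijective _ hbij _ _ fun b => ?_
      rw [show (⟨(a : G) * ((b : G) * u), hprod a ⟨_, hmem b⟩⟩ : P.X) = ⟨_, hprod a b⟩ * u from
        Subtype.ext (mul_assoc _ _ _).symm, map_mul, map_mul, Units.val_mul, mul_comm]
    have h1 : (χ (P.θ u) : ℂ) * S = S := by
      rw [hS, Finset.mul_sum]
      exact Finset.sum_congr rfl fun a _ => hrow a
    exact (mul_eq_zero.1 (show ((χ (P.θ u) : ℂ) - 1) * S = 0 by linear_combination h1)).resolve_left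
      (sub_ne_zero.2 fun hc => hu (Units.ext hc))
  have hswap : ∑ a : Y, ∑ b : Y, (χ (P.θ ⟨_, hprod a b⟩)⁻¹ : ℂ) = S := by
    rw [hS, Finset.sum_comm]
    refine Finset.sum_congr rfl fun b _ => Finset.sum_congr rfl fun a _ => ?_
    rw [← map_inv P.θ]
    congr 3
    exact Subtype.ext (by
      show ((a : G) * b)⁻¹ = (b : G) * a
      rw [mul_inv_rev, hinvself _ a.2.2.1, hinvself _ b.2.2.1])
  have hsum : ∑ᶠ p : {y : P.N // IsConj z (y : G)} × {y : P.N // IsConj z (y : G)}, φ (p.1.1 * p.2.1) =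
      2 * (P.nOut : ℂ) ^ 2 := by
    rw [finsum_eq_sum_of_fintype, Fintype.sum_prod_type,
      hsplit _ fun a ha => Finset.sum_eq_zero fun b _ => hzero a b (Or.inl ha),
      Finset.sum_congr rfl fun a _ => hsplit _ fun b hb => hzero (ev a) b (Or.inr hb)]
    have hval : ∀ a b : Y, φ ((ev a).1 * (ev b).1) =
        2 - (χ (P.θ ⟨_, hprod a b⟩) : ℂ) - (χ (P.θ ⟨_, hprod a b⟩)⁻¹ : ℂ) := fun a b => by
      show P.ext v ((a : G) * b) + P.ext (opp v) ((a : G) * b) = _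
      rw [P.ext_apply v (hprod a b), P.ext_apply (opp v) (hprod a b), hvdef]
      simp only [opp, one_sub]
      ring
    rw [Finset.sum_congr rfl fun a _ => Finset.sum_congr rfl fun b _ => hval a b]
    simp only [Finset.sum_sub_distrib, Finset.sum_const, Finset.card_univ, nsmul_eq_mul]
    rw [← hS, hswap, hS0, nOut, Nat.card_eq_fintype_card]
    ring
  rw [P.ind_eq_indN, hq, hsum, hCst, P.card_N]
  have hX : (Nat.card P.X : ℂ) ≠ 0 := by exact_mod_cast Nat.card_pos.ne'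
  have hn0 : (Nat.card {x : G // IsConj z x} : ℂ) ≠ 0 := by
    haveI : Nonempty {x : G // IsConj z x} := ⟨⟨z, IsConj.refl _⟩⟩
    exact_mod_cast Nat.card_pos.ne'
  have hc : Nat.card {x : G // IsConj z x} * Nat.card (centralizer ({z} : Set G)) = Nat.card G := by
    have h := (MulAction.stabilizer (ConjAct G) z).card_mul_index
    rw [MulAction.index_stabilizer, Nat.card_congr ConjAct.ofConjAct.toEquiv,
      ConjAct.stabilizer_eq_centralizer] at h
    rw [← h, mul_comm]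
    congr 1
    rw [← Nat.card_coe_set_eq]
    refine Nat.card_congr (Equiv.subtypeEquivRight fun x => ?_)
    rw [ConjAct.mem_orbit_conjAct, isConj_comm]
  rw [← hc]
  push_cast
  field_simp

end PairTI

end CfsgLib.OddCyc
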