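import Cfsg.Agent.Lib.Invol.Taussky
import Cfsg.Agent.Lib.Fusion.Tate
import Cfsg.Prelude.Def_CaseTheorems
import Mathlib.GroupTheory.IndexNormal

/-!
# Sylow 2-subgroups with a cyclic subgroup of index two in groups without subgroups of index two
-/

set_option autoImplicit false
set_option linter.unusedSectionVars false
set_option linter.style.haveILetI false

namespace CfsgLib.OddCyc

open Subgroup CfsgLib.Invol
open scoped commutatorElement

variable {X : Type*} [Group X] [Finite X]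

/-- an involution outside a cyclic subgroup of index two of a Sylow subgroup commutes with no element of
order at least four -/
theorem false_of_outer_invol (hX : ∀ M : Subgroup X, M.index ≠ 2) (S : Sylow 2 X) (A : Subgroup X)
    (hA : A ≤ (S : Subgroup X)) (hAi : A.relIndex (S : Subgroup X) = 2) (hAc : IsCyclic A) {u y : X}
    (hu : orderOf u = 2) (huS : u ∈ (S : Subgroup X)) (huA : u ∉ A) (hy : y ∈ (S : Subgroup X))
    (hc : Commute y u) (hy2 : y ^ 2 ≠ 1) : False := by
  classical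
  haveI : Fact (Nat.Prime 2) := ⟨Nat.prime_two⟩
  obtain ⟨g, hg⟩ : ∃ g : X, g * u * g⁻¹ ∈ A := by
    by_contra! h
    obtain ⟨M, -, hM, -⟩ := CfsgLib.Fusion.thompson_transfer S hA hAi (hu ▸ pow_orderOf_eq_one u) h
    exact hX M hM
  set z := g * u * g⁻¹ with hz
  have hzo : orderOf z = 2 := by
    rw [hz, show g * u * g⁻¹ = MulAut.conj g u from rfl, MulEquiv.orderOf_eq, hu]
  have hsq : ∀ w ∈ (S : Subgroup X), w ^ 2 ∈ A := by
    intro w hw
    have h := (A.subgroupOf (S : Subgroup X)).sq_mem_of_index_two hAi ⟨w, hw⟩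
    rwa [Subgroup.mem_subgroupOf] at h
  -- the cyclic group has one involution
  have huniq : ∀ w ∈ A, orderOf w = 2 → w = z := by
    intro w hw hwo
    haveI := Fintype.ofFinite A
    have h2 : 2 ∣ Fintype.card A := by
      rw [← Nat.card_eq_fintype_card]
      exact hzo ▸ Subgroup.orderOf_dvd_natCard A hg
    have h1 := IsCyclic.card_orderOf_eq_totient (α := A) h2
    rw [Nat.totient_two] at h1
    exact congrArg Subtype.val (Finset.card_le_one.1 h1.le (⟨w, hw⟩ : A)
      (Finset.mem_filter.2 ⟨Finset.mem_univ _, by rw [Subgroup.orderOf_mk, hwo]⟩) ⟨z, hg⟩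
      (Finset.mem_filter.2 ⟨Finset.mem_univ _, by rw [Subgroup.orderOf_mk, hzo]⟩))
  have hSz : (S : Subgroup X) ≤ centralizer ({z} : Set X) := fun s hs => by
    rw [mem_centralizer_singleton_iff]
    haveI : (A.subgroupOf (S : Subgroup X)).Normal := Subgroup.normal_of_index_eq_two hAi
    have h1 : s * z * s⁻¹ ∈ A := by
      have := (inferInstance : (A.subgroupOf (S : Subgroup X)).Normal).conj_mem ⟨z, hA hg⟩
        (Subgroup.mem_subgroupOf.2 hg) ⟨s, hs⟩
      exact Subgroup.mem_subgroupOf.1 this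
    have h2 := huniq _ h1 (by rw [show s * z * s⁻¹ = MulAut.conj s z from rfl, MulEquiv.orderOf_eq, hzo])
    exact mul_inv_eq_iff_eq_mul.1 h2
  -- the 2-element `y` can be moved into the Sylow subgroup inside the centraliser of `z`
  have hgy : g * y * g⁻¹ ∈ centralizer ({z} : Set X) := by
    rw [mem_centralizer_singleton_iff, hz]
    calc g * y * g⁻¹ * (g * u * g⁻¹) = g * (y * u) * g⁻¹ := by group
      _ = g * (u * y) * g⁻¹ := by rw [hc.eq]
      _ = _ := by group
  obtain ⟨j, hj⟩ : ∃ j, orderOf y = 2 ^ j := by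
    obtain ⟨k, hk⟩ := S.2 ⟨y, hy⟩
    obtain ⟨i, -, hi⟩ := (Nat.dvd_prime_pow Nat.prime_two).1 (orderOf_dvd_of_pow_eq_one hk)
    exact ⟨i, by rw [← hi, Subgroup.orderOf_mk]⟩
  have hj2 : 2 ≤ j := by
    by_contra h
    refine hy2 (orderOf_dvd_iff_pow_eq_one.1 ?_)
    rw [hj]
    exact dvd_trans (pow_dvd_pow 2 (show j ≤ 1 by omega)) (by norm_num)
  let C := centralizer ({z} : Set X)
  let T : Sylow 2 C := S.subtype hSz
  let w : C := ⟨g * y * g⁻¹, hgy⟩
  have hwo : orderOf w = 2 ^ j := by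
    rw [Subgroup.orderOf_mk, show g * y * g⁻¹ = MulAut.conj g y from rfl, MulEquiv.orderOf_eq, hj]
  obtain ⟨R, hR⟩ := (IsPGroup.of_card (n := j) (by rw [Nat.card_zpowers, hwo]) :
    IsPGroup 2 (zpowers w)).exists_le_sylow
  obtain ⟨c, hc'⟩ := MulAction.exists_smul_eq C R T
  have hxS : ((c * w * c⁻¹ : C) : X) ∈ (S : Subgroup X) := by
    have h1 : (c * w * c⁻¹ : C) ∈ (T : Subgroup C) := by
      rw [← hc']
      exact ⟨w, hR (mem_zpowers w), rfl⟩
    exact h1
  set x : X := ((c * w * c⁻¹ : C) : X) with hx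
  have hxo : orderOf x = 2 ^ j := by
    rw [hx, Subgroup.orderOf_coe, show c * w * c⁻¹ = MulAut.conj c w from rfl, MulEquiv.orderOf_eq, hwo]
  have hxz : x ^ 2 ^ (j - 1) = z := by
    refine huniq _ ?_ ?_
    · rw [show 2 ^ (j - 1) = 2 * 2 ^ (j - 2) by rw [← pow_succ']; congr 1; omega, pow_mul]
      exact pow_mem (hsq x hxS) _
    · rw [orderOf_pow' _ (pow_ne_zero _ two_ne_zero), hxo, Nat.gcd_eq_right (pow_dvd_pow 2 (by omega)),
        Nat.pow_div (by omega) two_pos, show j - (j - 1) = 1 by omega, pow_one]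
  have hcz : (c : X) * z = z * (c : X) := mem_centralizer_singleton_iff.1 c.2
  have hyu : y ^ 2 ^ (j - 1) = u := by
    have h1 : x ^ 2 ^ (j - 1) = (c : X) * (g * y ^ 2 ^ (j - 1) * g⁻¹) * (c : X)⁻¹ := by
      rw [hx, Subgroup.coe_mul, Subgroup.coe_mul, Subgroup.coe_inv, ← conj_pow, ← conj_pow]
    rw [hxz] at h1
    have h2 : g * y ^ 2 ^ (j - 1) * g⁻¹ = g * u * g⁻¹ := by
      calc g * y ^ 2 ^ (j - 1) * g⁻¹
          = (c : X)⁻¹ * ((c : X) * (g * y ^ 2 ^ (j - 1) * g⁻¹) * (c : X)⁻¹) * c := by group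
        _ = (c : X)⁻¹ * (z * c) := by rw [← h1, mul_assoc]
        _ = z := by rw [← hcz, inv_mul_cancel_left]
        _ = _ := hz
    exact mul_left_cancel (mul_right_cancel h2)
  refine huA ?_
  rw [← hyu, show 2 ^ (j - 1) = 2 * 2 ^ (j - 2) by rw [← pow_succ']; congr 1; omega, pow_mul]
  exact pow_mem (hsq y hy) _

/-- **the shapes** -/
theorem two_shape (hX : ∀ M : Subgroup X, M.index ≠ 2) (S : Sylow 2 X) (C : Subgroup ↥(S : Subgroup X))
    (hC : IsCyclic C) (hi : C.index ∣ 2) :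
    IsCyclic ↥(S : Subgroup X) ∨ (∃ n : ℕ, 2 ≤ n ∧ Nonempty (↥(S : Subgroup X) ≃* DihedralGroup n)) ∨
      (∃ n : ℕ, Nonempty (↥(S : Subgroup X) ≃* QuaternionGroup (2 ^ n))) ∨
      Cfsg.IsQuasiDihedral ↥(S : Subgroup X) := by
  classical
  haveI : Fact (Nat.Prime 2) := ⟨Nat.prime_two⟩
  by_cases hcyc : IsCyclic ↥(S : Subgroup X)
  · exact Or.inl hcyc
  refine Or.inr ?_
  have hi2 : C.index = 2 := by
    refine ((Nat.dvd_prime Nat.prime_two).1 hi).resolve_left fun h => hcyc ?_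
    rw [Subgroup.index_eq_one] at h
    subst h
    exact Subgroup.topEquiv.isCyclic.1 hC
  obtain ⟨a, ha⟩ := Subgroup.isCyclic_iff_exists_zpowers_eq_top _ |>.1 hC
  subst ha
  obtain ⟨b, -, hb⟩ := SetLike.exists_of_lt (lt_top_iff_ne_top.2 (fun h : Subgroup.zpowers a = ⊤ => by
    rw [h, Subgroup.index_top] at hi2; omega))
  obtain ⟨r, e, F⟩ := exists_frame hi2 hb
  obtain ⟨k, hk⟩ : ∃ k, orderOf a = 2 ^ k := by
    obtain ⟨j, hj⟩ := S.2 a
    obtain ⟨i, -, hi'⟩ := (Nat.dvd_prime_pow Nat.prime_two).1 (orderOf_dvd_of_pow_eq_one hj)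
    exact ⟨i, hi'⟩
  rw [hk] at F
  have hk0 : k ≠ 0 := by
    rintro rfl
    refine hcyc (isCyclic_of_prime_card (p := 2) ?_)
    rw [F.card, pow_zero, mul_one]
  -- the square of `b` is not a generator
  obtain ⟨e', rfl⟩ : (2 : ℤ) ∣ e := by
    by_contra he
    refine hcyc ⟨⟨b, fun x => ?_⟩⟩
    have hcop : IsCoprime e ((2 : ℤ) ^ k) := by
      refine IsCoprime.pow_right ?_
      rw [Int.isCoprime_iff_gcd_eq_one]
      have : e % 2 = 1 := by omega
      rw [Int.gcd_comm, ← Int.isCoprime_iff_gcd_eq_one]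
      exact ⟨-(e / 2), 1, by omega⟩
    obtain ⟨u, v, huv⟩ := hcop
    have hab : a = (b * b) ^ u := by
      rw [F.sq, ← zpow_mul]
      conv_lhs => rw [← zpow_one a]
      exact F.zpow_eq_iff.2 (by
        rw [ZMod.intCast_eq_intCast_iff_dvd_sub]
        push_cast
        exact ⟨-v, by linear_combination huv⟩)
    have ham : a ∈ zpowers b := by
      rw [hab]
      exact zpow_mem (mul_mem (mem_zpowers b) (mem_zpowers b)) u
    obtain ⟨i, hx | hx⟩ := F.exists_eq x <;> rw [hx]
    · exact zpow_mem ham i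
    · exact mul_mem (zpow_mem ham i) (mem_zpowers b)
  rcases Nat.lt_or_ge k 2 with hk2 | hk2
  · -- four-group
    obtain rfl : k = 1 := by omega
    have h4 : Nat.card ↥(S : Subgroup X) = 4 := by rw [F.card]; norm_num
    refine Or.inl ⟨2, le_rfl, ?_⟩
    haveI : Nontrivial ↥(S : Subgroup X) := Finite.one_lt_card_iff_nontrivial.1 (by rw [h4]; norm_num)
    haveI : IsKleinFour ↥(S : Subgroup X) := ⟨h4, (Monoid.exponent_eq_prime_iff Nat.prime_two).2 fun v hv => by
      obtain ⟨i, -, hi⟩ := (Nat.dvd_prime_pow Nat.prime_two (m := 2)).1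
        ((orderOf_dvd_natCard v).trans (by rw [h4]; norm_num))
      rcases Nat.lt_or_ge i 2 with hi2 | hi2
      · interval_cases i
        · exact absurd (orderOf_eq_one_iff.1 (by simpa using hi)) hv
        · simpa using hi
      · exact absurd (isCyclic_of_orderOf_eq_card v (le_antisymm (Nat.le_of_dvd Nat.card_pos (orderOf_dvd_natCard v))
          (by rw [h4, hi]; exact Nat.pow_le_pow_right two_pos hi2 ))) hcyc⟩
    exact IsKleinFour.nonempty_mulEquiv
  -- `r` is odd
  have hr2 : r % 2 = 1 := by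
    have h := F.mul_sq_conj
    have h2 : (((r * r - 1 : ℤ)) : ZMod (2 ^ k)) = 0 := by push_cast; rw [h, sub_self]
    rw [ZMod.intCast_zmod_eq_zero_iff_dvd] at h2
    have h4 : (2 : ℤ) ∣ r * r - 1 := dvd_trans (by push_cast; exact dvd_pow_self 2 hk0) h2
    by_contra h5
    obtain ⟨s, hs⟩ : (2 : ℤ) ∣ r := by omega
    subst hs
    obtain ⟨w, hw⟩ := h4
    have : (2 : ℤ) ∣ 1 := ⟨2 * s * s - w, by linarith⟩
    norm_num at this
  by_cases hr4 : r % 4 = 3
  · -- maximal class
    have hpk : (2 : ℤ) * 2 ^ (k - 1) = 2 ^ k := two_mul_pow_pred (by omega)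
    have hord : orderOf (a ^ (r - 1)) = 2 ^ (k - 1) := by
      refine orderOf_eq_prime_pow (p := 2) (n := k - 2) ?_ ?_ |>.trans (by congr 1; omega)
      · rw [← zpow_natCast, ← zpow_mul, F.zpow_eq_one_iff]
        push_cast
        intro h
        rw [show (2 : ℤ) ^ k = 2 ^ (k - 2) * 4 by rw [show (4 : ℤ) = 2 ^ 2 by norm_num, ← pow_add]; congr 1; omega,
          mul_comm (r - 1)] at h
        have := (mul_dvd_mul_iff_left (pow_ne_zero _ (two_ne_zero' ℤ))).1 h
        omega
      · rw [← zpow_natCast, ← zpow_mul, F.zpow_eq_one_iff]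
        push_cast
        obtain ⟨s, hs⟩ : (2 : ℤ) ∣ r - 1 := by omega
        exact ⟨s, by rw [hs, show k - 2 + 1 = k - 1 by omega, ← hpk]; ring⟩
    have hmem : a ^ (r - 1) ∈ commutator ↥(S : Subgroup X) := by
      have h : a ^ (r - 1) = ⁅b, a⁆ := by
        rw [commutatorElement_def, F.conj, zpow_sub_one]
      rw [h]
      exact Subgroup.commutator_mem_commutator (Subgroup.mem_top b) (Subgroup.mem_top a)
    have hna : ¬ IsMulCommutative ↥(S : Subgroup X) := fun hc => by
      haveI := hc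
      have h1 : b * a * b⁻¹ = a := by rw [mul_comm' b a, mul_inv_cancel_right]
      rw [F.conj] at h1
      have h2 : a ^ (r - 1) = 1 := by rw [zpow_sub_one, h1, mul_inv_cancel]
      rw [h2, orderOf_one] at hord
      exact absurd hord (Nat.ne_of_lt (Nat.one_lt_two_pow (by omega)))
    have hab : Nat.card ↥(S : Subgroup X) ≤ 4 * Nat.card (commutator ↥(S : Subgroup X)) := by
      have h1 := Nat.le_of_dvd Nat.card_pos (Subgroup.orderOf_dvd_natCard _ hmem)
      rw [hord] at h1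
      rw [F.card, show 2 * 2 ^ k = 4 * 2 ^ (k - 1) by
        rw [show (4 : ℕ) = 2 * 2 by norm_num, mul_assoc, ← pow_succ' 2 (k - 1), Nat.sub_add_cancel (by omega : 1 ≤ k)]]
      exact Nat.mul_le_mul_left 4 h1
    obtain ⟨-, r', e'', b', ht, F'⟩ := frame_std F hna hab
    rcases cases_of_std ht F' with h | h | h
    · exact Or.inl ⟨2 ^ k, le_trans (by norm_num) (Nat.pow_le_pow_right two_pos hk2 : 2 ^ 2 ≤ 2 ^ k), h⟩
    · exact Or.inr (Or.inl ⟨k - 1, h⟩)
    · exact Or.inr (Or.inr h)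
  -- the remaining groups have an outer involution commuting with an element of order at least four
  exfalso
  obtain ⟨w, hw⟩ : ∃ w : ℤ, 1 + r = 2 * w := ⟨(1 + r) / 2, by omega⟩
  obtain ⟨u, v, huv⟩ : IsCoprime w ((2 : ℤ) ^ (k - 1)) := IsCoprime.pow_right ⟨1, -(w / 2), by omega⟩
  have hsq : (a ^ (-e' * u) * b) ^ 2 = 1 := by
    rw [F.ref_sq, F.zpow_eq_one_iff]
    push_cast
    refine ⟨e' * v, ?_⟩
    rw [hw, ← two_mul_pow_pred (show 1 ≤ k by omega)]
    linear_combination (-2 * e') * huv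
  set t := a ^ (-e' * u) * b with ht
  have htn : t ∉ zpowers a := fun h =>
    hb ((mul_mem_cancel_left (zpow_mem (mem_zpowers a) _)).1 h)
  have ht2 : orderOf t = 2 := orderOf_eq_prime hsq fun h => htn (h ▸ one_mem _)
  -- `a` or its square commutes with `t`
  obtain ⟨j, hj, hjc⟩ : ∃ j : ℤ, (a ^ j) ^ 2 ≠ 1 ∧ Commute (a ^ j) t := by
    have hr1 : (2 : ℤ) ^ (k - 1) ∣ r - 1 := by
      have h := F.mul_sq_conj
      have h2 : (((r * r - 1 : ℤ)) : ZMod (2 ^ k)) = 0 := by push_cast; rw [h, sub_self]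
      rw [ZMod.intCast_zmod_eq_zero_iff_dvd] at h2
      push_cast at h2
      obtain ⟨c, hc⟩ := h2
      refine ⟨u * c + v * (r - 1), mul_left_cancel₀ (two_ne_zero' ℤ) ?_⟩
      rw [← two_mul_pow_pred (show 1 ≤ k by omega), show r * r - 1 = (1 + r) * (r - 1) by ring, hw] at hc
      linear_combination (-2 * (r - 1)) * huv + u * hc
    have hcomm : ∀ i : ℤ, (2 : ℤ) ^ k ∣ (r - 1) * i → Commute (a ^ i) t := by
      intro i hi
      refine ((Commute.refl a).zpow_zpow i _).mul_right ?_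
      show a ^ i * b = b * a ^ i
      rw [F.b_mul_zpow]
      congr 1
      refine F.zpow_eq_iff.2 ?_
      rw [ZMod.intCast_eq_intCast_iff_dvd_sub]
      push_cast
      rwa [show r * i - i = (r - 1) * i by ring]
    rcases Nat.lt_or_ge k 3 with hk3 | hk3
    · obtain rfl : k = 2 := by omega
      refine ⟨1, ?_, hcomm 1 (by norm_num; omega)⟩
      rw [zpow_one]
      intro h
      have := Nat.le_of_dvd two_pos (hk ▸ orderOf_dvd_of_pow_eq_one h)
      norm_num at this
    · refine ⟨2, ?_, hcomm 2 ?_⟩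
      · intro h
        rw [← zpow_natCast, ← zpow_mul, F.zpow_eq_one_iff] at h
        push_cast at h
        have h3 : (8 : ℤ) ∣ 2 * 2 := dvd_trans (by
          rw [show (8 : ℤ) = 2 ^ 3 by norm_num]; exact pow_dvd_pow 2 hk3) h
        norm_num at h3
      · rw [← two_mul_pow_pred (show 1 ≤ k by omega), mul_comm (r - 1)]
        exact mul_dvd_mul_left 2 hr1
  refine false_of_outer_invol hX S ((zpowers a).map (S : Subgroup X).subtype) (Subgroup.map_subtype_le _)
    ?_ ?_ (u := (t : X)) (y := ((a ^ j : ↥(S : Subgroup X)) : X)) (by rw [Subgroup.orderOf_coe, ht2]) t.2 ?_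
    (a ^ j).2 (congrArg Subtype.val hjc.eq) fun h => hj (Subtype.ext h)
  · rw [Subgroup.relIndex, Subgroup.subgroupOf, Subgroup.comap_map_eq_self_of_injective
      (Subgroup.subtype_injective _), hi2]
  · exact ((zpowers a).equivMapOfInjective _ (Subgroup.subtype_injective _)).isCyclic.1 inferInstance
  · rintro ⟨x, hx, hxt⟩
    exact htn (Subtype.ext hxt ▸ hx)

end CfsgLib.OddCyc
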