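import Cfsg.Agent.Lib.OddCyc.Local
import Mathlib.GroupTheory.FixedPointFree
import Mathlib.GroupTheory.Transfer

/-!
# The abelian quotient at a prime with a central element of that order
-/

set_option autoImplicit false
set_option linter.unusedSectionVars false
set_option linter.style.haveILetI false

namespace CfsgLib.OddCyc

open Subgroup

universe u

variable {G : Type u} [Group G] [Finite G]

/-- an element of order divisible by `r` has the central subgroup of order `r` among its powers -/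
theorem OddCyclic.central_mem_zpowers (hG : OddCyclic G) {r : ℕ} (hr : r.Prime) (h2 : r ≠ 2) {x₀ x : G}
    (hx₀ : orderOf x₀ = r) (hc : Commute x x₀) (hd : r ∣ orderOf x) : x₀ ∈ zpowers x := by
  have hne : orderOf x / r ≠ 0 := (Nat.div_pos (Nat.le_of_dvd (orderOf_pos x) hd) hr.pos).ne'
  set y := x ^ (orderOf x / r) with hy
  have hyo : orderOf y = r := by
    rw [hy, orderOf_pow' _ hne, Nat.gcd_eq_right (Nat.div_dvd_of_dvd hd), Nat.div_div_self hd (orderOf_pos x).ne']
  have h1 : y ∈ zpowers x₀ := hG.mem_zpowers_of_commute hr h2 hx₀ (orderOf_dvd_iff_pow_eq_one.1 hyo.dvd)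
    (hc.symm.pow_right _)
  have h3 : zpowers y = zpowers x₀ := Subgroup.eq_of_le_of_card_ge (zpowers_le.2 h1)
    (by rw [Nat.card_zpowers, Nat.card_zpowers, hyo, hx₀])
  exact zpowers_le.2 (pow_mem (mem_zpowers x) _) (h3 ▸ mem_zpowers x₀)

/-- **the transfer onto the cyclic Sylow subgroup**, inverted by `t` -/
theorem exists_theta (hG : OddCyclic G) (X : Subgroup G) {r : ℕ} (hr : r.Prime) (h2 : r ≠ 2) {x₀ : G}
    (hx₀X : x₀ ∈ X) (hx₀ : orderOf x₀ = r) (hcen : ∀ x ∈ X, Commute x x₀) {t : G}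
    (hconj : ∀ x ∈ X, t * x * t⁻¹ ∈ X) (ht2 : t * t ∈ X) (hinv : t * x₀ * t⁻¹ = x₀⁻¹) {n : ℕ}
    (hn : r ^ n ∣ Nat.card X) :
    ∃ (Λ : Type u) (_ : CommGroup Λ) (_ : Finite Λ) (_ : IsCyclic Λ) (θ : X →* Λ),
      Function.Surjective θ ∧ Odd (Nat.card Λ) ∧ r ^ n ≤ Nat.card Λ ∧ θ ⟨x₀, hx₀X⟩ ≠ 1 ∧
      (∀ x : X, θ x ≠ 1 → r ∣ orderOf (x : G)) ∧
      ∀ x : X, θ ⟨t * (x : G) * t⁻¹, hconj x x.2⟩ = (θ x)⁻¹ := by
  classical
  haveI := Fact.mk hr
  obtain ⟨P⟩ : Nonempty (Sylow r X) := inferInstance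
  haveI hPc : IsCyclic (P : Subgroup X) := (hG.subgroup X) r hr h2 P P.2
  letI : CommGroup (P : Subgroup X) := IsCyclic.commGroup
  set a : X := ⟨x₀, hx₀X⟩ with ha
  have hao : orderOf a = r := by rw [Subgroup.orderOf_mk, hx₀]
  have hapow : a ^ r = 1 := orderOf_dvd_iff_pow_eq_one.1 hao.dvd
  have hac : ∀ g : X, Commute g a := fun g => Subtype.ext (hcen g g.2).eq
  set θ : X →* (P : Subgroup X) := MonoidHom.transfer (MonoidHom.id (P : Subgroup X)) with hθ
  have hθa : θ a ≠ 1 := by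
    intro h
    rw [hθ, MonoidHom.transfer_eq_pow (MonoidHom.id (P : Subgroup X)) a (fun k g₀ _ => by
      rw [((hac g₀⁻¹).pow_right k).eq, inv_mul_cancel_right])] at h
    have h1 : a ^ (P : Subgroup X).index = 1 := congrArg Subtype.val h
    exact P.not_dvd_index (hao.symm.dvd.trans (orderOf_dvd_of_pow_eq_one h1))
  have hθP : Function.Bijective (fun v : (P : Subgroup X) => θ v) := by
    refine Finite.injective_iff_bijective.1 ((injective_iff_map_eq_one (θ.comp (P : Subgroup X).subtype)).2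
      fun v hv => ?_)
    by_contra hv1
    obtain ⟨l, hl⟩ := P.2.exists_card_eq
    obtain ⟨j, -, hj⟩ := (Nat.dvd_prime_pow hr).1 ((_root_.orderOf_dvd_natCard v).trans hl.dvd)
    have hj0 : j ≠ 0 := fun h0 => hv1 (orderOf_eq_one_iff.1 (by rw [hj, h0, pow_zero]))
    have hdiv : r ∣ orderOf ((v : X) : G) := by
      rw [Subgroup.orderOf_coe, Subgroup.orderOf_coe, hj]; exact dvd_pow_self _ hj0
    obtain ⟨i, hi⟩ := mem_zpowers_iff.1 (hG.central_mem_zpowers hr h2 hx₀ (hcen _ (v : X).2) hdiv)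
    have : a = (v : X) ^ i := Subtype.ext (by rw [SubgroupClass.coe_zpow, hi])
    exact hθa (by rw [this, map_zpow, show θ (v : X) = 1 from hv, one_zpow])
  have hθs : Function.Surjective θ := fun y => ⟨_, (hθP.2 y).choose_spec⟩
  have hker : ∀ x : X, θ x = 1 ↔ ¬ r ∣ orderOf x := by
    have hcard : Nat.card θ.ker = (P : Subgroup X).index := by
      have h1 := θ.ker.card_mul_index
      rw [Subgroup.index_ker, MonoidHom.range_eq_top.2 hθs, Subgroup.card_top] at h1
      exact Nat.eq_of_mul_eq_mul_right (Nat.card_pos : 0 < Nat.card (P : Subgroup X))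
        (h1.trans ((P : Subgroup X).card_mul_index.symm.trans (mul_comm _ _)))
    intro x
    constructor
    · intro h hd
      exact P.not_dvd_index (hcard ▸ hd.trans (Subgroup.orderOf_dvd_natCard _ (MonoidHom.mem_ker.2 h)))
    · intro h
      obtain ⟨l, hl⟩ := P.2.exists_card_eq
      refine orderOf_eq_one_iff.1 (Nat.eq_one_of_dvd_coprimes ?_ (orderOf_map_dvd θ x)
        ((_root_.orderOf_dvd_natCard (θ x)).trans hl.dvd))
      exact Nat.Coprime.pow_right l ((hr.coprime_iff_not_dvd.2 h).symm)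
  let cw : X →* X :=
    { toFun := fun x => ⟨t * x * t⁻¹, hconj x x.2⟩
      map_one' := Subtype.ext (by simp)
      map_mul' := fun a b => Subtype.ext (by simp [mul_assoc]) }
  have hcwk : θ.ker ≤ (θ.comp cw).ker := fun x hx => by
    rw [MonoidHom.mem_ker, MonoidHom.comp_apply, hker, ← Subgroup.orderOf_coe]
    rw [MonoidHom.mem_ker, hker, ← Subgroup.orderOf_coe] at hx
    show ¬ r ∣ orderOf (t * (x : G) * t⁻¹)
    rwa [← MulAut.conj_apply, MulEquiv.orderOf_eq]
  set σ := θ.liftOfSurjective hθs ⟨θ.comp cw, hcwk⟩ with hσdef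
  have hσ : ∀ x, σ (θ x) = θ (cw x) := fun x =>
    MonoidHom.liftOfRightInverse_comp_apply θ _ (Function.rightInverse_surjInv hθs) ⟨θ.comp cw, hcwk⟩ x
  have hinvol : Function.Involutive σ := fun y => by
    obtain ⟨x, rfl⟩ := hθs y
    rw [hσ, hσ, show cw (cw x) = ⟨_, ht2⟩ * x * (⟨_, ht2⟩ : X)⁻¹ from Subtype.ext (by
      show t * (t * (x : G) * t⁻¹) * t⁻¹ = t * t * (x : G) * (t * t)⁻¹
      group), map_mul, map_mul, map_inv, mul_right_comm, mul_inv_cancel, one_mul]
  have hodd : Odd r := hr.odd_of_ne_two h2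
  have hfp : MonoidHom.FixedPointFree σ := by
    intro y hy
    by_contra hy1
    obtain ⟨l, hl⟩ := P.2.exists_card_eq
    obtain ⟨j, -, hj⟩ := (Nat.dvd_prime_pow hr).1 ((_root_.orderOf_dvd_natCard y).trans hl.dvd)
    have hj0 : j ≠ 0 := fun h0 => hy1 (orderOf_eq_one_iff.1 (by rw [hj, h0, pow_zero]))
    obtain ⟨i, hi⟩ := mem_zpowers_iff.1 (((hG.subgroup X).subgroup (P : Subgroup X)).central_mem_zpowers hr h2
      (x₀ := θ a) (x := y) (orderOf_eq_prime (by rw [← map_pow, hapow, map_one]) hθa) (Commute.all _ _)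
      (hj ▸ dvd_pow_self r hj0))
    have hfix : σ (θ a) = θ a := by rw [← hi, map_zpow, hy]
    rw [hσ, show cw a = a⁻¹ from Subtype.ext hinv, map_inv] at hfix
    refine hθa (orderOf_eq_one_iff.1 (Nat.eq_one_of_dvd_coprimes (Nat.coprime_two_left.2 ?_)
      (orderOf_dvd_of_pow_eq_one (by rw [sq]; exact mul_eq_one_iff_eq_inv.2 hfix.symm)) dvd_rfl))
    exact hodd.of_dvd_nat ((orderOf_map_dvd θ a).trans hao.dvd)
  refine ⟨(P : Subgroup X), inferInstance, inferInstance, hPc, θ, hθs, ?_, ?_, hθa, fun x hx => ?_, fun x => ?_⟩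
  · obtain ⟨l, hl⟩ := P.2.exists_card_eq
    rw [hl]
    exact hodd.pow
  · refine Nat.le_of_dvd Nat.card_pos ?_
    obtain ⟨l, hl⟩ := P.2.exists_card_eq
    refine Nat.Coprime.dvd_of_dvd_mul_right (Nat.Coprime.pow_left n (hr.coprime_iff_not_dvd.2 P.not_dvd_index)) ?_
    rwa [(P : Subgroup X).card_mul_index]
  · by_contra h
    exact hx ((hker x).2 (by rwa [← Subgroup.orderOf_coe]))
  · show θ (cw x) = _
    rw [← hσ, hfp.coe_eq_inv_of_involutive hinvol]

end CfsgLib.OddCyc
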