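import Cfsg.Agent.Lib.OddCyc.BigSub
import Cfsg.Agent.Lib.OddCyc.Theta
import Cfsg.Agent.Lib.Char.GLThreeCent.Main
import Cfsg.Agent.Lib.Char.LThreeThree.GLRecog
import Cfsg.Agent.Lib.Invol.BrauerSuzuki

/-!
# The local structure for the field of three elements
-/

set_option autoImplicit false
set_option linter.unusedSectionVars false
set_option linter.style.haveILetI false

namespace CfsgLib.OddCyc

open Subgroup Cfsg CfsgLib.Perm.Dickson CfsgLib.GW
open scoped commutatorElement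

universe u

namespace Frame

variable {H : Type*} [Group H] [Finite H] {F : Type} [Field F] [Fintype F] (D : Frame H F)
  (hq : Fintype.card F = 3)

include D hq in
theorem m_k_three : D.m = 1 ∧ D.k = 4 := by
  have h : Nat.card F = 3 := by rw [Nat.card_eq_fintype_card, hq]
  constructor
  · unfold Frame.m outerCard
    rw [h]
    norm_num
  · unfold Frame.k invCard
    rw [h]
    norm_num

include D hq in
theorem card_H_three : Nat.card H = 48 := by
  rw [D.card_H, Nat.card_eq_fintype_card, hq, (D.m_k_three hq).1, (D.m_k_three hq).2]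

include D hq in
/-- no two-element outside the centre commutes with an element of order three -/
theorem two_mem_center {g x : H} (hx : orderOf x = 3) {j : ℕ} (hg : g ^ 2 ^ j = 1) (hc : Commute g x) :
    g ∈ zpowers D.z := by
  haveI := finite_G2 (F := F)
  rw [← D.ker_eq, MonoidHom.mem_ker]
  by_contra hne
  obtain ⟨i, -, hi⟩ := (Nat.dvd_prime_pow Nat.prime_two).1
    (orderOf_dvd_of_pow_eq_one (show D.π g ^ 2 ^ j = 1 by rw [← map_pow, hg, map_one]))
  have hi0 : i ≠ 0 := fun h => hne (orderOf_eq_one_iff.1 (by rw [hi, h, pow_zero]))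
  have h2 : 2 ∣ orderOf (D.π g) := hi ▸ dvd_pow_self 2 hi0
  set u := D.π g ^ (orderOf (D.π g) / 2) with hu
  have huo : orderOf u = 2 := by
    rw [hu, orderOf_pow' _ (Nat.div_pos (Nat.le_of_dvd (orderOf_pos _) h2) two_pos).ne',
      Nat.gcd_eq_right (Nat.div_dvd_of_dvd h2), Nat.div_div_self h2 (orderOf_pos _).ne']
  obtain ⟨a, b, hgood, hm, -, -⟩ := exists_invol_torus D.odd huo
  have hxo : orderOf (D.π x) = 3 := by
    haveI : Fact (Nat.Prime 3) := ⟨Nat.prime_three⟩
    refine orderOf_eq_prime (by rw [← map_pow, orderOf_dvd_iff_pow_eq_one.1 hx.dvd, map_one]) fun h => ?_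
    rw [← MonoidHom.mem_ker, D.ker_eq] at h
    have := orderOf_dvd_of_mem_zpowers h
    rw [hx, D.ord_z] at this
    norm_num at this
  have hmem : D.π x ∈ Subgroup.centralizer {u} := Subgroup.mem_centralizer_singleton_iff.2
    (((hc.map D.π).symm.pow_right _).eq)
  have h3 := Subgroup.orderOf_dvd_natCard _ hmem
  rw [hxo, cent_eq_pairSet hgood.1 hm huo, card_pairSet hgood] at h3
  rcases card_pairFix_cases hgood with h | h <;> rw [h] at h3 <;> simp [invCard, outerCard, hq] at h3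

include D hq in
theorem card_cent_three {x : H} (hx : orderOf x = 3) : Nat.card (centralizer ({x} : Set H)) = 6 := by
  haveI : Fact (Nat.Prime 2) := ⟨Nat.prime_two⟩
  set C := centralizer ({x} : Set H)
  have hxC : x ∈ C := Subgroup.mem_centralizer_singleton_iff.2 rfl
  have hzC : D.z ∈ C := Subgroup.mem_centralizer_singleton_iff.2 (D.z_comm x).eq
  have hd : Nat.card C ∣ 48 := D.card_H_three hq ▸ Subgroup.card_subgroup_dvd_card C
  have h6 : 6 ∣ Nat.card C := (show Nat.Coprime 2 3 by norm_num).mul_dvd_of_dvd_of_dvd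
    (D.ord_z.symm.dvd.trans (Subgroup.orderOf_dvd_natCard C hzC))
    (hx.symm.dvd.trans (Subgroup.orderOf_dvd_natCard C hxC))
  have h4 : ¬ 4 ∣ Nat.card C := by
    intro h
    obtain ⟨K, hK⟩ := Sylow.exists_subgroup_card_pow_prime 2 (G := C) (n := 2) (by norm_num; exact h)
    have hle : K.map C.subtype ≤ zpowers D.z := by
      rintro _ ⟨v, hv, rfl⟩
      refine D.two_mem_center hq hx (j := 2) ?_ (Subgroup.mem_centralizer_singleton_iff.1 v.2)
      have := orderOf_dvd_iff_pow_eq_one.1 (hK ▸ Subgroup.orderOf_dvd_natCard K hv)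
      exact congrArg Subtype.val this
    have := Subgroup.card_le_of_le hle
    rw [Subgroup.card_map_of_injective C.subtype_injective, hK, Nat.card_zpowers, D.ord_z] at this
    norm_num at this
  have hle : Nat.card C ≤ 48 := Nat.le_of_dvd (by norm_num) hd
  obtain ⟨a, ha⟩ := h6
  rw [ha] at hd h4 hle ⊢
  have ha8 : a ≤ 8 := by omega
  interval_cases a <;> first | omega | (norm_num at hd) | (norm_num at h4)

include hq in
theorem card_cent_tau : Nat.card (centralizer ({D.τ} : Set H)) ≤ 4 := by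
  classical
  obtain ⟨c, w, hc, -, -, -, hlist, -⟩ := D.exists_cent
  have hc1 : c = 1 := orderOf_eq_one_iff.1 (hc.trans (D.m_k_three hq).1)
  have hsub : (centralizer ({D.τ} : Set H) : Set H) ⊆ ↑({1, D.z, D.τ, D.τ * D.z} : Finset H) := by
    intro x hx
    obtain ⟨i, h⟩ := hlist x (Subgroup.mem_centralizer_singleton_iff.1 hx)
    simp only [hc1, one_pow, one_mul] at h
    simpa using h
  rw [← SetLike.coe_sort_coe, Nat.card_coe_set_eq]
  refine (Set.ncard_le_ncard hsub (Finset.finite_toSet _)).trans ?_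
  rw [Set.ncard_coe_finset]
  exact Finset.card_le_four

end Frame

namespace Setup

variable {G : Type u} [Group G] [Finite G] {F : Type} [Field F] [Fintype F] (A : Setup G F)
  (hq : Fintype.card F = 3)

include hq in
theorem card_C : Nat.card ↥(centralizer {A.z}) = A.o * 48 := by
  rw [(Cfsg.oddCore ↥(centralizer {A.z})).card_eq_card_quotient_mul_card_subgroup, A.D.card_H_three hq,
    mul_comm]
  rfl

include hq in
/-- **the core is not trivial** -/
theorem o_ne_one : A.o ≠ 1 := by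
  intro ho
  classical
  haveI : Fact (Nat.Prime 2) := ⟨Nat.prime_two⟩
  haveI : Fact (Nat.Prime 3) := ⟨Nat.prime_three⟩
  haveI := A.simple
  have hker : A.p.ker = ⊥ := by rw [A.p_ker]; exact Subgroup.card_eq_one.1 ho
  have hinj : Function.Injective A.p := (MonoidHom.ker_eq_bot_iff _).1 hker
  obtain ⟨eH⟩ := CfsgLib.Char.LThreeThree.gl_two_three_of_centralizers (A.D.card_H_three hq) A.D.ord_z
    (fun w => (A.D.z_comm w).eq.symm) (fun w hw => A.D.card_cent_three hq hw) A.D.ord_τ A.D.τ_ne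
    (A.D.card_cent_tau hq)
  have hG := CfsgLib.Char.GLThreeCent.card_of_centralizer_gl A.z A.hz
    ((MulEquiv.ofBijective A.p ⟨hinj, A.p_surj⟩).trans eH)
  obtain ⟨x', hx'⟩ := exists_prime_orderOf_dvd_card' (G := ↥(centralizer {A.z})) 3
    (by rw [A.card_C hq, ho]; norm_num)
  set x : G := (x' : G) with hxdef
  have hxo : orderOf x = 3 := by rw [hxdef, Subgroup.orderOf_coe, hx']
  have hxz : Commute x A.z := A.commute_z.1 x'.2
  -- two-elements of the centraliser commuting with `x`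
  have htwo : ∀ v : G, Commute v A.z → Commute v x → (∃ j, v ^ 2 ^ j = 1) → v = 1 ∨ v = A.z := by
    rintro v hvz hvx ⟨j, hj⟩
    set v' : ↥(centralizer {A.z}) := ⟨v, A.commute_z.2 hvz⟩ with hv'
    have h := A.D.two_mem_center hq (x := A.p x') (by rw [orderOf_injective _ hinj, hx']) (g := A.p v') (j := j)
      (by rw [← map_pow, show v' ^ 2 ^ j = 1 from Subtype.ext hj, map_one])
      ((show Commute v' x' from Subtype.ext hvx.eq).map A.p)
    obtain ⟨i, hi⟩ := mem_zpowers_iff.1 h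
    rw [← A.p_z, ← map_zpow] at hi
    have h' : A.z ^ i = v := congrArg Subtype.val (hinj hi)
    rcases Int.even_or_odd i with ⟨c, hc⟩ | ⟨c, hc⟩
    · left
      rw [← h', hc, ← two_mul, zpow_mul, zpow_ofNat, sq_of_order_two A.hz, one_zpow]
    · right
      rw [← h', hc, zpow_add_one, zpow_mul, zpow_ofNat, sq_of_order_two A.hz, one_zpow, one_mul]
  set Cx := centralizer ({x} : Set G) with hCx
  set z' : Cx := ⟨A.z, Subgroup.mem_centralizer_singleton_iff.2 hxz.eq.symm⟩ with hz'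
  have hz'o : orderOf z' = 2 := by rw [Subgroup.orderOf_mk, A.hz]
  obtain ⟨T, hT⟩ := (IsPGroup.of_card (n := 1) (by rw [Nat.card_zpowers, hz'o, pow_one]) :
    IsPGroup 2 (zpowers z')).exists_le_sylow
  have hTle : (T : Subgroup Cx) ≤ zpowers z' := by
    haveI : Nontrivial (T : Subgroup Cx) := (Subgroup.nontrivial_iff_ne_bot _).2 fun h => by
      have := h ▸ hT (mem_zpowers z')
      rw [Subgroup.mem_bot] at this
      rw [this, orderOf_one] at hz'o
      omega
    haveI := T.2.center_nontrivial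
    obtain ⟨u, hu1⟩ := exists_ne (1 : center (T : Subgroup Cx))
    have hcomm : ∀ v ∈ (T : Subgroup Cx), Commute v ((u : (T : Subgroup Cx)) : Cx) := fun v hv =>
      congrArg Subtype.val (Subgroup.mem_center_iff.1 u.2 ⟨v, hv⟩)
    have hcz : Commute (((u : (T : Subgroup Cx)) : Cx) : G) A.z :=
      congrArg Subtype.val (hcomm z' (hT (mem_zpowers z'))).eq.symm
    obtain ⟨j, hj⟩ := T.2 (u : (T : Subgroup Cx))
    have hu : (((u : (T : Subgroup Cx)) : Cx) : G) = A.z := by
      refine (htwo _ hcz (Subgroup.mem_centralizer_singleton_iff.1 ((u : (T : Subgroup Cx)) : Cx).2)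
        ⟨j, congrArg (fun q : (T : Subgroup Cx) => ((q : Cx) : G)) hj⟩).resolve_left fun h => hu1 ?_
      exact Subtype.ext (Subtype.ext (Subtype.ext h))
    intro v hv
    have hvz : Commute (v : G) A.z := by rw [← hu]; exact congrArg Subtype.val (hcomm v hv).eq
    obtain ⟨l, hl⟩ := T.2 ⟨v, hv⟩
    rcases htwo _ hvz (Subgroup.mem_centralizer_singleton_iff.1 v.2)
      ⟨l, congrArg (fun q : (T : Subgroup Cx) => ((q : Cx) : G)) hl⟩ with h | h
    · rw [show v = 1 from Subtype.ext h]; exact one_mem _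
    · rw [show v = z' from Subtype.ext h]; exact mem_zpowers _
  have hTe : (T : Subgroup Cx) = zpowers z' := le_antisymm hTle hT
  haveI hTc : IsCyclic (T : Subgroup Cx) := by rw [hTe]; infer_instance
  obtain ⟨R, K, hK, hRK⟩ := CfsgLib.Invol.hasNormalPComplement_two_of_isCyclic T hTc
  haveI := hK
  have hKidx : K.index = 2 := by
    rw [hRK.symm.index_eq_card, Nat.card_congr (Sylow.equiv R T).toEquiv, hTe, Nat.card_zpowers, hz'o]
  -- a Sylow three-subgroup
  obtain ⟨P, hP⟩ := (IsPGroup.of_card (n := 1) (by rw [Nat.card_zpowers, hxo, pow_one]) :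
    IsPGroup 3 (zpowers x)).exists_le_sylow
  haveI hPc : IsCyclic (P : Subgroup G) := A.hG 3 Nat.prime_three (by norm_num) P P.2
  have hxP : x ∈ (P : Subgroup G) := hP (mem_zpowers x)
  have hPle : (P : Subgroup G) ≤ Cx := fun v hv => Subgroup.mem_centralizer_singleton_iff.2
    (congrArg Subtype.val (IsCyclic.commGroup.mul_comm (⟨v, hv⟩ : (P : Subgroup G)) ⟨x, hxP⟩))
  have hP9 : 9 ∣ Nat.card (P : Subgroup G) := by
    refine (Nat.Coprime.dvd_of_dvd_mul_right (Nat.Coprime.pow_left 2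
      (Nat.prime_three.coprime_iff_not_dvd.2 P.not_dvd_index)) (k := 3 ^ 2) ?_)
    rw [(P : Subgroup G).card_mul_index]
    rcases hG with h | h <;> rw [h] <;> norm_num
  set PC : Sylow 3 Cx := P.subtype hPle
  have hPK : (PC : Subgroup Cx) ≤ K := fun v hv => by
    obtain ⟨l, hl⟩ := PC.2 ⟨v, hv⟩
    refine mem_of_odd_of_index_two hKidx ?_
    exact (Odd.pow (by decide : Odd 3)).of_dvd_nat
      (orderOf_dvd_of_pow_eq_one (show v ^ 3 ^ l = 1 from congrArg Subtype.val hl))
  have hsup := Sylow.normalizer_sup_eq_top (PC.subtype hPK)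
  rw [Sylow.coe_subtype, Subgroup.subgroupOf_map_subtype, inf_eq_left.2 hPK] at hsup
  obtain ⟨n₀, hn₀, hn₀K⟩ : ∃ n₀ ∈ normalizer ((PC : Subgroup Cx) : Set Cx), n₀ ∉ K := by
    by_contra! hc
    have : K = ⊤ := top_le_iff.1 (hsup ▸ sup_le hc le_rfl)
    rw [this, Subgroup.index_top] at hKidx
    omega
  obtain ⟨b, l, hl, hbl⟩ := Nat.exists_eq_two_pow_mul_odd (n := orderOf n₀) (orderOf_pos n₀).ne'
  set n := n₀ ^ l with hn
  have hnN : n ∈ normalizer ((PC : Subgroup Cx) : Set Cx) := pow_mem hn₀ l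
  have hnK : n ∉ K := fun h => Nat.not_even_iff_odd.2 hl ((pow_mem_iff_of_index_two hKidx hn₀K l).1 h)
  obtain ⟨T', hT'⟩ := (IsPGroup.of_card (n := b) (by
    rw [Nat.card_zpowers, hn, orderOf_pow' _ hl.pos.ne', hbl, Nat.gcd_eq_right (Dvd.intro_left _ rfl),
      Nat.mul_div_cancel _ hl.pos]) : IsPGroup 2 (zpowers n)).exists_le_sylow
  obtain ⟨y, hy⟩ := MulAction.exists_smul_eq Cx T' T
  have hyn : y * n * y⁻¹ = z' := by
    have hm : MulAut.conj y n ∈ (T : Subgroup Cx) := by
      rw [← hy, Sylow.coe_subgroup_smul, Subgroup.pointwise_smul_def]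
      exact ⟨n, hT' (mem_zpowers n), rfl⟩
    rw [hTe] at hm
    obtain ⟨i, hi⟩ := mem_zpowers_iff.1 hm
    rcases Int.even_or_odd i with ⟨c, hc⟩ | ⟨c, hc⟩
    · exfalso
      rw [hc, ← two_mul, zpow_mul, zpow_ofNat, sq_of_order_two hz'o, one_zpow, eq_comm, map_eq_one_iff _
        (MulEquiv.injective _)] at hi
      exact hnK (hi ▸ one_mem K)
    · rw [hc, zpow_add_one, zpow_mul, zpow_ofNat, sq_of_order_two hz'o, one_zpow, one_mul] at hi
      exact hi.symm
  have hno : orderOf n = 2 := by rw [← MulEquiv.orderOf_eq (MulAut.conj y), MulAut.conj_apply, hyn, hz'o]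
  -- the involution centralises the Sylow subgroup
  haveI hPCc : IsCyclic (PC : Subgroup Cx) := (A.hG.subgroup Cx) 3 Nat.prime_three (by norm_num) PC PC.2
  have hxPC : (⟨x, Subgroup.mem_centralizer_singleton_iff.2 rfl⟩ : Cx) ∈ (PC : Subgroup Cx) := by
    rw [Sylow.coe_subtype, Subgroup.mem_subgroupOf]
    exact hxP
  have hncomm : ∀ a ∈ (PC : Subgroup Cx), Commute n a := by
    intro a ha
    have hna : n * a * n⁻¹ ∈ (PC : Subgroup Cx) := (Subgroup.mem_normalizer_iff.1 hnN a).1 ha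
    set d := a⁻¹ * (n * a * n⁻¹) with hd
    have hdP : d ∈ (PC : Subgroup Cx) := mul_mem (inv_mem ha) hna
    have hcP : ∀ u v, u ∈ (PC : Subgroup Cx) → v ∈ (PC : Subgroup Cx) → u * v = v * u := fun u v hu hv =>
      congrArg Subtype.val (IsCyclic.commGroup.mul_comm (⟨u, hu⟩ : (PC : Subgroup Cx)) ⟨v, hv⟩)
    have hn2 : n * n = 1 := mul_self_of_order_two hno
    have hninv : n⁻¹ = n := inv_eq_of_mul_eq_one_right hn2
    have hdi : n * d * n⁻¹ = d⁻¹ := by
      rw [hd, mul_inv_rev, inv_inv, hcP _ _ (inv_mem hna) ha]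
      rw [hninv]
      calc n * (a⁻¹ * (n * a * n)) * n = n * a⁻¹ * n * (a * (n * n)) := by group
        _ = a * (n * a * n)⁻¹ := by
          rw [hn2, mul_one, mul_inv_rev, mul_inv_rev, hninv]
          have := hcP (n * a⁻¹ * n) a (by
            have h1 := inv_mem hna
            rw [mul_inv_rev, mul_inv_rev, inv_inv, hninv] at h1
            simpa [mul_assoc] using h1) ha
          rw [this]
          group
    have hd1 : d = 1 := by
      by_contra hd1
      obtain ⟨l', hl'⟩ := PC.2 ⟨d, hdP⟩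
      obtain ⟨j, -, hj⟩ := (Nat.dvd_prime_pow Nat.prime_three).1
        (orderOf_dvd_of_pow_eq_one (show d ^ 3 ^ l' = 1 from congrArg Subtype.val hl'))
      have hj0 : j ≠ 0 := fun h => hd1 (orderOf_eq_one_iff.1 (by rw [hj, h, pow_zero]))
      obtain ⟨i, hi⟩ := mem_zpowers_iff.1 ((A.hG.subgroup Cx).central_mem_zpowers Nat.prime_three (by norm_num)
        (x₀ := (⟨x, Subgroup.mem_centralizer_singleton_iff.2 rfl⟩ : Cx)) (x := d)
        (by rw [Subgroup.orderOf_mk, hxo]) (Subtype.ext (Subgroup.mem_centralizer_singleton_iff.1 d.2))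
        (hj ▸ dvd_pow_self 3 hj0))
      have hnx : n * (⟨x, Subgroup.mem_centralizer_singleton_iff.2 rfl⟩ : Cx) * n⁻¹ =
          (⟨x, Subgroup.mem_centralizer_singleton_iff.2 rfl⟩ : Cx) := Subtype.ext (by
        push_cast
        rw [Subgroup.mem_centralizer_singleton_iff.1 n.2, mul_inv_cancel_right])
      rw [← hi, ← conj_zpow, hdi, inv_zpow, hi] at hnx
      have h2 : x⁻¹ = x := congrArg Subtype.val hnx
      have := orderOf_dvd_of_pow_eq_one (show x ^ 2 = 1 by rw [sq]; exact mul_eq_one_iff_eq_inv.2 h2.symm)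
      rw [hxo] at this
      norm_num at this
    exact mul_inv_eq_iff_eq_mul.1 (inv_mul_eq_one.1 hd1).symm
  -- so the centraliser of `z` is too large
  have hle : (P : Subgroup G).map (MulAut.conj (y : G)).toMonoidHom ≤ centralizer {A.z} := by
    rintro _ ⟨v, hv, rfl⟩
    refine A.commute_z.2 ?_
    have h := (hncomm ⟨v, hPle hv⟩ (by rw [Sylow.coe_subtype, Subgroup.mem_subgroupOf]; exact hv)).symm.map
      (MulAut.conj y).toMonoidHom
    change Commute (y * ⟨v, hPle hv⟩ * y⁻¹) (y * n * y⁻¹) at h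
    rw [hyn] at h
    exact congrArg Subtype.val h.eq
  have h9 : 9 ∣ 48 := by
    have := Subgroup.card_dvd_of_le hle
    rw [Subgroup.card_map_of_injective (MulAut.conj (y : G)).injective, A.card_C hq, ho, one_mul] at this
    exact hP9.trans this
  norm_num at h9

/-- the preimage of the linear part -/
noncomputable def lin : Subgroup G := A.pre (commutator _)

theorem lin_le : A.lin ≤ centralizer {A.z} := Subgroup.map_subtype_le _

include hq in
theorem card_lin : Nat.card A.lin = A.o * 24 := by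
  rw [lin, A.card_pre]
  congr 1
  have h := (commutator (↥(centralizer {A.z}) ⧸ Cfsg.oddCore ↥(centralizer {A.z}))).card_mul_index
  rw [A.D.index_comm, A.D.card_H_three hq] at h
  omega

theorem mem_lin {x : ↥(centralizer {A.z})} : (x : G) ∈ A.lin ↔ A.p x ∈ commutator _ := A.coe_mem_pre

theorem z_mem_lin : A.z ∈ A.lin := by
  refine (A.mem_lin (x := A.zC)).2 ?_
  rw [A.p_z, A.D.comm_eq, Subgroup.mem_comap, A.D.π_z]
  exact one_mem _

theorem core_le_lin : A.core ≤ A.lin := fun k hk => by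
  obtain ⟨h, h1⟩ := A.mem_core.1 hk
  exact (A.mem_lin (x := ⟨k, h⟩)).2 (h1 ▸ one_mem _)

theorem lin_comm_core {x k : G} (hx : x ∈ A.lin) (hk : k ∈ A.core) : Commute x k := by
  obtain ⟨h, h1⟩ := A.mem_core.1 hk
  exact congrArg Subtype.val (A.comm_core (x := ⟨k, h⟩) h1 (c := ⟨x, A.lin_le hx⟩) ((A.mem_lin (x := ⟨x, A.lin_le hx⟩)).1 hx)).eq

/-- the only involution of the linear part -/
theorem lin_invol {u : G} (hu : u ∈ A.lin) (h2 : orderOf u = 2) : u = A.z := by
  set u' : ↥(centralizer {A.z}) := ⟨u, A.lin_le hu⟩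
  by_contra hne
  have hout := A.isOuter_p (t := u') (by rw [Subgroup.orderOf_mk, h2]) fun h => hne (congrArg Subtype.val h)
  have hm := (A.mem_lin (x := u')).1 hu
  rw [A.D.comm_eq, Subgroup.mem_comap] at hm
  exact ((A.D.isOuter_iff).1 hout).2 hm

theorem t₀_not_lin : A.t₀ ∉ A.lin := fun h => A.t_ne_z (A.lin_invol h A.ord_t)

theorem mul_t₀_lin {g : G} (hg : g ∈ centralizer {A.z}) (hn : g ∉ A.lin) : g * A.t₀⁻¹ ∈ A.lin := by
  obtain ⟨ht, -⟩ := A.t₀_spec
  have h := (A.mem_lin (x := ⟨g, hg⟩ * ⟨A.t₀, ht⟩⁻¹)).2 (by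
    rw [map_mul, map_inv, Subgroup.mul_mem_iff_of_index_two A.D.index_comm, inv_mem_iff]
    exact iff_of_false (mt (A.mem_lin (x := ⟨g, hg⟩)).2 hn) (mt (A.mem_lin (x := ⟨A.t₀, ht⟩)).2 A.t₀_not_lin))
  simpa using h

theorem conj_lin {g x : G} (hg : g ∈ centralizer {A.z}) (hx : x ∈ A.lin) : g * x * g⁻¹ ∈ A.lin := by
  have h := (A.mem_lin (x := ⟨g, hg⟩ * ⟨x, A.lin_le hx⟩ * ⟨g, hg⟩⁻¹)).2 (by
    rw [map_mul, map_mul, map_inv]
    exact (inferInstance : (commutator (↥(centralizer {A.z}) ⧸ Cfsg.oddCore ↥(centralizer {A.z}))).Normal).conj_mem _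
      ((A.mem_lin (x := ⟨x, A.lin_le hx⟩)).1 hx) _)
  simpa using h

theorem inv_core {k : G} (hk : k ∈ A.core) : A.t₀ * k * A.t₀⁻¹ = k⁻¹ := by
  obtain ⟨R⟩ := A.exists_tor
  exact R.inv_core k hk

theorem out_inv_core {g k : G} (hg : g ∈ centralizer {A.z}) (hn : g ∉ A.lin) (hk : k ∈ A.core) :
    g * k * g⁻¹ = k⁻¹ := by
  have h := A.lin_comm_core (A.mul_t₀_lin hg hn) (inv_mem hk)
  calc g * k * g⁻¹ = (g * A.t₀⁻¹) * (A.t₀ * k * A.t₀⁻¹) * (g * A.t₀⁻¹)⁻¹ := by group
    _ = k⁻¹ := by rw [A.inv_core hk, h.eq, mul_inv_cancel_right]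

include hq in
/-- **the centraliser of a core element** -/
theorem cent_core {w : G} (hw : w ∈ A.core) (hw1 : w ≠ 1) {x : G} (hx : Commute x w) : x ∈ A.lin := by
  classical
  haveI : Fact (Nat.Prime 2) := ⟨Nat.prime_two⟩
  have hwsq : w⁻¹ ≠ w := fun h => hw1 (orderOf_eq_one_iff.1 (Nat.eq_one_of_dvd_coprimes
    (Nat.coprime_two_left.2 (A.odd_core hw))
    (orderOf_dvd_of_pow_eq_one (by rw [sq]; exact mul_eq_one_iff_eq_inv.2 h.symm)) dvd_rfl))
  have hC : ∀ v : G, Commute v A.z → Commute v w → v ∈ A.lin := fun v hvz hvw => by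
    by_contra hn
    exact hwsq (by rw [← A.out_inv_core (A.commute_z.2 hvz) hn hw, hvw.eq, mul_inv_cancel_right])
  refine hC x ?_ hx
  set X := centralizer ({w} : Set G) with hX
  have hXl : ∀ v ∈ A.lin, v ∈ X := fun v hv => Subgroup.mem_centralizer_singleton_iff.2 (A.lin_comm_core hv hw).eq
  set z' : X := ⟨A.z, hXl _ A.z_mem_lin⟩
  have hz'o : orderOf z' = 2 := by rw [Subgroup.orderOf_mk, A.hz]
  obtain ⟨S, hS⟩ := (IsPGroup.of_card (n := 1) (by rw [Nat.card_zpowers, hz'o, pow_one]) :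
    IsPGroup 2 (zpowers z')).exists_le_sylow
  have huniq : ∀ v ∈ (S : Subgroup X), orderOf v = 2 → v = z' := by
    haveI : Nontrivial (S : Subgroup X) := (Subgroup.nontrivial_iff_ne_bot _).2 fun h => by
      have := h ▸ hS (mem_zpowers z')
      rw [Subgroup.mem_bot] at this
      rw [this, orderOf_one] at hz'o
      omega
    haveI := S.2.center_nontrivial
    obtain ⟨j, hj0, hj⟩ : ∃ j, j ≠ 0 ∧ Nat.card (center (S : Subgroup X)) = 2 ^ j := by
      obtain ⟨j, hj⟩ := (S.2.to_subgroup (center (S : Subgroup X))).exists_card_eq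
      refine ⟨j, fun h => ?_, hj⟩
      have := Finite.one_lt_card_iff_nontrivial.2 (inferInstance : Nontrivial (center (S : Subgroup X)))
      rw [hj, h] at this
      omega
    obtain ⟨u, hu⟩ := exists_prime_orderOf_dvd_card' (G := center (S : Subgroup X)) 2 (hj ▸ dvd_pow_self 2 hj0)
    have hcomm : ∀ v ∈ (S : Subgroup X), Commute v ((u : (S : Subgroup X)) : X) := fun v hv =>
      congrArg Subtype.val (Subgroup.mem_center_iff.1 u.2 ⟨v, hv⟩)
    have huz : (((u : (S : Subgroup X)) : X) : G) = A.z := by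
      refine A.lin_invol (hC _ ?_ (Subgroup.mem_centralizer_singleton_iff.1 ((u : (S : Subgroup X)) : X).2)) ?_
      · exact congrArg Subtype.val (hcomm z' (hS (mem_zpowers z'))).eq.symm
      · rw [Subgroup.orderOf_coe, Subgroup.orderOf_coe, Subgroup.orderOf_coe, hu]
    intro v hv hv2
    refine Subtype.ext (A.lin_invol (hC _ ?_ (Subgroup.mem_centralizer_singleton_iff.1 v.2)) ?_)
    · rw [← huz]
      exact congrArg Subtype.val (hcomm v hv).eq
    · rw [Subgroup.orderOf_coe, hv2]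
  have hzc := CfsgLib.Invol.zcentral_of_unique_invol S hz'o huniq
  set Y := Cfsg.pPrimeCore 2 X
  haveI : Y.Normal := inferInstance
  have hY : Odd (Nat.card Y) := GW.odd_oddCore X
  -- the involution lies in the derived group
  have hzcomm : z' ∈ commutator X := by
    obtain ⟨a, ha⟩ := A.p_surj (A.D.e ^ 2)
    obtain ⟨b, hb⟩ := A.p_surj (A.D.τ * A.D.e)
    have hal : (a : G) ∈ A.lin := (A.mem_lin (x := a)).2 (by rw [ha, A.D.e_pow_mem]; exact even_two)
    have hbl : (b : G) ∈ A.lin := (A.mem_lin (x := b)).2 (by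
      rw [hb, Subgroup.mul_mem_iff_of_index_two A.D.index_comm]
      refine iff_of_false ?_ ?_
      · intro h
        rw [A.D.comm_eq, Subgroup.mem_comap] at h
        exact ((A.D.isOuter_iff).1 A.D.isOuter_τ).2 h
      · intro h
        rw [← pow_one A.D.e, A.D.e_pow_mem] at h
        exact Nat.not_even_one h)
    set d := b * a * b⁻¹ * a⁻¹ with hd
    have hpd : A.p d = A.D.z := by
      have h1 : A.D.τ * A.D.e * A.D.e ^ 2 * (A.D.τ * A.D.e)⁻¹ = (A.D.e ^ 2)⁻¹ := by
        rw [show A.D.τ * A.D.e * A.D.e ^ 2 * (A.D.τ * A.D.e)⁻¹ = A.D.τ * A.D.e ^ 2 * A.D.τ⁻¹ by group,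
          A.D.conj_e_pow, A.D.z_sq, one_mul]
      rw [hd, map_mul, map_mul, map_mul, map_inv, map_inv, ha, hb, h1, ← mul_inv_rev, ← pow_add,
        show 2 + 2 = A.D.k from (A.D.m_k_three hq).2.symm, A.D.e_pow_k]
      exact inv_eq_of_mul_eq_one_right (by rw [← sq]; exact A.D.z_sq)
    set k := A.zC * d with hk
    have hk1 : A.p k = 1 := by rw [hk, map_mul, A.p_z, hpd, ← sq, A.D.z_sq]
    have hko : k ^ A.o = 1 := by
      have : (⟨k, by rw [← A.p_ker]; exact hk1⟩ : Cfsg.oddCore ↥(centralizer {A.z})) ^ A.o = 1 := pow_card_eq_one'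
      exact congrArg Subtype.val this
    have hdk : d = A.zC * k := by rw [hk, ← mul_assoc, mul_self_of_order_two A.ord_zC, one_mul]
    have hdo : d ^ A.o = A.zC := by
      obtain ⟨l, hl⟩ := A.odd_o
      rw [hdk, (A.zC_comm k).mul_pow, hko, mul_one, hl, pow_succ, pow_mul, sq_of_order_two A.ord_zC, one_pow,
        one_mul]
    have hdX : (⟨b, hXl _ hbl⟩ : X) * ⟨a, hXl _ hal⟩ * (⟨b, hXl _ hbl⟩ : X)⁻¹ * (⟨a, hXl _ hal⟩ : X)⁻¹ ∈ commutator X :=
      Subgroup.commutator_mem_commutator (mem_top _) (mem_top _)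
    have := pow_mem hdX A.o
    rwa [show ((⟨b, hXl _ hbl⟩ : X) * ⟨a, hXl _ hal⟩ * (⟨b, hXl _ hbl⟩ : X)⁻¹ * (⟨a, hXl _ hal⟩ : X)⁻¹) ^ A.o = z'
      from Subtype.ext (by
        have h5 : ((d ^ A.o : ↥(centralizer {A.z})) : G) = A.z := congrArg Subtype.val hdo
        rw [hd] at h5
        push_cast at h5 ⊢
        exact h5)] at this
  have hfix : ∀ v ∈ Y, Commute z' v := fun v hv =>
    commute_two_element (A.hG.subgroup X) Y hY hzcomm (j := 1) (sq_of_order_two hz'o) hv
  set g : X := ⟨x, Subgroup.mem_centralizer_singleton_iff.2 hx.eq⟩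
  have hg : z' * g * z'⁻¹ = g := by
    set v := z' * g * z'⁻¹ * g⁻¹ with hv
    have hvY : v ∈ Y := hzc g
    have h1 : z' * g * z'⁻¹ = v * g := by rw [hv, inv_mul_cancel_right]
    have h2 : z' * (v * g) * z'⁻¹ = v * (v * g) := by
      rw [show z' * (v * g) * z'⁻¹ = (z' * v * z'⁻¹) * (z' * g * z'⁻¹) by group, (hfix v hvY).eq,
        mul_inv_cancel_right, h1]
    rw [← h1, show z' * (z' * g * z'⁻¹) * z'⁻¹ = (z' * z') * g * (z' * z')⁻¹ by group,
      mul_self_of_order_two hz'o, one_mul, inv_one, mul_one, h1, ← mul_assoc] at h2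
    have h3 : v * v = 1 := mul_eq_right.1 h2.symm
    have h4 : v = 1 := orderOf_eq_one_iff.1 (Nat.eq_one_of_dvd_coprimes (Nat.coprime_two_left.2
      (hY.of_dvd_nat (Subgroup.orderOf_dvd_natCard Y hvY))) (orderOf_dvd_of_pow_eq_one (by rw [sq, h3])) dvd_rfl)
    rw [h1, h4, one_mul]
  exact congrArg Subtype.val (mul_inv_eq_iff_eq_mul.1 hg).symm

end Setup

end CfsgLib.OddCyc
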