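import Cfsg.Agent.Lib.OddCyc.Basic
import Cfsg.Agent.Lib.GW.PGLCount
import Cfsg.Agent.Lib.Classical.PslBin.Seven

/-!
# The tori of `PGL(2, q)` through involutions and elements of two-power order
-/

set_option autoImplicit false
set_option linter.unusedSectionVars false
set_option linter.style.haveILetI false

namespace CfsgLib.OddCyc

open Subgroup Matrix CfsgLib.Perm.Dickson CfsgLib.GW

variable {F : Type*} [Field F] [Finite F]

/-- an element conjugating one torus element to another keeps the pair -/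
theorem mem_pairSet_of_conj {a b : P2 (Kc F)} (hab : a ≠ b) {j j' g : G2 F} (hj : j ∈ pairFix a b)
    (hj' : j' ∈ pairFix a b) (hj1 : j' ≠ 1) (hc : g * j = j' * g) : g ∈ pairSet a b := by
  obtain ⟨ha, hb⟩ := mem_pairFix.1 hj
  obtain ⟨ha', hb'⟩ := mem_pairFix.1 hj'
  have key : ∀ z, mapG (iF F) j • z = z → mapG (iF F) g • z = a ∨ mapG (iF F) g • z = b := by
    intro z hz
    have h' : mapG (iF F) j' • mapG (iF F) g • z = mapG (iF F) g • z := by
      rw [← mul_smul, ← map_mul, ← hc, map_mul, mul_smul, hz]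
    by_contra hcon
    push Not at hcon
    exact hj1 ((map_eq_one_iff _ (mapG_injective _)).1 (eq_one_of_three hab hcon.1.symm hcon.2.symm ha' hb' h'))
  rcases key a ha with e1 | e1 <;> rcases key b hb with e2 | e2
  · exact absurd (MulAction.injective _ (e1.trans e2.symm)) hab
  · exact mem_pairSet.2 (Or.inl ⟨e1, e2⟩)
  · exact mem_pairSet.2 (Or.inr ⟨e1, e2⟩)
  · exact absurd (MulAction.injective _ (e1.trans e2.symm)) hab

/-- swaps invert the torus -/
theorem swap_conj {a b : P2 (Kc F)} (hab : a ≠ b) {g x : G2 F} (hg : g ∈ pairSet a b) (hn : g ∉ pairFix a b)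
    (hx : x ∈ pairFix a b) : g * x * g⁻¹ = x⁻¹ := by
  have h1 := sq_of_swap hab hg hn
  have h2 := sq_of_swap hab (mul_mem hg (pairFix_le_pairSet a b hx)) fun h => hn ((mul_mem_cancel_right hx).1 h)
  rw [inv_eq_of_mul_eq_one_right h1]
  exact eq_inv_of_mul_eq_one_left (by rw [← h2]; group)

/-- two swaps differ by an element of the torus -/
theorem mul_swap_mem {a b : P2 (Kc F)} {g h : G2 F} (hg : g ∈ pairSet a b) (hgn : g ∉ pairFix a b)
    (hh : h ∈ pairSet a b) (hhn : h ∉ pairFix a b) : g⁻¹ * h ∈ pairFix a b := by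
  obtain ⟨g1, g2⟩ := swap_of_not_mem hg hgn
  obtain ⟨h1, h2⟩ := swap_of_not_mem hh hhn
  refine mem_pairFix.2 ⟨?_, ?_⟩ <;> rw [map_mul, map_inv, mul_smul, inv_smul_eq_iff]
  · rw [h1, g1]
  · rw [h2, g2]

/-- an element commuting with a torus element of order above two lies in the torus -/
theorem mem_pairFix_of_commute {a b : P2 (Kc F)} (hab : a ≠ b) {j g : G2 F} (hj : j ∈ pairFix a b)
    (hj2 : j * j ≠ 1) (hc : Commute j g) : g ∈ pairFix a b := by
  have hj1 : j ≠ 1 := fun h => hj2 (by rw [h, mul_one])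
  by_contra hn
  have hg := mem_pairSet_of_conj hab hj hj hj1 hc.eq.symm
  have h := swap_conj hab hg hn hj
  rw [hc.eq.symm, mul_inv_cancel_right] at h
  exact hj2 (mul_eq_one_iff_eq_inv.2 h)

theorem invCard_four (ho : Odd (Nat.card F)) : 4 ∣ invCard (Nat.card F) := by
  obtain ⟨j, hj⟩ := ho
  have := (Finite.one_lt_card : 1 < Nat.card F)
  unfold invCard
  split_ifs <;> omega

theorem outer_not_four (ho : Odd (Nat.card F)) : ¬ 4 ∣ outerCard (Nat.card F) := by
  obtain ⟨j, hj⟩ := ho
  have := (Finite.one_lt_card : 1 < Nat.card F)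
  unfold outerCard
  split_ifs <;> omega

theorem card_pairFix_cases {a b : P2 (Kc F)} (hgood : GoodPair a b) :
    Nat.card (pairFix a b) = invCard (Nat.card F) ∨ Nat.card (pairFix a b) = outerCard (Nat.card F) := by
  unfold invCard outerCard
  rcases card_pairFix hgood with ⟨-, h⟩ | ⟨-, h⟩ <;> rw [h] <;> split_ifs <;> simp

theorem exists_torus_of_two_pow (ho : Odd (Nat.card F)) {g : G2 F} (hg : g ≠ 1) {j : ℕ}
    (hj : orderOf g = 2 ^ j) : ∃ a b, GoodPair a b ∧ g ∈ pairFix a b := by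
  obtain ⟨p, hchar⟩ := CharP.exists F
  haveI := hchar
  haveI : Fact p.Prime := ⟨CharP.char_is_prime F p⟩
  refine exists_torus p hg fun h => ?_
  haveI := Fintype.ofFinite F
  obtain ⟨n, -, hn⟩ := FiniteField.card F p
  rw [← Nat.card_eq_fintype_card] at hn
  have h2 : p = 2 := (Nat.prime_dvd_prime_iff_eq (Fact.out : p.Prime) Nat.prime_two).1
    ((Fact.out : p.Prime).dvd_of_dvd_pow (n := j) (by rw [← hj, h]))
  subst h2
  rw [hn] at ho
  exact Nat.not_odd_iff_even.2 (even_iff_two_dvd.2 (dvd_pow_self 2 n.ne_zero)) ho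

/-- the torus of an element of order `2 ^ j ≥ 4` -/
theorem exists_inner_torus (ho : Odd (Nat.card F)) {g : G2 F} {j : ℕ} (hj : orderOf g = 2 ^ j) (hj2 : 2 ≤ j) :
    ∃ a b, GoodPair a b ∧ g ∈ pairFix a b ∧ Nat.card (pairFix a b) = invCard (Nat.card F) := by
  have hg : g ≠ 1 := fun h => by
    rw [h, orderOf_one] at hj
    exact absurd hj.symm (Nat.one_lt_two_pow (by omega)).ne'
  obtain ⟨a, b, hgood, hm⟩ := exists_torus_of_two_pow ho hg hj
  refine ⟨a, b, hgood, hm, (card_pairFix_cases hgood).resolve_right fun h => outer_not_four ho ?_⟩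
  rw [← h]
  exact dvd_trans (by rw [hj, show 4 = 2 ^ 2 by norm_num]; exact pow_dvd_pow 2 hj2)
    (Subgroup.orderOf_dvd_natCard _ hm)

/-- the torus of an involution tells whether it lies in `PSL` -/
theorem mem_psl_iff_card (ho : Odd (Nat.card F)) {a b : P2 (Kc F)} (hgood : GoodPair a b) {g : G2 F}
    (hg : orderOf g = 2) (hm : g ∈ pairFix a b) :
    g ∈ psl F ↔ Nat.card (pairFix a b) = invCard (Nat.card F) := by
  classical
  haveI := finite_G2 (F := F)
  haveI : IsCyclic (pairFix a b) := isCyclic_pairFix hgood.1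
  obtain ⟨c, hc⟩ := IsCyclic.exists_ofOrder_eq_natCard (α := pairFix a b)
  set n := Nat.card (pairFix a b) with hn
  have h2 : 2 ∣ n := hg ▸ Subgroup.orderOf_dvd_natCard _ hm
  -- the involution of the torus is a power of the generator
  have hgc : g = (c : G2 F) ^ (n / 2) := by
    haveI := Fintype.ofFinite (pairFix a b)
    have h1 := IsCyclic.card_orderOf_eq_totient (α := pairFix a b) (d := 2) (by rwa [← Nat.card_eq_fintype_card])
    rw [Nat.totient_two] at h1
    refine congrArg Subtype.val (Finset.card_le_one.1 h1.le (⟨g, hm⟩ : pairFix a b)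
      (Finset.mem_filter.2 ⟨Finset.mem_univ _, by rw [Subgroup.orderOf_mk, hg]⟩) (c ^ (n / 2))
      (Finset.mem_filter.2 ⟨Finset.mem_univ _, ?_⟩))
    have hn0 : 0 < n := Nat.card_pos
    have hne : n / 2 ≠ 0 := by have := Nat.le_of_dvd hn0 h2; omega
    rw [orderOf_pow' _ hne, hc, Nat.gcd_eq_right (Nat.div_dvd_of_dvd h2)]
    rw [Nat.div_div_self h2 hn0.ne']
  have hcn : (c : G2 F) ∉ psl F := fun h => by
    obtain ⟨x, hx, hxn⟩ := exists_not_mem_psl ho hgood
    obtain ⟨i, hi⟩ : (⟨x, hx⟩ : pairFix a b) ∈ zpowers c := by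
      rw [Subgroup.eq_top_of_card_eq (zpowers c) (by rw [Nat.card_zpowers, hc])]; trivial
    exact hxn (by rw [show x = (c : G2 F) ^ i by simpa using (congrArg Subtype.val hi).symm]; exact zpow_mem h i)
  have hidx : (psl F).index = 2 := by rw [index_psl_eq, gcd_odd ho]
  rw [hgc, pow_mem_iff_of_index_two hidx hcn]
  constructor
  · intro he
    refine (card_pairFix_cases hgood).resolve_right fun h => outer_not_four ho ?_
    rw [← h, ← hn, ← Nat.div_mul_cancel h2]
    obtain ⟨e, he'⟩ := he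
    exact ⟨e, by omega⟩
  · intro h
    obtain ⟨e, he⟩ := invCard_four (F := F) ho
    exact ⟨e, by omega⟩

/-- the torus of an involution -/
theorem exists_invol_torus (ho : Odd (Nat.card F)) {g : G2 F} (hg : orderOf g = 2) :
    ∃ a b, GoodPair a b ∧ g ∈ pairFix a b ∧
      (g ∈ psl F → Nat.card (pairFix a b) = invCard (Nat.card F)) ∧
      (g ∉ psl F → Nat.card (pairFix a b) = outerCard (Nat.card F)) := by
  obtain ⟨a, b, hgood, hm⟩ := exists_torus_of_two_pow ho (g := g) (j := 1) (fun h => by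
    rw [h, orderOf_one] at hg; omega) (by rw [hg]; rfl)
  have h := mem_psl_iff_card ho hgood hg hm
  exact ⟨a, b, hgood, hm, h.1, fun hn => (card_pairFix_cases hgood).resolve_left fun e => hn (h.2 e)⟩

/-- unipotent elements are conjugate to their powers -/
theorem exists_unipotent (hq : (Nat.card F).Prime) :
    ∃ u : G2 F, orderOf u = Nat.card F ∧ ∀ k : ℕ, ¬ Nat.card F ∣ k → IsConj u (u ^ k) := by
  haveI := Fintype.ofFinite F
  haveI : Fact (Nat.card F).Prime := ⟨hq⟩
  have hcast : ∀ k : ℕ, ¬ Nat.card F ∣ k → (k : F) ≠ 0 := by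
    intro k hk h
    obtain ⟨p, hchar⟩ := CharP.exists F
    haveI := hchar
    haveI : Fact p.Prime := ⟨CharP.char_is_prime F p⟩
    obtain ⟨n, -, hn⟩ := FiniteField.card F p
    rw [← Nat.card_eq_fintype_card] at hn
    have hp : Nat.card F = p := by
      have h1 : p ∣ Nat.card F := hn ▸ dvd_pow_self p n.ne_zero
      exact ((Nat.prime_dvd_prime_iff_eq (Fact.out : p.Prime) hq).1 h1).symm
    exact hk (hp ▸ (CharP.cast_eq_zero_iff F p k).1 h)
  refine ⟨tr 1, orderOf_eq_prime ?_ fun h => one_ne_zero (tr_injective (h.trans tr_zero.symm)), fun k hk => ?_⟩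
  · rw [tr_pow, mul_one, Nat.card_eq_fintype_card, Nat.cast_card_eq_zero, tr_zero]
  · refine isConj_iff.2 ⟨di (Units.mk0 (k : F) (hcast k hk)), ?_⟩
    rw [mul_inv_eq_iff_eq_mul]
    refine ext_fp (by rw [mul_smul, mul_smul, tr_ip, di_ip, tr_pow, tr_ip]) fun z => ?_
    rw [mul_smul, mul_smul, tr_fp, di_fp, di_fp, tr_pow, tr_fp, Units.val_mk0]
    congr 1
    ring

end CfsgLib.OddCyc
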